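import Mathlib
import Groth.Agent.Lib.Helper5.TorAmp.FlatAcyc

set_option autoImplicit false
universe u
open CategoryTheory Limits CochainComplex HomComplex

namespace Groth.Agent.Helper5.ConeEl
open mappingCone
variable {R : Type u} [CommRing R]
variable {F G : CochainComplex (ModuleCat.{u} R) ℤ} (φ : F ⟶ G)

/-- first projection of the mapping cone, on elements -/
noncomputable def fstL (i j : ℤ) (hij : i + 1 = j) : (mappingCone φ).X i →ₗ[R] F.X j :=
  ((fst φ).1.v i j hij).hom

/-- second projection of the mapping cone, on elements -/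
noncomputable def sndL (i : ℤ) : (mappingCone φ).X i →ₗ[R] G.X i :=
  ((snd φ).v i i (add_zero i)).hom

/-- first inclusion -/
noncomputable def inlL (i j : ℤ) (hij : i + 1 = j) : F.X j →ₗ[R] (mappingCone φ).X i :=
  ((inl φ).v j i (by omega)).hom

/-- second inclusion -/
noncomputable def inrL (i : ℤ) : G.X i →ₗ[R] (mappingCone φ).X i :=
  ((inr φ).f i).hom

theorem fstL_inlL (i j : ℤ) (hij : i + 1 = j) (f : F.X j) :
    fstL φ i j hij (inlL φ i j hij f) = f := by
  have := congrArg (fun t => t.hom f) (inl_v_fst_v φ j i hij)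
  exact this

theorem sndL_inlL (i j : ℤ) (hij : i + 1 = j) (f : F.X j) :
    sndL φ i (inlL φ i j hij f) = 0 := by
  have := congrArg (fun t => t.hom f) (inl_v_snd_v φ j i (by omega))
  exact this

theorem fstL_inrL (i j : ℤ) (hij : i + 1 = j) (g : G.X i) :
    fstL φ i j hij (inrL φ i g) = 0 := by
  have := congrArg (fun t => t.hom g) (inr_f_fst_v φ i j hij)
  exact this

theorem sndL_inrL (i : ℤ) (g : G.X i) : sndL φ i (inrL φ i g) = g := by
  have := congrArg (fun t => t.hom g) (inr_f_snd_v φ i)
  exact this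

theorem ext (i j : ℤ) (hij : i + 1 = j) {x y : (mappingCone φ).X i}
    (h1 : fstL φ i j hij x = fstL φ i j hij y) (h2 : sndL φ i x = sndL φ i y) : x = y := by
  have := congrArg (fun t => t.hom x) (id_X φ i j hij)
  have h3 : x = inlL φ i j hij (fstL φ i j hij x) + inrL φ i (sndL φ i x) := by
    simpa [fstL, sndL, inlL, inrL] using this.symm
  have := congrArg (fun t => t.hom y) (id_X φ i j hij)
  have h4 : y = inlL φ i j hij (fstL φ i j hij y) + inrL φ i (sndL φ i y) := by
    simpa [fstL, sndL, inlL, inrL] using this.symm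
  rw [h3, h4, h1, h2]

theorem decomp (i j : ℤ) (hij : i + 1 = j) (x : (mappingCone φ).X i) :
    x = inlL φ i j hij (fstL φ i j hij x) + inrL φ i (sndL φ i x) := by
  have := congrArg (fun t => t.hom x) (id_X φ i j hij)
  simpa [fstL, sndL, inlL, inrL] using this.symm

theorem fstL_d (i j k : ℤ) (hij : i + 1 = j) (hjk : j + 1 = k) (x : (mappingCone φ).X i) :
    fstL φ j k hjk (((mappingCone φ).d i j).hom x) = -(F.d j k).hom (fstL φ i j hij x) := by
  have := congrArg (fun t => t.hom x) (d_fst_v φ i j k hij hjk)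
  simpa [fstL] using this

theorem sndL_d (i j : ℤ) (hij : i + 1 = j) (x : (mappingCone φ).X i) :
    sndL φ j (((mappingCone φ).d i j).hom x) =
      (φ.f j).hom (fstL φ i j hij x) + (G.d i j).hom (sndL φ i x) := by
  have := congrArg (fun t => t.hom x) (d_snd_v φ i j hij)
  simpa [fstL, sndL] using this

theorem desc_apply {K : CochainComplex (ModuleCat.{u} R) ℤ} (α : Cochain F K (-1)) (β : G ⟶ K)
    (eq : δ (-1) 0 α = Cochain.ofHom (φ ≫ β)) (i j : ℤ) (hij : i + 1 = j)
    (x : (mappingCone φ).X i) :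
    ((desc φ α β eq).f i).hom x =
      (α.v j i (by omega)).hom (fstL φ i j hij x) + (β.f i).hom (sndL φ i x) := by
  have := congrArg (fun t => t.hom x) (desc_f φ α β eq i j hij)
  simpa [fstL, sndL] using this

theorem inrL_d (i j : ℤ) (g : G.X i) :
    ((mappingCone φ).d i j).hom (inrL φ i g) = inrL φ j ((G.d i j).hom g) := by
  have := congrArg (fun t => t.hom g) (inr_f_d φ i j)
  exact this

theorem fstL_add_inl_inr (i j : ℤ) (hij : i + 1 = j) (f : F.X j) (g : G.X i) :
    fstL φ i j hij (inlL φ i j hij f + inrL φ i g) = f := by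
  rw [map_add, fstL_inlL, fstL_inrL, add_zero]

theorem sndL_add_inl_inr (i j : ℤ) (hij : i + 1 = j) (f : F.X j) (g : G.X i) :
    sndL φ i (inlL φ i j hij f + inrL φ i g) = g := by
  rw [map_add, sndL_inlL, sndL_inrL, zero_add]

open Groth.Agent.Helper5.FlatAcyc in
/-- exactness of a mapping cone in terms of pairs -/
theorem exactAt_cone_iff (h i j k : ℤ) (hhi : h + 1 = i) (hij : i + 1 = j) (hjk : j + 1 = k) :
    (mappingCone φ).ExactAt i ↔
      ∀ (f : F.X j) (g : G.X i), (F.d j k).hom f = 0 → (φ.f j).hom f + (G.d i j).hom g = 0 →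
        ∃ (f' : F.X i) (g' : G.X h),
          -(F.d i j).hom f' = f ∧ (φ.f i).hom f' + (G.d h i).hom g' = g := by
  constructor
  · intro hex f g hf hg
    have hE := exact_of_exactAt (mappingCone φ) h i j hhi hij hex
    let x := inlL φ i j hij f + inrL φ i g
    have hx : ((mappingCone φ).d i j).hom x = 0 := by
      apply ext φ j k hjk
      · rw [fstL_d φ i j k hij hjk, fstL_add_inl_inr, hf, neg_zero, map_zero]
      · rw [sndL_d φ i j hij, fstL_add_inl_inr, sndL_add_inl_inr, hg, map_zero]
    obtain ⟨y, hy⟩ := (hE x).1 hx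
    refine ⟨fstL φ h i hhi y, sndL φ h y, ?_, ?_⟩
    · rw [← fstL_d φ h i j hhi hij, hy, fstL_add_inl_inr]
    · rw [← sndL_d φ h i hhi, hy, sndL_add_inl_inr]
  · intro H
    refine exactAt_of_exact (mappingCone φ) h i j hhi hij ?_
    intro x
    constructor
    · intro hx
      have h1 : (F.d j k).hom (fstL φ i j hij x) = 0 := by
        have := fstL_d φ i j k hij hjk x
        rw [hx, map_zero] at this
        exact neg_eq_zero.1 this.symm
      have h2 : (φ.f j).hom (fstL φ i j hij x) + (G.d i j).hom (sndL φ i x) = 0 := by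
        rw [← sndL_d φ i j hij, hx, map_zero]
      obtain ⟨f', g', hf', hg'⟩ := H _ _ h1 h2
      refine ⟨inlL φ h i hhi f' + inrL φ h g', ?_⟩
      apply ext φ i j hij
      · rw [fstL_d φ h i j hhi hij, fstL_add_inl_inr, hf']
      · rw [sndL_d φ h i hhi, fstL_add_inl_inr, sndL_add_inl_inr, hg']
    · rintro ⟨y, rfl⟩
      have := congrArg (fun t => t.hom y) ((mappingCone φ).d_comp_d h i j)
      exact this

end Groth.Agent.Helper5.ConeEl
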