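import Groth.Agent.Lib.Helper5.DRing.Cone
import Mathlib

set_option autoImplicit false
universe u
open CategoryTheory Limits Pretriangulated DerivedCategory
attribute [local instance] HasDerivedCategory.standard
open CAlg

namespace Groth.Agent.Helper5.DRingCone

variable {A : Type u} [CommRing A]

/-- bounded above complexes of finite free modules -/
def PCClass (E : CochainComplex (ModuleCat.{u} A) ℤ) : Prop :=
  ∃ b : ℤ, DRing.VanishesAbove E b ∧ DRing.TermwiseFiniteFree E

/-- bounded complexes of finite projective modules -/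
def PerfClass (E : CochainComplex (ModuleCat.{u} A) ℤ) : Prop :=
  ∃ a b : ℤ, DRing.VanishesOutside E a b ∧ DRing.TermwiseFiniteProjective E

theorem rep_pc_iff (K : Dual.D A) : Rep PCClass K ↔ DRing.IsPseudoCoherent' A K := by
  constructor
  · rintro ⟨E, ⟨b, h1, h2⟩, h3⟩
    exact ⟨E, b, h1, h2, h3⟩
  · rintro ⟨E, b, h1, h2, h3⟩
    exact ⟨E, ⟨b, h1, h2⟩, h3⟩

theorem rep_perf_iff (K : Dual.D A) : Rep PerfClass K ↔ DRing.IsPerfect A K := by
  constructor
  · rintro ⟨E, ⟨a, b, h1, h2⟩, h3⟩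
    exact ⟨E, a, b, h1, h2, h3⟩
  · rintro ⟨E, a, b, h1, h2, h3⟩
    exact ⟨E, ⟨a, b, h1, h2⟩, h3⟩

theorem kproj_of_proj (P : CochainComplex (ModuleCat.{u} A) ℤ) (b : ℤ)
    (hb : ∀ i, b < i → IsZero (P.X i)) (hp : ∀ i, Module.Projective A (P.X i)) :
    P.IsKProjective := by
  have : P.IsStrictlyLE b := by
    rw [CochainComplex.isStrictlyLE_iff]
    exact hb
  have : ∀ n, Projective (P.X n) := fun n => by
    have := hp n
    exact (IsProjective.iff_projective (P.X n)).1 this
  exact CochainComplex.isKProjective_of_projective P b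

theorem PCClass.kproj (E : CochainComplex (ModuleCat.{u} A) ℤ) (h : PCClass E) :
    E.IsKProjective := by
  obtain ⟨b, h1, h2⟩ := h
  exact Groth.Agent.S2067.kproj_of E b h1 h2

theorem PerfClass.kproj (E : CochainComplex (ModuleCat.{u} A) ℤ) (h : PerfClass E) :
    E.IsKProjective := by
  obtain ⟨a, b, h1, h2⟩ := h
  exact kproj_of_proj E b (fun i hi => h1 i (Or.inr hi)) (fun i => (h2 i).2)

theorem PCClass.shift (E : CochainComplex (ModuleCat.{u} A) ℤ) (n : ℤ) (h : PCClass E) :
    PCClass (E⟦n⟧) := by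
  obtain ⟨b, h1, h2⟩ := h
  refine ⟨b - n, ?_, ?_⟩
  · intro i hi
    exact h1 (i + n) (by omega)
  · intro i
    exact h2 (i + n)

theorem PerfClass.shift (E : CochainComplex (ModuleCat.{u} A) ℤ) (n : ℤ) (h : PerfClass E) :
    PerfClass (E⟦n⟧) := by
  obtain ⟨a, b, h1, h2⟩ := h
  refine ⟨a - n, b - n, ?_, ?_⟩
  · intro i hi
    exact h1 (i + n) (by omega)
  · intro i
    exact h2 (i + n)

theorem cone_finiteProjective {P R : CochainComplex (ModuleCat.{u} A) ℤ} (φ : P ⟶ R)
    (hP : DRing.TermwiseFiniteProjective P) (hR : DRing.TermwiseFiniteProjective R) :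
    DRing.TermwiseFiniteProjective (CochainComplex.mappingCone φ) := by
  intro i
  obtain ⟨h1, h2⟩ := hP (i+1)
  obtain ⟨h3, h4⟩ := hR i
  let e : (CochainComplex.mappingCone φ).X i ≅ ModuleCat.of A (P.X (i+1) × R.X i) :=
    HomologicalComplex.homotopyCofiber.XIsoBiprod φ i (i + 1) rfl ≪≫ ModuleCat.biprodIsoProd _ _
  exact ⟨Module.Finite.equiv e.symm.toLinearEquiv,
    Module.Projective.of_equiv e.symm.toLinearEquiv⟩

theorem PCClass.cone (E F : CochainComplex (ModuleCat.{u} A) ℤ) (φ : E ⟶ F)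
    (hE : PCClass E) (hF : PCClass F) : PCClass (CochainComplex.mappingCone φ) := by
  obtain ⟨b, h1, h2⟩ := hE
  obtain ⟨b', h1', h2'⟩ := hF
  refine ⟨max b b', ?_, Groth.Agent.S2067.cone_finiteFree φ h2 h2'⟩
  intro i hi
  rw [CochainComplex.mappingCone.isZero_X_iff]
  exact ⟨h1 _ (by have := le_max_left b b'; omega), h1' _ (by have := le_max_right b b'; omega)⟩

theorem PerfClass.cone (E F : CochainComplex (ModuleCat.{u} A) ℤ) (φ : E ⟶ F)
    (hE : PerfClass E) (hF : PerfClass F) : PerfClass (CochainComplex.mappingCone φ) := by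
  obtain ⟨a, b, h1, h2⟩ := hE
  obtain ⟨a', b', h1', h2'⟩ := hF
  refine ⟨min (a - 1) a', max b b', ?_, cone_finiteProjective φ h2 h2'⟩
  intro i hi
  rw [CochainComplex.mappingCone.isZero_X_iff]
  rcases hi with hi | hi
  · exact ⟨h1 _ (Or.inl (by have := min_le_left (a - 1) a'; omega)),
      h1' _ (Or.inl (by have := min_le_right (a - 1) a'; omega))⟩
  · exact ⟨h1 _ (Or.inr (by have := le_max_left b b'; omega)),
      h1' _ (Or.inr (by have := le_max_right b b'; omega))⟩

/-- 2-out-of-3 for pseudo-coherent objects (bounded above finite free representatives). -/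
theorem pc'_two_of_three (T : Triangle (Dual.D A)) (hT : T ∈ distTriang _) :
    (DRing.IsPseudoCoherent' A T.obj₁ → DRing.IsPseudoCoherent' A T.obj₂ →
      DRing.IsPseudoCoherent' A T.obj₃) ∧
    (DRing.IsPseudoCoherent' A T.obj₁ → DRing.IsPseudoCoherent' A T.obj₃ →
      DRing.IsPseudoCoherent' A T.obj₂) ∧
    (DRing.IsPseudoCoherent' A T.obj₂ → DRing.IsPseudoCoherent' A T.obj₃ →
      DRing.IsPseudoCoherent' A T.obj₁) := by
  simp only [← rep_pc_iff]
  exact two_of_three PCClass PCClass.kproj PCClass.shift PCClass.cone T hT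

/-- 2-out-of-3 for perfect objects. -/
theorem perfect_two_of_three (T : Triangle (Dual.D A)) (hT : T ∈ distTriang _) :
    (DRing.IsPerfect A T.obj₁ → DRing.IsPerfect A T.obj₂ → DRing.IsPerfect A T.obj₃) ∧
    (DRing.IsPerfect A T.obj₁ → DRing.IsPerfect A T.obj₃ → DRing.IsPerfect A T.obj₂) ∧
    (DRing.IsPerfect A T.obj₂ → DRing.IsPerfect A T.obj₃ → DRing.IsPerfect A T.obj₁) := by
  simp only [← rep_perf_iff]
  exact two_of_three PerfClass PerfClass.kproj PerfClass.shift PerfClass.cone T hT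

end Groth.Agent.Helper5.DRingCone
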