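import Groth.Agent.S2067
import Mathlib

set_option autoImplicit false
universe u
open CategoryTheory Limits Pretriangulated DerivedCategory
attribute [local instance] HasDerivedCategory.standard
open CAlg

namespace Groth.Agent.Helper5.DRingCone

variable {A : Type u} [CommRing A]

/-- Morphisms in `D(A)` out of a K-projective complex are represented by chain maps. -/
theorem exists_chain_map (P R : CochainComplex (ModuleCat.{u} A) ℤ) [P.IsKProjective]
    (v : Q.obj P ⟶ Q.obj R) : ∃ φ : P ⟶ R, Q.map φ = v := by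
  obtain ⟨w, hw⟩ := (CochainComplex.IsKProjective.Qh_map_bijective P
    ((HomotopyCategory.quotient _ _).obj R)).surjective
      ((quotientCompQhIso _).hom.app P ≫ v ≫ (quotientCompQhIso _).inv.app R)
  obtain ⟨φ, rfl⟩ := (HomotopyCategory.quotient _ _).map_surjective w
  refine ⟨φ, ?_⟩
  have := quotientCompQhIso_hom_naturality φ
  have h4 : Q.map φ = (quotientCompQhIso _).inv.app P ≫
      Qh.map ((HomotopyCategory.quotient _ _).map φ) ≫ (quotientCompQhIso _).hom.app R := by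
    rw [this]; simp
  rw [h4, hw]
  simp

/-- The third vertex of a distinguished triangle whose first two vertices are represented by
complexes `P` (K-projective) and `R` is represented by a mapping cone. -/
theorem cone_iso (T : Triangle (Dual.D A)) (hT : T ∈ distTriang _)
    (P R : CochainComplex (ModuleCat.{u} A) ℤ) [P.IsKProjective]
    (e₁ : Q.obj P ≅ T.obj₁) (e₂ : Q.obj R ≅ T.obj₂) :
    ∃ φ : P ⟶ R, Nonempty (Q.obj (CochainComplex.mappingCone φ) ≅ T.obj₃) := by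
  obtain ⟨φ, hφ⟩ := exists_chain_map P R (e₁.hom ≫ T.mor₁ ≫ e₂.inv)
  have hT₁ := mappingCone_triangle_distinguished φ
  refine ⟨φ, ⟨Triangle.π₃.mapIso (isoTriangleOfIso₁₂ _ _ hT₁ hT e₁ e₂ ?_)⟩⟩
  change Q.map φ ≫ e₂.hom = e₁.hom ≫ T.mor₁
  rw [hφ]
  simp

/-- Being represented by a complex in the class `C`. -/
def Rep (C : CochainComplex (ModuleCat.{u} A) ℤ → Prop) (K : Dual.D A) : Prop :=
  ∃ E, C E ∧ Nonempty (Q.obj E ≅ K)

theorem Rep.of_iso {C : CochainComplex (ModuleCat.{u} A) ℤ → Prop} {K L : Dual.D A}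
    (h : Rep C K) (e : K ≅ L) : Rep C L := by
  obtain ⟨E, hE, ⟨f⟩⟩ := h
  exact ⟨E, hE, ⟨f ≪≫ e⟩⟩

theorem Rep.shift {C : CochainComplex (ModuleCat.{u} A) ℤ → Prop}
    (hs : ∀ E (n : ℤ), C E → C (E⟦n⟧)) {K : Dual.D A} (h : Rep C K) (n : ℤ) :
    Rep C (K⟦n⟧) := by
  obtain ⟨E, hE, ⟨f⟩⟩ := h
  exact ⟨E⟦n⟧, hs E n hE, ⟨(Q.commShiftIso n).app E ≪≫ (shiftFunctor _ n).mapIso f⟩⟩

theorem Rep.of_shift {C : CochainComplex (ModuleCat.{u} A) ℤ → Prop}
    (hs : ∀ E (n : ℤ), C E → C (E⟦n⟧)) {K : Dual.D A} (n : ℤ) (h : Rep C (K⟦n⟧)) :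
    Rep C K :=
  (h.shift hs (-n)).of_iso ((shiftEquiv (Dual.D A) n).unitIso.symm.app K)

theorem two_of_three (C : CochainComplex (ModuleCat.{u} A) ℤ → Prop)
    (hk : ∀ E, C E → E.IsKProjective)
    (hs : ∀ E (n : ℤ), C E → C (E⟦n⟧))
    (hc : ∀ (E F : CochainComplex (ModuleCat.{u} A) ℤ) (φ : E ⟶ F), C E → C F →
      C (CochainComplex.mappingCone φ))
    (T : Triangle (Dual.D A)) (hT : T ∈ distTriang _) :
    (Rep C T.obj₁ → Rep C T.obj₂ → Rep C T.obj₃) ∧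
    (Rep C T.obj₁ → Rep C T.obj₃ → Rep C T.obj₂) ∧
    (Rep C T.obj₂ → Rep C T.obj₃ → Rep C T.obj₁) := by
  have key : ∀ (T : Triangle (Dual.D A)) (hT : T ∈ distTriang _),
      Rep C T.obj₁ → Rep C T.obj₂ → Rep C T.obj₃ := by
    intro T hT ⟨P, hP, ⟨e₁⟩⟩ ⟨R, hR, ⟨e₂⟩⟩
    have := hk P hP
    obtain ⟨φ, ⟨e⟩⟩ := cone_iso T hT P R e₁ e₂
    exact ⟨_, hc P R φ hP hR, ⟨e⟩⟩
  refine ⟨key T hT, ?_, ?_⟩
  · intro h1 h3
    exact key T.invRotate (inv_rot_of_distTriang T hT) (h3.shift hs (-1)) h1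
  · intro h2 h3
    have := key T.rotate (rot_of_distTriang T hT) h2 h3
    exact Rep.of_shift hs 1 this

end Groth.Agent.Helper5.DRingCone
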