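import Groth.Agent.Lib.Helper5.DRing.DevT
import Mathlib

set_option autoImplicit false
universe u
open CategoryTheory Limits Pretriangulated DerivedCategory
attribute [local instance] HasDerivedCategory.standard
open CAlg

namespace Groth.Agent.Helper5.Devissage

variable {A : Type u} [CommRing A]

open Groth.Agent.S2067 in
/-- Dévissage by terms of a bounded complex, unshifted form (term `K^i` placed in degree `i`). -/
theorem of_terms' (P : ObjectProperty (Dual.D A)) [P.IsClosedUnderIsomorphisms]
    (hext : ∀ T ∈ distTriang (Dual.D A), P T.obj₁ → P T.obj₃ → P T.obj₂)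
    (K : CochainComplex (ModuleCat.{u} A) ℤ) (a b : ℤ)
    (hK : ∀ i, (i < a ∨ b < i) → IsZero (K.X i))
    (h : ∀ i, P ((singleFunctor (ModuleCat.{u} A) i).obj (K.X i))) : P (Q.obj K) := by
  have hz : ∀ Z : Dual.D A, IsZero Z → P Z := by
    intro Z hZ
    have h0 := h (a - 1)
    have : IsZero ((singleFunctor (ModuleCat.{u} A) (a - 1)).obj (K.X (a - 1))) :=
      Functor.map_isZero _ (hK (a-1) (Or.inl (by omega)))
    exact P.prop_of_iso (this.iso hZ) h0
  have main : ∀ (n : ℕ) (a : ℤ) (E : CochainComplex (ModuleCat.{u} A) ℤ),
      (∀ i, i < a → IsZero (E.X i)) → (∀ i, a + n ≤ i → IsZero (E.X i)) →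
      (∀ i, P ((singleFunctor (ModuleCat.{u} A) i).obj (E.X i))) → P (Q.obj E) := by
    intro n
    induction n with
    | zero =>
      intro a E h1 h2 _
      refine hz _ (Functor.map_isZero _ (isZero_of_X fun i => ?_))
      rcases lt_or_ge i a with hi | hi
      · exact h1 i hi
      · exact h2 i (by simpa using hi)
    | succ n ih =>
      intro a E h1 h2 hE
      have := mono_truncι E (a + 1)
      let S : ShortComplex (CochainComplex (ModuleCat.{u} A) ℤ) :=
        ShortComplex.mk (truncι E (a + 1)) (cokernel.π (truncι E (a + 1))) (cokernel.condition _)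
      have hS : S.ShortExact :=
        ShortComplex.ShortExact.mk' (ShortComplex.exact_cokernel _) this
          (inferInstanceAs (Epi (cokernel.π (truncι E (a + 1)))))
      have hT := triangleOfSES_distinguished hS
      have hSi : ∀ i, (S.map (HomologicalComplex.eval _ _ i)).ShortExact :=
        fun i => hS.map_of_exact _
      refine hext _ hT ?_ ?_
      · -- the truncation
        change P (Q.obj (trunc E (a + 1)))
        refine ih (a + 1) _ (fun i hi => trunc_isZero E (a+1) i hi) ?_ ?_
        · intro i hi
          have := truncι_isIso E (a+1) i (by omega)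
          exact (h2 i (by push_cast; omega)).of_iso (asIso ((truncι E (a+1)).f i))
        · intro i
          by_cases hi : a + 1 ≤ i
          · have := truncι_isIso E (a+1) i hi
            exact P.prop_of_iso ((singleFunctor _ i).mapIso (asIso ((truncι E (a+1)).f i))).symm
              (hE i)
          · exact hz _ (Functor.map_isZero _ (trunc_isZero E (a+1) i (by omega)))
      · -- the cokernel, concentrated in degree a
        change P (Q.obj (cokernel (truncι E (a + 1))))
        set Ck := cokernel (truncι E (a + 1)) with hCk
        have hz3 : ∀ i, i ≠ a → IsZero (Ck.X i) := by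
          intro i hi
          rcases lt_or_gt_of_ne hi with hi | hi
          · have : Epi ((S.map (HomologicalComplex.eval _ _ i)).g) := (hSi i).epi_g
            exact @IsZero.of_epi _ _ _ _ _ ((S.map (HomologicalComplex.eval _ _ i)).g) this (h1 i hi)
          · have : IsIso ((S.map (HomologicalComplex.eval _ _ i)).f) :=
              truncι_isIso E (a+1) i (by omega)
            exact (hSi i).isIso_f_iff.1 this
        have : Ck.IsStrictlyGE a := by
          rw [CochainComplex.isStrictlyGE_iff]
          intro i hi
          exact hz3 i (by omega)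
        have : Ck.IsStrictlyLE a := by
          rw [CochainComplex.isStrictlyLE_iff]
          intro i hi
          exact hz3 i (by omega)
        obtain ⟨Y, ⟨e⟩⟩ := CochainComplex.exists_iso_single Ck a
        have ig : IsIso ((S.map (HomologicalComplex.eval _ _ a)).g) :=
          (hSi a).isIso_g_iff.2 (trunc_isZero E (a+1) a (by omega))
        have eY : E.X a ≅ Y :=
          @asIso _ _ _ _ ((S.map (HomologicalComplex.eval _ _ a)).g) ig ≪≫
            (HomologicalComplex.eval _ _ a).mapIso e ≪≫
            HomologicalComplex.singleObjXSelf (ComplexShape.up ℤ) a Y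
        refine P.prop_of_iso ?_ (hE a)
        exact (singleFunctor _ a).mapIso eY ≪≫
          (singleFunctorIsoCompQ (ModuleCat.{u} A) a).app Y ≪≫ Q.mapIso e.symm
  by_cases hab : a ≤ b + 1
  · obtain ⟨n, hn⟩ := Int.eq_ofNat_of_zero_le (show 0 ≤ b + 1 - a by omega)
    exact main n a K (fun i hi => hK i (Or.inl hi)) (fun i hi => hK i (Or.inr (by omega))) h
  · refine main 0 a K (fun i hi => hK i (Or.inl hi)) (fun i hi => ?_) h
    exact hK i (Or.inr (by simp at hi; omega))

end Groth.Agent.Helper5.Devissage
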