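import Mathlib

set_option autoImplicit false
universe w v u
open CategoryTheory Limits Pretriangulated DerivedCategory

namespace Groth.Agent.Helper5.ToInj

variable {C : Type u} [Category.{v} C] [Abelian C] [HasDerivedCategory.{w} C]

/-- for `L` K-injective, a chain map killed by `Q` is null-homotopic -/
theorem nonempty_homotopy_of_Q_map_eq {P L : CochainComplex C ℤ} [L.IsKInjective] (f g : P ⟶ L)
    (h : Q.map f = Q.map g) : Nonempty (Homotopy f g) := by
  have h1 : Qh.map ((HomotopyCategory.quotient _ _).map f) =
      Qh.map ((HomotopyCategory.quotient _ _).map g) := by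
    have hf := quotientCompQhIso_hom_naturality (C := C) f
    have hg := quotientCompQhIso_hom_naturality (C := C) g
    have h2 : Qh.map ((HomotopyCategory.quotient _ _).map f) =
        (quotientCompQhIso C).hom.app P ≫ Q.map f ≫ (quotientCompQhIso C).inv.app L := by
      rw [← reassoc_of% hf]; simp
    have h3 : Qh.map ((HomotopyCategory.quotient _ _).map g) =
        (quotientCompQhIso C).hom.app P ≫ Q.map g ≫ (quotientCompQhIso C).inv.app L := by
      rw [← reassoc_of% hg]; simp
    rw [h2, h3, h]
  have h4 := (CochainComplex.IsKInjective.Qh_map_bijective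
    ((HomotopyCategory.quotient _ _).obj P) L).injective h1
  exact ⟨HomotopyCategory.homotopyOfEq _ _ h4⟩

/-- every morphism in `D` to a K-injective complex comes from a chain map -/
theorem exists_Q_map_eq {P L : CochainComplex C ℤ} [L.IsKInjective] (f : Q.obj P ⟶ Q.obj L) :
    ∃ φ : P ⟶ L, Q.map φ = f := by
  obtain ⟨g, hg⟩ := (CochainComplex.IsKInjective.Qh_map_bijective
    ((HomotopyCategory.quotient _ _).obj P) L).surjective
    ((quotientCompQhIso C).hom.app P ≫ f ≫ (quotientCompQhIso C).inv.app L)
  obtain ⟨φ, rfl⟩ := (HomotopyCategory.quotient _ _).map_surjective g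
  refine ⟨φ, ?_⟩
  have hφ := quotientCompQhIso_hom_naturality (C := C) φ
  rw [← cancel_epi ((quotientCompQhIso C).hom.app P), ← hφ, hg]
  simp

/-- morphisms in `D` from a complex to a K-injective complex whose terms are never
simultaneously nonzero vanish -/
theorem hom_eq_zero_of_disjoint {P L : CochainComplex C ℤ} [L.IsKInjective]
    (h : ∀ i, IsZero (P.X i) ∨ IsZero (L.X i)) (f : Q.obj P ⟶ Q.obj L) : f = 0 := by
  obtain ⟨φ, rfl⟩ := exists_Q_map_eq f
  have : φ = 0 := by
    ext i
    rcases h i with h | h
    · exact h.eq_of_src _ _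
    · exact h.eq_of_tgt _ _
  rw [this, Functor.map_zero]

end Groth.Agent.Helper5.ToInj
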