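import Mathlib

set_option autoImplicit false
universe w v u
open CategoryTheory Limits Pretriangulated DerivedCategory

namespace Groth.Agent.Helper5.ToSingle

variable {C : Type u} [Category.{v} C] [Abelian C] [HasDerivedCategory.{w} C]

/-- for `P` K-projective, a chain map killed by `Q` is null-homotopic -/
theorem nonempty_homotopy_of_Q_map_eq {P L : CochainComplex C ℤ} [P.IsKProjective] (f g : P ⟶ L)
    (h : Q.map f = Q.map g) : Nonempty (Homotopy f g) := by
  have h1 : Qh.map ((HomotopyCategory.quotient _ _).map f) =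
      Qh.map ((HomotopyCategory.quotient _ _).map g) := by
    have hf := quotientCompQhIso_hom_naturality (C := C) f
    have hg := quotientCompQhIso_hom_naturality (C := C) g
    have h2 : Qh.map ((HomotopyCategory.quotient _ _).map f) =
        (quotientCompQhIso C).hom.app P ≫ Q.map f ≫ (quotientCompQhIso C).inv.app L := by
      rw [← reassoc_of% hf]; simp
    have h3 : Qh.map ((HomotopyCategory.quotient _ _).map g) =
        (quotientCompQhIso C).hom.app P ≫ Q.map g ≫ (quotientCompQhIso C).inv.app L := by
      rw [← reassoc_of% hg]; simp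
    rw [h2, h3, h]
  have h4 := (CochainComplex.IsKProjective.Qh_map_bijective P
    ((HomotopyCategory.quotient _ _).obj L)).injective h1
  exact ⟨HomotopyCategory.homotopyOfEq _ _ h4⟩

theorem Q_map_eq_of_homotopy {P L : CochainComplex C ℤ} (f g : P ⟶ L) (h : Homotopy f g) :
    Q.map f = Q.map g := by
  have h1 := HomotopyCategory.eq_of_homotopy _ _ h
  have hf := quotientCompQhIso_hom_naturality (C := C) f
  have hg := quotientCompQhIso_hom_naturality (C := C) g
  have h2 : Q.map f = (quotientCompQhIso C).inv.app P ≫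
      Qh.map ((HomotopyCategory.quotient _ _).map f) ≫ (quotientCompQhIso C).hom.app L := by
    rw [hf]; simp
  have h3 : Q.map g = (quotientCompQhIso C).inv.app P ≫
      Qh.map ((HomotopyCategory.quotient _ _).map g) ≫ (quotientCompQhIso C).hom.app L := by
    rw [hg]; simp
  rw [h2, h3, h1]

end Groth.Agent.Helper5.ToSingle

namespace Groth.Agent.Helper5.ToSingle

variable {C : Type u} [Category.{v} C] [Abelian C] [HasDerivedCategory.{w} C]

/-- the chain map `P ⟶ M[-a]` attached to `φ : P^a ⟶ M` killing `d^{a-1}` -/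
noncomputable abbrev toSingle (P : CochainComplex C ℤ) (a : ℤ) {M : C} (φ : P.X a ⟶ M)
    (hφ : P.d (a - 1) a ≫ φ = 0) :
    P ⟶ (HomologicalComplex.single C (ComplexShape.up ℤ) a).obj M :=
  HomologicalComplex.mkHomToSingle φ (fun i hi => by
    obtain rfl : i = a - 1 := by simp at hi; omega
    exact hφ)

/-- (A): if the class of `toSingle φ` vanishes in `D`, then `φ` factors through `d^a`. -/
theorem exists_factor (P : CochainComplex C ℤ) [P.IsKProjective] (a : ℤ) {M : C} (φ : P.X a ⟶ M)
    (hφ : P.d (a - 1) a ≫ φ = 0) (h : Q.map (toSingle P a φ hφ) = 0) :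
    ∃ g : P.X (a + 1) ⟶ M, φ = P.d a (a + 1) ≫ g := by
  obtain ⟨H⟩ := nonempty_homotopy_of_Q_map_eq (toSingle P a φ hφ) 0 (by rw [h, Functor.map_zero])
  have h1 := H.comm a
  rw [HomologicalComplex.mkHomToSingle_f, dNext_eq _ (show (ComplexShape.up ℤ).Rel a (a + 1) from rfl),
    prevD_eq _ (show (ComplexShape.up ℤ).Rel (a - 1) a by simp), HomologicalComplex.zero_f,
    add_zero, HomologicalComplex.single_obj_d, comp_zero, add_zero] at h1
  refine ⟨H.hom (a + 1) a ≫
    (HomologicalComplex.singleObjXSelf (ComplexShape.up ℤ) a M).hom, ?_⟩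
  rw [← Category.assoc, ← h1, Category.assoc, Iso.inv_hom_id, Category.comp_id]

/-- (B): if `φ` factors through `d^a` then the class of `toSingle φ` vanishes in `D`. -/
theorem Q_map_toSingle_eq_zero (P : CochainComplex C ℤ) (a : ℤ) {M : C} (φ : P.X a ⟶ M)
    (hφ : P.d (a - 1) a ≫ φ = 0) (g : P.X (a + 1) ⟶ M) (hg : φ = P.d a (a + 1) ≫ g) :
    Q.map (toSingle P a φ hφ) = 0 := by
  rw [← Functor.map_zero]
  apply Q_map_eq_of_homotopy
  refine
    { hom := fun i j => if h : i = a + 1 ∧ j = a then
        (P.XIsoOfEq h.1).hom ≫ g ≫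
          (HomologicalComplex.singleObjXIsoOfEq (ComplexShape.up ℤ) a M j h.2).inv else 0
      zero := ?_
      comm := ?_ }
  · intro i j hij
    rw [dif_neg]
    rintro ⟨rfl, rfl⟩
    exact hij (by simp)
  · intro i
    by_cases hi : i = a
    · subst hi
      rw [HomologicalComplex.mkHomToSingle_f,
        dNext_eq _ (show (ComplexShape.up ℤ).Rel i (i + 1) from rfl),
        prevD_eq _ (show (ComplexShape.up ℤ).Rel (i - 1) i by simp), HomologicalComplex.zero_f,
        add_zero, HomologicalComplex.single_obj_d, comp_zero, add_zero, dif_pos ⟨rfl, rfl⟩, hg]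
      simp [HomologicalComplex.singleObjXSelf]
    · exact (HomologicalComplex.isZero_single_obj_X (ComplexShape.up ℤ) a M i hi).eq_of_tgt _ _

end Groth.Agent.Helper5.ToSingle
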