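import Mathlib

set_option autoImplicit false
universe w v u
open CategoryTheory Limits Pretriangulated DerivedCategory

namespace Groth.Agent.Helper5.TruncTri

variable {C : Type u} [Category.{v} C] [Abelian C] [HasDerivedCategory.{w} C]

set_option backward.defeqAttrib.useBackward true in
set_option backward.isDefEq.respectTransparency false in
/-- the canonical truncation triangle at chain level -/
theorem exists_truncTriangle (P : CochainComplex C ℤ) (a a' : ℤ) (h : a + 1 = a') :
    ∃ δ : Q.obj (P.truncGE a') ⟶ (Q.obj (P.truncLE a))⟦(1 : ℤ)⟧,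
      Triangle.mk (Q.map (P.ιTruncLE a)) (Q.map (P.πTruncGE a')) δ ∈ distTriang _ := by
  have hS := P.shortComplexTruncLE_shortExact a
  have hq : QuasiIso (P.shortComplexTruncLEX₃ToTruncGE a a' h) := inferInstance
  have hi : IsIso (Q.map (P.shortComplexTruncLEX₃ToTruncGE a a' h)) := by
    rw [isIso_Q_map_iff_quasiIso]; exact hq
  refine ⟨inv (Q.map (P.shortComplexTruncLEX₃ToTruncGE a a' h)) ≫ (triangleOfSES hS).mor₃,
    isomorphic_distinguished _ (triangleOfSES_distinguished hS) _ (Iso.symm ?_)⟩
  refine Triangle.isoMk _ _ (Iso.refl _) (Iso.refl _)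
    (asIso (Q.map (P.shortComplexTruncLEX₃ToTruncGE a a' h))) ?_ ?_ (by simp)
  · dsimp
    rw [Category.id_comp, Category.comp_id]
    rfl
  · dsimp
    rw [← Q.map_comp, CochainComplex.g_shortComplexTruncLEX₃ToTruncGE .., Category.id_comp]

set_option backward.defeqAttrib.useBackward true in
set_option backward.isDefEq.respectTransparency false in
/-- identification of the t-structure truncations of `Q.obj P` -/
theorem exists_truncIso (P : CochainComplex C ℤ) (a a' : ℤ) (h : a + 1 = a') :
    ∃ (e₁ : (TStructure.t.truncLT a').obj (Q.obj P) ≅ Q.obj (P.truncLE a))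
      (e₃ : (TStructure.t.truncGE a').obj (Q.obj P) ≅ Q.obj (P.truncGE a')),
      e₁.hom ≫ Q.map (P.ιTruncLE a) = (TStructure.t.truncLTι a').app (Q.obj P) ∧
      (TStructure.t.truncGEπ a').app (Q.obj P) ≫ e₃.hom = Q.map (P.πTruncGE a') := by
  obtain ⟨δ, hT⟩ := exists_truncTriangle P a a' h
  have i1 : TStructure.t.IsLE ((TStructure.t.truncLT a').obj (Q.obj P)) a := by
    subst h; infer_instance
  have i2 : TStructure.t.IsGE ((TStructure.t.truncGE a').obj (Q.obj P)) a' := inferInstance
  have i3 : TStructure.t.IsLE (Q.obj (P.truncLE a)) a := inferInstance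
  have i4 : TStructure.t.IsGE (Q.obj (P.truncGE a')) a' := inferInstance
  obtain ⟨e, he⟩ := TStructure.t.triangle_iso_exists
    (TStructure.t.triangleLTGE_distinguished a' (Q.obj P)) hT (Iso.refl _) a a'
    i1 i2 i3 i4 (by omega)
  refine ⟨Triangle.π₁.mapIso e, Triangle.π₃.mapIso e, ?_, ?_⟩
  · have h1 := e.hom.comm₁
    rw [he] at h1
    exact h1.symm.trans (Category.comp_id _)
  · have h2 := e.hom.comm₂
    rw [he] at h2
    exact h2.trans (Category.id_comp _)

end Groth.Agent.Helper5.TruncTri
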