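import Groth.Agent.Lib.Helper5.DRing.Classes2
import Mathlib

set_option autoImplicit false
universe u
open CategoryTheory Limits Pretriangulated DerivedCategory
attribute [local instance] HasDerivedCategory.standard
open CAlg

namespace Groth.Agent.Helper5.DRingCone

variable {R : Type u} [CommRing R]

attribute [local instance] preservesBinaryBiproducts_of_preservesBiproducts

section
variable (P : ObjectProperty (Dual.D R)) [P.IsClosedUnderIsomorphisms]
    (hR : P (Dual.inD R R))
    (hshift : ∀ (K : Dual.D R) (n : ℤ), P K → P ((shiftFunctor (Dual.D R) n).obj K))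
    (hext : ∀ T : Triangle (Dual.D R), T ∈ distTriang _ → P T.obj₁ → P T.obj₃ → P T.obj₂)
    (hsum : ∀ (X Y : Dual.D R) [HasBinaryBiproduct X Y], P (X ⊞ Y) → P X)

include hR hshift hext in
theorem prop_zero (Z : Dual.D R) (hZ : IsZero Z) : P Z := by
  have h := hext _ (contractible_distinguished₂ (Dual.inD R R)) hR (hshift _ 1 hR)
  exact P.prop_of_iso ((isZero_zero _).iso hZ) h

include hR hshift hext in
theorem prop_free (n : ℕ) :
    P ((singleFunctor (ModuleCat.{u} R) 0).obj (ModuleCat.of R (Fin n → R))) := by
  induction n with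
  | zero =>
    apply prop_zero P hR hshift hext
    apply Functor.map_isZero
    exact ModuleCat.isZero_of_subsingleton _
  | succ n ih =>
    let F := singleFunctor (ModuleCat.{u} R) 0
    have e1 : ModuleCat.of R (Fin (n + 1) → R) ≅ ModuleCat.of R R ⊞ ModuleCat.of R (Fin n → R) :=
      ((Fin.consLinearEquiv R (fun _ : Fin n.succ => R)).symm.toModuleIso)
        ≪≫ (ModuleCat.biprodIsoProd (ModuleCat.of R R) (ModuleCat.of R (Fin n → R))).symm
    have h := hext _ (binaryBiproductTriangle_distinguished (F.obj (ModuleCat.of R R))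
      (F.obj (ModuleCat.of R (Fin n → R)))) hR ih
    exact P.prop_of_iso ((F.mapBiprod _ _).symm ≪≫ F.mapIso e1.symm) h

include hR hshift hext hsum in
theorem prop_finite_projective (M : ModuleCat.{u} R) [Module.Finite R M] [Module.Projective R M] :
    P ((singleFunctor (ModuleCat.{u} R) 0).obj M) := by
  obtain ⟨n, f, g, -, -, hfg⟩ := Module.Finite.exists_comp_eq_id_of_projective R M
  let F := singleFunctor (ModuleCat.{u} R) 0
  let s : M ⟶ ModuleCat.of R (Fin n → R) := ModuleCat.ofHom g
  let p : ModuleCat.of R (Fin n → R) ⟶ M := ModuleCat.ofHom f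
  have hsp : s ≫ p = 𝟙 M := by
    ext x
    exact congrArg (fun t => t x) hfg
  have : Mono s := mono_of_mono_fac hsp
  let S : ShortComplex (ModuleCat.{u} R) := ShortComplex.mk s (cokernel.π s) (cokernel.condition s)
  have hS : S.Exact := ShortComplex.exact_cokernel s
  have : Epi S.g := inferInstanceAs (Epi (cokernel.π s))
  let spl : S.Splitting := ShortComplex.Splitting.ofExactOfRetraction S hS p hsp this
  have e : ModuleCat.of R (Fin n → R) ≅ M ⊞ cokernel s := spl.isoBinaryBiproduct
  have h1 : P (F.obj (M ⊞ cokernel s)) :=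
    P.prop_of_iso (F.mapIso e) (prop_free P hR hshift hext n)
  have h2 : P (F.obj M ⊞ F.obj (cokernel s)) := P.prop_of_iso (F.mapBiprod _ _) h1
  exact hsum _ _ h2

include hR hshift hext hsum in
theorem prop_perfect (K : Dual.D R) (hK : DRing.IsPerfect R K) : P K := by
  obtain ⟨E, a, b, hab, hfp, ⟨e⟩⟩ := hK
  refine P.prop_of_iso e ?_
  refine Devissage.of_terms P hshift (fun T hT => hext T hT) E a b hab ?_
  intro i
  obtain ⟨hfin, hproj⟩ := hfp i
  exact prop_finite_projective P hR hshift hext hsum (E.X i)

end

end Groth.Agent.Helper5.DRingCone
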