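import Mathlib
import Groth.Prelude.Def_DRing2

import Groth.Agent.Lib.Helper5.DRing.Thick
set_option autoImplicit false
universe u
open CategoryTheory Limits

namespace Groth.Agent.Helper5.PerRes

variable {R : Type u} [CommRing R]

section Lin
variable {F P : Type u} [AddCommGroup F] [Module R F] [AddCommGroup P] [Module R P]
  (i : P →ₗ[R] F) (r : F →ₗ[R] P)

/-- the alternating differential -/
def dd (n : ℕ) : F →ₗ[R] F := if Even n then LinearMap.id - i ∘ₗ r else i ∘ₗ r

variable {i r}

theorem dd_comp (h : r ∘ₗ i = LinearMap.id) (n : ℕ) : dd i r n ∘ₗ dd i r (n + 1) = 0 := by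
  have hri : ∀ x, r (i x) = x := fun x => by
    have := congrArg (fun g => g x) h
    simpa using this
  unfold dd
  by_cases hn : Even n
  · have : ¬ Even (n + 1) := by
      rw [Nat.even_add_one]; simpa using hn
    rw [if_pos hn, if_neg this]
    ext x
    simp [hri]
  · have : Even (n + 1) := by
      rw [Nat.even_add_one]; exact hn
    rw [if_neg hn, if_pos this]
    ext x
    simp [hri]

theorem dd_exact (h : r ∘ₗ i = LinearMap.id) (n : ℕ) :
    Function.Exact (dd i r (n + 1)) (dd i r n) := by
  have hri : ∀ x, r (i x) = x := fun x => by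
    have := congrArg (fun g => g x) h
    simpa using this
  unfold dd
  by_cases hn : Even n
  · have : ¬ Even (n + 1) := by
      rw [Nat.even_add_one]; simpa using hn
    rw [if_pos hn, if_neg this]
    intro y
    constructor
    · intro hy
      refine ⟨y, ?_⟩
      simp only [LinearMap.sub_apply, LinearMap.id_apply, sub_eq_zero] at hy
      exact hy.symm
    · rintro ⟨x, rfl⟩
      simp [hri]
  · have : Even (n + 1) := by
      rw [Nat.even_add_one]; exact hn
    rw [if_neg hn, if_pos this]
    intro y
    constructor
    · intro hy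
      refine ⟨y, ?_⟩
      simp only [LinearMap.sub_apply, LinearMap.id_apply, LinearMap.comp_apply] at hy ⊢
      rw [hy, sub_zero]
    · rintro ⟨x, rfl⟩
      simp [hri]

theorem dd_zero_exact (h : r ∘ₗ i = LinearMap.id) : Function.Exact (dd i r 0) r := by
  have hri : ∀ x, r (i x) = x := fun x => by
    have := congrArg (fun g => g x) h
    simpa using this
  unfold dd
  rw [if_pos (by simp)]
  intro y
  constructor
  · intro hy
    refine ⟨y, ?_⟩
    simp [hy]
  · rintro ⟨x, rfl⟩
    simp [hri]

end Lin

end Groth.Agent.Helper5.PerRes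

namespace Groth.Agent.Helper5.PerRes

variable {R : Type u} [CommRing R]
variable {F P : Type u} [AddCommGroup F] [Module R F] [AddCommGroup P] [Module R P]
  (i : P →ₗ[R] F) (r : F →ₗ[R] P) (h : r ∘ₗ i = LinearMap.id)

/-- the periodic complex `… → F → F → F` -/
noncomputable abbrev cx : ChainComplex (ModuleCat.{u} R) ℕ :=
  ChainComplex.of (fun _ => ModuleCat.of R F) (fun n => ModuleCat.ofHom (dd i r n)) (fun n => by
    rw [← ModuleCat.ofHom_comp, dd_comp h n]
    rfl)

theorem cx_d (n : ℕ) : (cx i r h).d (n + 1) n = ModuleCat.ofHom (dd i r n) := by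
  simp [cx]

theorem cx_exactAt_succ (n : ℕ) : (cx i r h).ExactAt (n + 1) := by
  rw [HomologicalComplex.exactAt_iff' _ (n + 1 + 1) (n + 1) n (by simp) (by simp)]
  rw [ShortComplex.ShortExact.moduleCat_exact_iff_function_exact]
  show Function.Exact ((cx i r h).d (n + 1 + 1) (n + 1)).hom ((cx i r h).d (n + 1) n).hom
  rw [cx_d, cx_d]
  exact dd_exact h n

include h in
theorem r_surj : Function.Surjective r := fun x => ⟨i x, by
  have := congrArg (fun g => g x) h
  simpa using this⟩

set_option backward.defeqAttrib.useBackward true in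
set_option backward.isDefEq.respectTransparency false in
/-- the periodic free resolution of a retract `P` of `F` -/
noncomputable def res [Module.Projective R F] : ProjectiveResolution (ModuleCat.of R P) where
  complex := cx i r h
  projective := fun n => by
    change Projective (ModuleCat.of R F)
    exact (IsProjective.iff_projective (R := R) F).mp ‹Module.Projective R F›
  π := (ChainComplex.toSingle₀Equiv _ _).symm ⟨ModuleCat.ofHom r, by
    rw [cx_d]
    ext x
    exact (dd_zero_exact h).apply_apply_eq_zero x⟩
  quasiIso := ⟨fun n => by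
    cases n
    · rw [ChainComplex.quasiIsoAt₀_iff, ShortComplex.quasiIso_iff_of_zeros']
      · dsimp
        refine (ShortComplex.exact_and_epi_g_iff_of_iso (S₂ := ShortComplex.mk
          (ModuleCat.ofHom (dd i r 0)) (ModuleCat.ofHom r) (by
            ext x
            exact (dd_zero_exact h).apply_apply_eq_zero x)) ?_).2 ⟨?_, ?_⟩
        · exact ShortComplex.isoMk (Iso.refl _) (Iso.refl _) (Iso.refl _)
            (by
              have := cx_d i r h 0
              dsimp
              rw [Category.id_comp, Category.comp_id]
              exact this.symm) (by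
              dsimp
              rw [Category.id_comp, Category.comp_id]
              exact (ChainComplex.toSingle₀Equiv_symm_apply_f_zero (V := ModuleCat.{u} R)
                (C := cx i r h) (X := ModuleCat.of R P) (ModuleCat.ofHom r) _).symm)
        · rw [ShortComplex.ShortExact.moduleCat_exact_iff_function_exact]
          exact dd_zero_exact h
        · exact (ModuleCat.epi_iff_surjective _).2 (r_surj i r h)
      all_goals rfl
    · rw [quasiIsoAt_iff_exactAt']
      · apply cx_exactAt_succ
      · apply ChainComplex.exactAt_succ_single_obj⟩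

end Groth.Agent.Helper5.PerRes

namespace Groth.Agent.Helper5.PerRes
open DerivedCategory
attribute [local instance] HasDerivedCategory.standard

variable {R : Type u} [CommRing R]

/-- a finite projective module placed in degree `0` is pseudo-coherent -/
theorem pc'_single (P : ModuleCat.{u} R) [Module.Finite R P] [Module.Projective R P] :
    DRing.IsPseudoCoherent' R ((singleFunctor (ModuleCat.{u} R) 0).obj P) := by
  obtain ⟨n, f, g, hf, hg, hfg⟩ := Module.Finite.exists_comp_eq_id_of_projective R P
  let Res : ProjectiveResolution (ModuleCat.of R P) := res g f hfg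
  refine ⟨Res.cochainComplex, 0, fun i hi => CochainComplex.isZero_of_isStrictlyLE _ 0 i hi, ?_, ⟨?_⟩⟩
  · intro k
    by_cases hk : k ≤ 0
    · obtain ⟨m, rfl⟩ := Int.exists_eq_neg_ofNat hk
      let e : Res.cochainComplex.X (-m) ≅ ModuleCat.of R (Fin n → R) :=
        Res.cochainComplexXIso (-m) m
      exact ⟨Module.Finite.equiv e.symm.toLinearEquiv, Module.Free.of_equiv e.symm.toLinearEquiv⟩
    · have : Subsingleton (Res.cochainComplex.X k) :=
        ModuleCat.subsingleton_of_isZero (CochainComplex.isZero_of_isStrictlyLE _ 0 k (by omega))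
      exact ⟨inferInstance, inferInstance⟩
  · exact asIso (Q.map Res.π') ≪≫ ((singleFunctorIsoCompQ (ModuleCat.{u} R) 0).app P).symm

end Groth.Agent.Helper5.PerRes

namespace Groth.Agent.Helper5.PerRes
open DerivedCategory Pretriangulated Groth.Agent.Helper5.DRingCone
attribute [local instance] HasDerivedCategory.standard

variable {R : Type u} [CommRing R]

instance : ObjectProperty.IsClosedUnderIsomorphisms
    (fun X : Dual.D R => DRing.IsPseudoCoherent' R X) where
  of_iso e h := by
    obtain ⟨E, b, h1, h2, ⟨e'⟩⟩ := h
    exact ⟨E, b, h1, h2, ⟨e' ≪≫ e⟩⟩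

theorem pc'_shift (K : Dual.D R) (n : ℤ) (h : DRing.IsPseudoCoherent' R K) :
    DRing.IsPseudoCoherent' R (K⟦n⟧) := by
  rw [← rep_pc_iff] at h ⊢
  exact h.shift PCClass.shift n

/-- perfect complexes are pseudo-coherent -/
theorem pc'_of_perfect (K : Dual.D R) (hK : DRing.IsPerfect R K) : DRing.IsPseudoCoherent' R K := by
  obtain ⟨E, a, b, hab, hfp, ⟨e⟩⟩ := hK
  refine ObjectProperty.prop_of_iso (fun X : Dual.D R => DRing.IsPseudoCoherent' R X) e ?_
  refine Devissage.of_terms (fun X : Dual.D R => DRing.IsPseudoCoherent' R X) pc'_shift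
    (fun T hT h1 h3 => (pc'_two_of_three T hT).2.1 h1 h3) E a b hab ?_
  intro i
  obtain ⟨hfin, hproj⟩ := hfp i
  exact pc'_single (E.X i)

end Groth.Agent.Helper5.PerRes
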