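import Groth.Agent.Lib.Helper5.DRing.Dev
import Mathlib

set_option autoImplicit false
universe w v u
open CategoryTheory Limits Pretriangulated DerivedCategory

namespace Groth.Agent.Helper5.Devissage

variable {C : Type u} [Category.{v} C] [Abelian C] [HasDerivedCategory.{w} C]

/-- Dévissage by cohomology objects, unshifted form: no stability under shifts is needed when the
hypothesis is stated for `H^i(K)` placed in degree `i`. -/
theorem of_homology' (P : ObjectProperty (DerivedCategory C)) [P.IsClosedUnderIsomorphisms]
    (hext : ∀ T ∈ distTriang (DerivedCategory C), P T.obj₁ → P T.obj₃ → P T.obj₂)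
    (K : DerivedCategory C) (a b : ℤ)
    (hK : ∀ i, (i < a ∨ b < i) → IsZero ((homologyFunctor C i).obj K))
    (h : ∀ i, P ((singleFunctor C i).obj ((homologyFunctor C i).obj K))) : P K := by
  have hz : ∀ Z : DerivedCategory C, IsZero Z → P Z := by
    intro Z hZ
    have h0 := h (a - 1)
    have : IsZero ((singleFunctor C (a-1)).obj ((homologyFunctor C (a-1)).obj K)) :=
      Functor.map_isZero _ (hK (a-1) (Or.inl (by omega)))
    exact P.prop_of_iso (this.iso hZ) h0
  have main : ∀ (n : ℕ) (a : ℤ) (X : DerivedCategory C), X.IsGE a → X.IsLE (a + n - 1) →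
      (∀ i, P ((singleFunctor C i).obj ((homologyFunctor C i).obj X))) → P X := by
    intro n
    induction n with
    | zero =>
      intro a X h1 h2 _
      exact hz X (TStructure.t.isZero X (a + (0 : ℕ) - 1) a (by simp))
    | succ n ih =>
      intro a X h1 h2 hX
      have h2' : X.IsLE (a + n) := TStructure.t.isLE_of_le X (a + (n + 1 : ℕ) - 1) (a + n)
        (by push_cast; omega)
      let T := (TStructure.t.triangleLEGE a (a+1) rfl).obj X
      have hT : T ∈ distTriang _ := TStructure.t.triangleLEGE_distinguished a (a+1) rfl X
      have g1 : T.obj₁.IsGE a := by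
        change TStructure.t.IsGE ((TStructure.t.truncLE a).obj X) a
        infer_instance
      have l1 : T.obj₁.IsLE a := by
        change TStructure.t.IsLE ((TStructure.t.truncLE a).obj X) a
        infer_instance
      have g3 : T.obj₃.IsGE (a + 1) := by
        change TStructure.t.IsGE ((TStructure.t.truncGE (a + 1)).obj X) (a + 1)
        infer_instance
      have l3 : T.obj₃.IsLE (a + n) := by
        change TStructure.t.IsLE ((TStructure.t.truncGT a).obj X) (a + n)
        infer_instance
      refine hext T hT ?_ ?_
      · obtain ⟨Y, ⟨e⟩⟩ := exists_iso_singleFunctor_obj_of_isGE_of_isLE T.obj₁ a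
        have i1 : IsIso ((homologyFunctor C a).map T.mor₁) :=
          isIso_homologyMap_mor₁ T hT a (isZero_of_isGE T.obj₃ (a+1) (a-1) (by omega))
            (isZero_of_isGE T.obj₃ (a+1) a (by omega))
        have eY : (homologyFunctor C a).obj X ≅ Y :=
          (asIso ((homologyFunctor C a).map T.mor₁)).symm ≪≫ (homologyFunctor C a).mapIso e ≪≫
            (singleFunctorCompHomologyFunctorIso C a).app Y
        exact P.prop_of_iso ((singleFunctor C a).mapIso eY ≪≫ e.symm) (hX a)
      · refine ih (a + 1) T.obj₃ g3 ?_ ?_
        · exact TStructure.t.isLE_of_le _ (a + n) _ (by omega)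
        · intro i
          by_cases hi : a + 1 ≤ i
          · have i2 : IsIso ((homologyFunctor C i).map T.mor₂) :=
              isIso_homologyMap_mor₂ T hT i (isZero_of_isLE T.obj₁ a i (by omega))
                (isZero_of_isLE T.obj₁ a (i+1) (by omega))
            exact P.prop_of_iso ((singleFunctor C i).mapIso
              (asIso ((homologyFunctor C i).map T.mor₂))) (hX i)
          · exact hz _ (Functor.map_isZero _ (isZero_of_isGE T.obj₃ (a+1) i (by omega)))
  by_cases hab : a ≤ b + 1
  · obtain ⟨n, hn⟩ := Int.eq_ofNat_of_zero_le (show 0 ≤ b + 1 - a by omega)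
    refine main n a K ?_ ?_ h
    · rw [isGE_iff]
      intro i hi
      exact hK i (Or.inl hi)
    · rw [isLE_iff]
      intro i hi
      exact hK i (Or.inr (by omega))
  · refine main 0 a K ?_ ?_ h
    · rw [isGE_iff]
      intro i hi
      exact hK i (Or.inl hi)
    · rw [isLE_iff]
      intro i hi
      rcases lt_or_ge i a with h1 | h1
      · exact hK i (Or.inl h1)
      · exact hK i (Or.inr (by omega))

end Groth.Agent.Helper5.Devissage
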