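import Mathlib

set_option autoImplicit false
set_option linter.unusedSectionVars false
universe w v u
open CategoryTheory Limits Pretriangulated DerivedCategory

namespace Groth.Agent.Helper5.ConeG

variable {C : Type u} [Category.{v} C] [Abelian C] [HasDerivedCategory.{w} C]

/-- Morphisms in `D(C)` out of a K-projective complex are represented by chain maps. -/
theorem exists_chain_map (P R : CochainComplex C ℤ) [P.IsKProjective]
    (v : Q.obj P ⟶ Q.obj R) : ∃ φ : P ⟶ R, Q.map φ = v := by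
  obtain ⟨w, hw⟩ := (CochainComplex.IsKProjective.Qh_map_bijective P
    ((HomotopyCategory.quotient _ _).obj R)).surjective
      ((quotientCompQhIso _).hom.app P ≫ v ≫ (quotientCompQhIso _).inv.app R)
  obtain ⟨φ, rfl⟩ := (HomotopyCategory.quotient _ _).map_surjective w
  refine ⟨φ, ?_⟩
  have := quotientCompQhIso_hom_naturality φ
  have h4 : Q.map φ = (quotientCompQhIso _).inv.app P ≫
      Qh.map ((HomotopyCategory.quotient _ _).map φ) ≫ (quotientCompQhIso _).hom.app R := by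
    rw [this]; simp
  rw [h4, hw]
  simp

/-- Morphisms in `D(C)` into a K-injective complex are represented by chain maps. -/
theorem exists_chain_map_inj (P R : CochainComplex C ℤ) [R.IsKInjective]
    (v : Q.obj P ⟶ Q.obj R) : ∃ φ : P ⟶ R, Q.map φ = v := by
  obtain ⟨w, hw⟩ := (CochainComplex.IsKInjective.Qh_map_bijective
    ((HomotopyCategory.quotient _ _).obj P) R).surjective
      ((quotientCompQhIso _).hom.app P ≫ v ≫ (quotientCompQhIso _).inv.app R)
  obtain ⟨φ, rfl⟩ := (HomotopyCategory.quotient _ _).map_surjective w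
  refine ⟨φ, ?_⟩
  have := quotientCompQhIso_hom_naturality φ
  have h4 : Q.map φ = (quotientCompQhIso _).inv.app P ≫
      Qh.map ((HomotopyCategory.quotient _ _).map φ) ≫ (quotientCompQhIso _).hom.app R := by
    rw [this]; simp
  rw [h4, hw]
  simp

/-- The third vertex of a distinguished triangle whose first morphism is represented by a chain map
is represented by the mapping cone. -/
theorem cone_iso (T : Triangle (DerivedCategory C)) (hT : T ∈ distTriang _)
    (P R : CochainComplex C ℤ)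
    (hl : ∀ v : Q.obj P ⟶ Q.obj R, ∃ φ : P ⟶ R, Q.map φ = v)
    (e₁ : Q.obj P ≅ T.obj₁) (e₂ : Q.obj R ≅ T.obj₂) :
    ∃ φ : P ⟶ R, Nonempty (Q.obj (CochainComplex.mappingCone φ) ≅ T.obj₃) := by
  obtain ⟨φ, hφ⟩ := hl (e₁.hom ≫ T.mor₁ ≫ e₂.inv)
  have hT₁ := mappingCone_triangle_distinguished φ
  refine ⟨φ, ⟨Triangle.π₃.mapIso (isoTriangleOfIso₁₂ _ _ hT₁ hT e₁ e₂ ?_)⟩⟩
  change Q.map φ ≫ e₂.hom = e₁.hom ≫ T.mor₁
  rw [hφ]
  simp

/-- Being represented by a complex in the class `K`. -/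
def Rep (K : CochainComplex C ℤ → Prop) (X : DerivedCategory C) : Prop :=
  ∃ E, K E ∧ Nonempty (Q.obj E ≅ X)

theorem Rep.of_iso {K : CochainComplex C ℤ → Prop} {X Y : DerivedCategory C}
    (h : Rep K X) (e : X ≅ Y) : Rep K Y := by
  obtain ⟨E, hE, ⟨f⟩⟩ := h
  exact ⟨E, hE, ⟨f ≪≫ e⟩⟩

theorem Rep.shift {K : CochainComplex C ℤ → Prop}
    (hs : ∀ E (n : ℤ), K E → K (E⟦n⟧)) {X : DerivedCategory C} (h : Rep K X) (n : ℤ) :
    Rep K (X⟦n⟧) := by
  obtain ⟨E, hE, ⟨f⟩⟩ := h
  exact ⟨E⟦n⟧, hs E n hE, ⟨(Q.commShiftIso n).app E ≪≫ (shiftFunctor _ n).mapIso f⟩⟩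

theorem Rep.of_shift {K : CochainComplex C ℤ → Prop}
    (hs : ∀ E (n : ℤ), K E → K (E⟦n⟧)) {X : DerivedCategory C} (n : ℤ) (h : Rep K (X⟦n⟧)) :
    Rep K X :=
  (h.shift hs (-n)).of_iso ((shiftEquiv (DerivedCategory C) n).unitIso.symm.app X)

theorem two_of_three (K : CochainComplex C ℤ → Prop)
    (hl : ∀ E F, K E → K F → ∀ v : Q.obj E ⟶ Q.obj F, ∃ φ : E ⟶ F, Q.map φ = v)
    (hs : ∀ E (n : ℤ), K E → K (E⟦n⟧))
    (hc : ∀ (E F : CochainComplex C ℤ) (φ : E ⟶ F), K E → K F →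
      K (CochainComplex.mappingCone φ))
    (T : Triangle (DerivedCategory C)) (hT : T ∈ distTriang _) :
    (Rep K T.obj₁ → Rep K T.obj₂ → Rep K T.obj₃) ∧
    (Rep K T.obj₁ → Rep K T.obj₃ → Rep K T.obj₂) ∧
    (Rep K T.obj₂ → Rep K T.obj₃ → Rep K T.obj₁) := by
  have key : ∀ (T : Triangle (DerivedCategory C)) (hT : T ∈ distTriang _),
      Rep K T.obj₁ → Rep K T.obj₂ → Rep K T.obj₃ := by
    intro T hT ⟨P, hP, ⟨e₁⟩⟩ ⟨R, hR, ⟨e₂⟩⟩
    obtain ⟨φ, ⟨e⟩⟩ := cone_iso T hT P R (hl P R hP hR) e₁ e₂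
    exact ⟨_, hc P R φ hP hR, ⟨e⟩⟩
  refine ⟨key T hT, ?_, ?_⟩
  · intro h1 h3
    exact key T.invRotate (inv_rot_of_distTriang T hT) (h3.shift hs (-1)) h1
  · intro h2 h3
    have := key T.rotate (rot_of_distTriang T hT) h2 h3
    exact Rep.of_shift hs 1 this

/-- bounded complexes with terms in a class `P` of objects -/
def BddIn (P : ObjectProperty C) (E : CochainComplex C ℤ) : Prop :=
  ∃ a b : ℤ, (∀ i : ℤ, i < a ∨ b < i → IsZero (E.X i)) ∧ ∀ i : ℤ, P (E.X i)

theorem BddIn.shift {P : ObjectProperty C} (E : CochainComplex C ℤ) (n : ℤ) (h : BddIn P E) :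
    BddIn P (E⟦n⟧) := by
  obtain ⟨a, b, h1, h2⟩ := h
  refine ⟨a - n, b - n, ?_, ?_⟩
  · intro i hi
    exact h1 (i + n) (by omega)
  · intro i
    exact h2 (i + n)

theorem BddIn.cone {P : ObjectProperty C} [P.IsClosedUnderIsomorphisms]
    (hsum : ∀ X Y : C, P X → P Y → P (X ⊞ Y))
    (E F : CochainComplex C ℤ) (φ : E ⟶ F)
    (hE : BddIn P E) (hF : BddIn P F) : BddIn P (CochainComplex.mappingCone φ) := by
  obtain ⟨a, b, h1, h2⟩ := hE
  obtain ⟨a', b', h1', h2'⟩ := hF
  refine ⟨min (a - 1) a', max b b', ?_, ?_⟩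
  · intro i hi
    rw [CochainComplex.mappingCone.isZero_X_iff]
    rcases hi with hi | hi
    · exact ⟨h1 _ (Or.inl (by have := min_le_left (a - 1) a'; omega)),
        h1' _ (Or.inl (by have := min_le_right (a - 1) a'; omega))⟩
    · exact ⟨h1 _ (Or.inr (by have := le_max_left b b'; omega)),
        h1' _ (Or.inr (by have := le_max_right b b'; omega))⟩
  · intro i
    let e : (CochainComplex.mappingCone φ).X i ≅ E.X (i+1) ⊞ F.X i :=
      HomologicalComplex.homotopyCofiber.XIsoBiprod φ i (i + 1) rfl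
    exact P.prop_of_iso e.symm (hsum _ _ (h2 _) (h2' _))

theorem BddIn.kproj {P : ObjectProperty C} (hP : ∀ X, P X → Projective X)
    (E : CochainComplex C ℤ) (h : BddIn P E) : E.IsKProjective := by
  obtain ⟨a, b, h1, h2⟩ := h
  have : E.IsStrictlyLE b := by
    rw [CochainComplex.isStrictlyLE_iff]
    exact fun i hi => h1 i (Or.inr hi)
  have : ∀ n, Projective (E.X n) := fun n => hP _ (h2 n)
  exact CochainComplex.isKProjective_of_projective E b

theorem BddIn.kinj {P : ObjectProperty C} (hP : ∀ X, P X → Injective X)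
    (E : CochainComplex C ℤ) (h : BddIn P E) : E.IsKInjective := by
  obtain ⟨a, b, h1, h2⟩ := h
  have : E.IsStrictlyGE a := by
    rw [CochainComplex.isStrictlyGE_iff]
    exact fun i hi => h1 i (Or.inl hi)
  have : ∀ n, Injective (E.X n) := fun n => hP _ (h2 n)
  exact CochainComplex.isKInjective_of_injective E a

/-- 2-out-of-3 for objects represented by bounded complexes of projectives in a class `P`. -/
theorem two_of_three_proj (P : ObjectProperty C) [P.IsClosedUnderIsomorphisms]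
    (hP : ∀ X, P X → Projective X) (hsum : ∀ X Y : C, P X → P Y → P (X ⊞ Y))
    (T : Triangle (DerivedCategory C)) (hT : T ∈ distTriang _) :
    (Rep (BddIn P) T.obj₁ → Rep (BddIn P) T.obj₂ → Rep (BddIn P) T.obj₃) ∧
    (Rep (BddIn P) T.obj₁ → Rep (BddIn P) T.obj₃ → Rep (BddIn P) T.obj₂) ∧
    (Rep (BddIn P) T.obj₂ → Rep (BddIn P) T.obj₃ → Rep (BddIn P) T.obj₁) := by
  refine two_of_three (BddIn P) ?_ BddIn.shift (BddIn.cone hsum) T hT
  intro E F hE _ v
  have := BddIn.kproj hP E hE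
  exact exists_chain_map E F v

/-- 2-out-of-3 for objects represented by bounded complexes of injectives in a class `P`. -/
theorem two_of_three_inj (P : ObjectProperty C) [P.IsClosedUnderIsomorphisms]
    (hP : ∀ X, P X → Injective X) (hsum : ∀ X Y : C, P X → P Y → P (X ⊞ Y))
    (T : Triangle (DerivedCategory C)) (hT : T ∈ distTriang _) :
    (Rep (BddIn P) T.obj₁ → Rep (BddIn P) T.obj₂ → Rep (BddIn P) T.obj₃) ∧
    (Rep (BddIn P) T.obj₁ → Rep (BddIn P) T.obj₃ → Rep (BddIn P) T.obj₂) ∧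
    (Rep (BddIn P) T.obj₂ → Rep (BddIn P) T.obj₃ → Rep (BddIn P) T.obj₁) := by
  refine two_of_three (BddIn P) ?_ BddIn.shift (BddIn.cone hsum) T hT
  intro E F _ hF v
  have := BddIn.kinj hP F hF
  exact exists_chain_map_inj E F v

end Groth.Agent.Helper5.ConeG
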