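import Mathlib

open CategoryTheory Limits Opposite

universe v u

namespace Groth.Agent.Helper5.PRes

variable {C : Type u} [Category.{v} C] [Abelian C]

/-- restriction along `n ↦ -n` reflects and preserves quasi-isomorphisms in each degree -/
theorem quasiIsoAt_restriction_iff {X Y : ChainComplex C ℤ} (ψ : X ⟶ Y) (j : ℤ) :
    QuasiIsoAt ((ComplexShape.embeddingUpIntDownInt.restrictionFunctor C).map ψ) j ↔
      QuasiIsoAt ψ (-j) := by
  rw [quasiIsoAt_iff' _ (j - 1) j (j + 1) (by simp) (by simp),
    quasiIsoAt_iff' _ (-(j - 1)) (-j) (-(j + 1)) (by simp; ring) (by simp; ring)]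
  rfl

theorem quasiIso_restriction_iff {X Y : ChainComplex C ℤ} (ψ : X ⟶ Y) :
    QuasiIso ((ComplexShape.embeddingUpIntDownInt.restrictionFunctor C).map ψ) ↔ QuasiIso ψ := by
  simp only [quasiIso_iff, quasiIsoAt_restriction_iff]
  constructor
  · intro h i
    have := h (-i)
    rwa [neg_neg] at this
  · intro h i
    exact h _

theorem quasiIso_opEquivalence_map_iff {K L : CochainComplex C ℤ} (φ : K ⟶ L) :
    QuasiIso ((CochainComplex.opEquivalence C).functor.map φ.op) ↔ QuasiIso φ := by
  refine Iff.trans ?_ (HomologicalComplex.quasiIso_opFunctor_map_iff φ)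
  exact quasiIso_restriction_iff (C := Cᵒᵖ)
    (X := (HomologicalComplex.opFunctor C (ComplexShape.up ℤ)).obj (op L))
    (Y := (HomologicalComplex.opFunctor C (ComplexShape.up ℤ)).obj (op K))
    ((HomologicalComplex.opFunctor C (ComplexShape.up ℤ)).map φ.op)

/-- Projective resolutions of bounded above complexes. -/
theorem exists_quasiIso_projective [EnoughProjectives C] (K : CochainComplex C ℤ) (n : ℤ)
    [K.IsStrictlyLE n] :
    ∃ (P : CochainComplex C ℤ) (p : P ⟶ K) (_ : QuasiIso p)
      (_ : ∀ i : ℤ, Projective (P.X i)), P.IsStrictlyLE n := by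
  let E := CochainComplex.opEquivalence C
  have hK' : (E.functor.obj (op K)).IsStrictlyGE (-n) := by
    rw [CochainComplex.isStrictlyGE_iff]
    intro i hi
    have : IsZero (K.X (-i)) := K.isZero_of_isStrictlyLE n (-i) (by omega)
    exact this.op
  obtain ⟨L, i, hi, hL, hL'⟩ :=
    CochainComplex.Plus.modelCategoryQuillen.exists_quasiIso_injective (E.functor.obj (op K)) (-n)
  refine ⟨(E.inverse.obj L).unop, (E.inverse.map i).unop ≫ (E.unitIso.hom.app (op K)).unop,
    ?_, ?_, ?_⟩
  · have h1 : QuasiIso (E.inverse.map i).unop := by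
      rw [← quasiIso_opEquivalence_map_iff]
      have nat := E.counitIso.hom.naturality i
      simp only [Functor.comp_map, Functor.id_map] at nat
      have h2 : QuasiIso (E.functor.map (E.inverse.map i) ≫ E.counitIso.hom.app L) := by
        rw [nat]
        infer_instance
      exact (quasiIso_iff_comp_right _ (E.counitIso.hom.app L)).1 h2
    infer_instance
  · intro j
    have : Injective (L.X (-j)) := hL (-j)
    change Projective (unop (L.X (-j)))
    infer_instance
  · rw [CochainComplex.isStrictlyLE_iff]
    intro j hj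
    have : IsZero (L.X (-j)) := L.isZero_of_isStrictlyGE (-n) (-j) (by omega)
    exact this.unop

end Groth.Agent.Helper5.PRes
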