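import Mathlib
import Groth.Agent.Lib.Helper5.DRing.ConeEl
import Groth.Agent.Lib.Helper5.ProjAmp.InjAmp
import Groth.Agent.S2068

set_option autoImplicit false
universe u
open CategoryTheory Limits CochainComplex HomComplex

namespace Groth.Agent.Helper5.PCBuild
open mappingCone Groth.Agent.Helper5.ConeEl Groth.Agent.Helper5.InjAmp
variable {R : Type u} [CommRing R]

/-- finitely many cycles generating the cohomology -/
theorem exists_gens (C : DRing.Cx R) (h i j : ℤ) (hhi : h + 1 = i) (hij : i + 1 = j)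
    (hfin : Module.Finite R (C.homology i)) :
    ∃ (r : ℕ) (z : Fin r → C.X i), (∀ t, (C.d i j).hom (z t) = 0) ∧
      ∀ x : C.X i, (C.d i j).hom x = 0 →
        ∃ (c : Fin r → R) (y : C.X h), x = ∑ t, c t • z t + (C.d h i).hom y := by
  obtain rfl : h = i - 1 := by omega
  obtain rfl : j = i + 1 := by omega
  let e := (Groth.Agent.S2068.homIso C i).toLinearEquiv
  have hfin' : Module.Finite R (LinearMap.ker (C.sc' (i-1) i (i+1)).g.hom ⧸
      LinearMap.range (C.sc' (i-1) i (i+1)).moduleCatToCycles) := Module.Finite.equiv e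
  obtain ⟨r, s, hs⟩ := Module.Finite.exists_fin (R := R)
    (M := LinearMap.ker (C.sc' (i-1) i (i+1)).g.hom ⧸
      LinearMap.range (C.sc' (i-1) i (i+1)).moduleCatToCycles)
  choose z' hz' using fun t => Submodule.Quotient.mk_surjective _ (s t)
  refine ⟨r, fun t => (z' t).1, fun t => (z' t).2, ?_⟩
  intro x hx
  let x' : LinearMap.ker (C.sc' (i-1) i (i+1)).g.hom := ⟨x, hx⟩
  have hmem : (Submodule.Quotient.mk x' : _ ⧸ LinearMap.range (C.sc' (i-1) i (i+1)).moduleCatToCycles) ∈
      Submodule.span R (Set.range s) := by rw [hs]; trivial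
  obtain ⟨c, hc⟩ := (Submodule.mem_span_range_iff_exists_fun R).1 hmem
  have h0 : (Submodule.Quotient.mk (x' - ∑ t, c t • z' t) :
      _ ⧸ LinearMap.range (C.sc' (i-1) i (i+1)).moduleCatToCycles) = 0 := by
    have h3 : (Submodule.Quotient.mk (∑ t, c t • z' t) :
        _ ⧸ LinearMap.range (C.sc' (i-1) i (i+1)).moduleCatToCycles) = ∑ t, c t • s t := by
      rw [← Submodule.mkQ_apply, map_sum]
      simp only [map_smul, Submodule.mkQ_apply, hz']
    rw [Submodule.Quotient.mk_sub, h3, hc, sub_self]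
  rw [Submodule.Quotient.mk_eq_zero] at h0
  obtain ⟨y, hy⟩ := h0
  refine ⟨c, y, ?_⟩
  have h1 := congrArg Subtype.val hy
  have h2 : ((C.sc' (i-1) i (i+1)).moduleCatToCycles y).1 = (C.d (i-1) i).hom y := rfl
  rw [h2] at h1
  rw [h1]
  simp only [x', AddSubgroupClass.coe_sub, Submodule.coe_sum, Submodule.coe_smul]
  exact (add_sub_cancel _ _).symm

/-- one step of the construction: adding finitely many generators in degree `k'` -/
theorem step (L : DRing.Cx R) (E : DRing.Cx R) (α : E ⟶ L) (k' : ℤ)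
    (hlow : ∀ i, i < k' + 1 → IsZero (E.X i))
    (hex : ∀ i, k' + 1 ≤ i → (mappingCone α).ExactAt i)
    (hfin : Module.Finite R ((mappingCone α).homology k')) :
    ∃ (r : ℕ) (ψ : S (k' + 1) (ModuleCat.of R (Fin r → R)) ⟶ E)
      (γ : Cochain (S (k' + 1) (ModuleCat.of R (Fin r → R))) L (-1))
      (hγ : δ (-1) 0 γ = Cochain.ofHom (ψ ≫ α)),
      ∀ i, k' ≤ i → (mappingCone (desc ψ γ α hγ)).ExactAt i := by
  obtain ⟨r, z, hz, hgen⟩ := exists_gens (mappingCone α) (k' - 1) k' (k' + 1) (by omega) rfl hfin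
  let N : ModuleCat.{u} R := ModuleCat.of R (Fin r → R)
  let ζ : (Fin r → R) →ₗ[R] (mappingCone α).X k' := Fintype.linearCombination R z
  have hζ : ∀ c, ((mappingCone α).d k' (k' + 1)).hom (ζ c) = 0 := by
    intro c
    simp only [ζ, Fintype.linearCombination_apply, map_sum, map_smul, hz, smul_zero,
      Finset.sum_const_zero]
  let ψ₀ : (Fin r → R) →ₗ[R] E.X (k' + 1) := -((fstL α k' (k' + 1) rfl) ∘ₗ ζ)
  let γ₀ : (Fin r → R) →ₗ[R] L.X k' := (sndL α k') ∘ₗ ζ
  have hψ₀ : ∀ c, (E.d (k' + 1) (k' + 1 + 1)).hom (ψ₀ c) = 0 := by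
    intro c
    have := fstL_d α k' (k' + 1) (k' + 1 + 1) rfl rfl (ζ c)
    rw [hζ, map_zero] at this
    simp only [ψ₀, LinearMap.neg_apply, LinearMap.comp_apply, map_neg]
    exact this.symm
  have hγ₀ : ∀ c, (L.d k' (k' + 1)).hom (γ₀ c) = (α.f (k' + 1)).hom (ψ₀ c) := by
    intro c
    have := sndL_d α k' (k' + 1) rfl (ζ c)
    rw [hζ, map_zero] at this
    simp only [ψ₀, γ₀, LinearMap.neg_apply, LinearMap.comp_apply, map_neg]
    exact eq_neg_of_add_eq_zero_right this.symm
  have hψ : ModuleCat.ofHom ψ₀ ≫ E.d (k' + 1) (k' + 1 + 1) = 0 := by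
    refine ModuleCat.hom_ext (LinearMap.ext fun c => ?_)
    exact hψ₀ c
  let ψ : S (k' + 1) N ⟶ E := fromSingle E (k' + 1) (ModuleCat.ofHom ψ₀) hψ
  let γ : Cochain (S (k' + 1) N) L (-1) :=
    Cochain.single (p := k' + 1) (q := k')
      ((HomologicalComplex.singleObjXSelf (ComplexShape.up ℤ) (k' + 1) N).hom ≫
        ModuleCat.ofHom γ₀) (-1)
  have hγ : δ (-1) 0 γ = Cochain.ofHom (ψ ≫ α) := by
    refine Cochain.ext _ _ (fun p q hpq => ?_)
    have hq : q = p := by omega
    subst hq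
    by_cases hp : q = k' + 1
    · subst hp
      rw [δ_v (-1) 0 (by omega) γ (k' + 1) (k' + 1) (by omega) k' (k' + 1 + 1) (by omega) rfl]
      simp only [γ, Cochain.single_v, HomologicalComplex.single_obj_d, zero_comp, smul_zero,
        add_zero, Cochain.ofHom_v, HomologicalComplex.comp_f, ψ,
        HomologicalComplex.mkHomFromSingle_f, Category.assoc]
      congr 1
      refine ModuleCat.hom_ext (LinearMap.ext fun c => ?_)
      exact hγ₀ c
    · exact (HomologicalComplex.isZero_single_obj_X (ComplexShape.up ℤ) (k' + 1) N q hp).eq_of_src _ _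
  refine ⟨r, ψ, γ, hγ, ?_⟩
  intro i hi
  rw [exactAt_cone_iff (desc ψ γ α hγ) (i - 1) i (i + 1) (i + 1 + 1) (by omega) rfl rfl]
  intro f g hf hg
  have hzero : ∀ j, j ≠ k' + 1 → ∀ x : (S (k' + 1) N).X j, x = 0 := fun j hj x => by
    have := ModuleCat.subsingleton_of_isZero
      (HomologicalComplex.isZero_single_obj_X (ComplexShape.up ℤ) (k' + 1) N j hj)
    exact Subsingleton.elim _ _
  have hf₁ : fstL ψ (i + 1) (i + 1 + 1) rfl f = 0 := hzero _ (by omega) _
  set f₂ := sndL ψ (i + 1) f with hf₂def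
  have hfdec : f = inrL ψ (i + 1) f₂ := by
    have := decomp ψ (i + 1) (i + 1 + 1) rfl f
    rw [hf₁, map_zero, zero_add] at this
    exact this
  have hdf₂ : (E.d (i + 1) (i + 1 + 1)).hom f₂ = 0 := by
    have := sndL_d ψ (i + 1) (i + 1 + 1) rfl f
    rw [hf, map_zero, hf₁, map_zero, zero_add] at this
    exact this.symm
  have hα'f : ((desc ψ γ α hγ).f (i + 1)).hom f = (α.f (i + 1)).hom f₂ := by
    rw [desc_apply ψ γ α hγ (i + 1) (i + 1 + 1) rfl f, hf₁, map_zero, zero_add]
  rw [hα'f] at hg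
  rcases eq_or_lt_of_le hi with hik | hik
  · subst hik
    let x := inlL α k' (k' + 1) rfl f₂ + inrL α k' g
    have hx : ((mappingCone α).d k' (k' + 1)).hom x = 0 := by
      apply ConeEl.ext α (k' + 1) (k' + 1 + 1) rfl
      · rw [fstL_d α k' (k' + 1) (k' + 1 + 1) rfl rfl, fstL_add_inl_inr, hdf₂, neg_zero, map_zero]
      · rw [sndL_d α k' (k' + 1) rfl, fstL_add_inl_inr, sndL_add_inl_inr, hg, map_zero]
    obtain ⟨c, y, hxy⟩ := hgen x hx
    have hxy' : x = ζ c + ((mappingCone α).d (k' - 1) k').hom y := by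
      rw [hxy]
      simp only [ζ, Fintype.linearCombination_apply]
    have hy₁ : fstL α (k' - 1) k' (by omega) y = 0 := by
      have := ModuleCat.subsingleton_of_isZero (hlow k' (by omega))
      exact Subsingleton.elim _ _
    have h1 : f₂ = fstL α k' (k' + 1) rfl (ζ c) := by
      have := congrArg (fstL α k' (k' + 1) rfl) hxy'
      rw [fstL_add_inl_inr, map_add, fstL_d α (k' - 1) k' (k' + 1) (by omega) rfl, hy₁, map_zero,
        neg_zero, add_zero] at this
      exact this
    have h2 : g = sndL α k' (ζ c) + (L.d (k' - 1) k').hom (sndL α (k' - 1) y) := by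
      have := congrArg (sndL α k') hxy'
      rw [sndL_add_inl_inr, map_add, sndL_d α (k' - 1) k' (by omega), hy₁, map_zero,
        zero_add] at this
      exact this
    let c' : (S (k' + 1) N).X (k' + 1) :=
      (HomologicalComplex.singleObjXSelf (ComplexShape.up ℤ) (k' + 1) N).inv.hom c
    have hc' : (HomologicalComplex.singleObjXSelf (ComplexShape.up ℤ) (k' + 1) N).hom.hom c' = c := by
      have := congrArg (fun t => t.hom c)
        (HomologicalComplex.singleObjXSelf (ComplexShape.up ℤ) (k' + 1) N).inv_hom_id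
      exact this
    have hψc : (ψ.f (k' + 1)).hom c' = ψ₀ c := by
      have : ψ.f (k' + 1) = (HomologicalComplex.singleObjXSelf (ComplexShape.up ℤ) (k' + 1) N).hom ≫
          ModuleCat.ofHom ψ₀ := HomologicalComplex.mkHomFromSingle_f _ _
      rw [this]
      show ψ₀ ((HomologicalComplex.singleObjXSelf (ComplexShape.up ℤ) (k' + 1) N).hom.hom c') = ψ₀ c
      rw [hc']
    have hγc : (γ.v (k' + 1) k' (by omega)).hom c' = γ₀ c := by
      have : γ.v (k' + 1) k' (by omega) =
          (HomologicalComplex.singleObjXSelf (ComplexShape.up ℤ) (k' + 1) N).hom ≫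
            ModuleCat.ofHom γ₀ := Cochain.single_v _ _ _
      rw [this]
      show γ₀ ((HomologicalComplex.singleObjXSelf (ComplexShape.up ℤ) (k' + 1) N).hom.hom c') = γ₀ c
      rw [hc']
    refine ⟨inlL ψ k' (k' + 1) rfl c', sndL α (k' - 1) y, ?_, ?_⟩
    · apply ConeEl.ext ψ (k' + 1) (k' + 1 + 1) rfl
      · exact (hzero _ (by omega) _).trans (hzero _ (by omega) _).symm
      · rw [map_neg, sndL_d ψ k' (k' + 1) rfl, fstL_inlL, sndL_inlL, map_zero, add_zero, hψc,
          ← hf₂def, h1]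
        simp [ψ₀]
    · rw [desc_apply ψ γ α hγ k' (k' + 1) rfl, fstL_inlL, sndL_inlL, map_zero, add_zero, hγc, h2]
      rfl
  · have hexi := hex i (by omega)
    rw [exactAt_cone_iff α (i - 1) i (i + 1) (i + 1 + 1) (by omega) rfl rfl] at hexi
    obtain ⟨e', l', he', hl'⟩ := hexi f₂ g hdf₂ hg
    refine ⟨inrL ψ i e', l', ?_, ?_⟩
    · rw [inrL_d ψ i (i + 1), hfdec, ← map_neg, he']
    · rw [desc_apply ψ γ α hγ i (i + 1) rfl, fstL_inrL, map_zero, zero_add, sndL_inrL, hl']

end Groth.Agent.Helper5.PCBuild
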