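import Mathlib
import Groth.Agent.Lib.Helper5.DRing.PCStep
import Groth.Agent.Lib.Helper5.TorAmp.PerfAmp
import Groth.Agent.S2067
import Groth.Agent.S2068

set_option autoImplicit false
universe u
open CategoryTheory Limits CochainComplex HomComplex Pretriangulated DerivedCategory ZeroObject
attribute [local instance] HasDerivedCategory.standard

namespace Groth.Agent.Helper5.PCBuild
open mappingCone Groth.Agent.Helper5.ConeEl Groth.Agent.Helper5.InjAmp
variable {R : Type u} [CommRing R]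

theorem pc_of_iso {K K' : Dual.D R} (e : K ≅ K') {m : ℤ} (h : DRing.IsPseudoCoherent R m K) :
    DRing.IsPseudoCoherent R m K' := by
  obtain ⟨E, a, b, α, h1, h2, h3, h4⟩ := h
  refine ⟨E, a, b, α ≫ e.hom, h1, h2, ?_, ?_⟩
  · intro i hi
    have := h3 i hi
    rw [Functor.map_comp]
    infer_instance
  · rw [Functor.map_comp]
    infer_instance

theorem finiteFree_single (k : ℤ) (r : ℕ) :
    DRing.TermwiseFiniteFree (S k (ModuleCat.of R (Fin r → R))) := by
  intro j
  by_cases hj : j = k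
  · subst hj
    let e := (HomologicalComplex.singleObjXSelf (ComplexShape.up ℤ) j
      (ModuleCat.of R (Fin r → R))).symm.toLinearEquiv
    exact ⟨Module.Finite.equiv e, Module.Free.of_equiv e⟩
  · have := ModuleCat.subsingleton_of_isZero
      (HomologicalComplex.isZero_single_obj_X (ComplexShape.up ℤ) k
        (ModuleCat.of R (Fin r → R)) j hj)
    exact ⟨inferInstance, inferInstance⟩

/-- `inr` is an isomorphism in the degrees where the source of the cone vanishes -/
theorem isIso_inr_f {F G : DRing.Cx R} (φ : F ⟶ G) (i : ℤ) (h : IsZero (F.X (i + 1))) :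
    IsIso ((inr φ).f i) := by
  refine ⟨(snd φ).v i i (add_zero i), inr_f_snd_v φ i, ?_⟩
  have := id_X φ i (i + 1) rfl
  have h0 : (fst φ).1.v i (i + 1) rfl = 0 := h.eq_of_tgt _ _
  rw [h0, zero_comp, zero_add] at this
  exact this

variable (L : DRing.Cx R) (b : ℤ)

/-- a stage of the construction -/
structure Stage where
  E : DRing.Cx R
  α : E ⟶ L
  k : ℤ
  kb : k ≤ b + 1
  ff : DRing.TermwiseFiniteFree E
  low : ∀ i, i < k → IsZero (E.X i)
  high : ∀ i, b < i → IsZero (E.X i)
  ex : ∀ i, k ≤ i → (mappingCone α).ExactAt i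

variable {L b}

theorem finite_homology (hpc : ∀ m, DRing.IsPseudoCoherent R m (DRing.toD L)) (s : Stage L b)
    (k' : ℤ) (hk' : k' + 1 = s.k) : Module.Finite R ((mappingCone s.α).homology k') := by
  have hT := mappingCone_triangle_distinguished s.α
  have h1 : DRing.IsPseudoCoherent R (k' + 1) (DRing.toD s.E) :=
    Groth.Agent.Helper5.TorAmp.pc_of_pc' ⟨s.E, b, s.high, s.ff, ⟨Iso.refl _⟩⟩ _
  have h3 := Groth.Agent.S2067.part1 _ hT k' h1 (hpc k')
  have hz : ∀ i : ℤ, k' < i → IsZero ((homologyFunctor (ModuleCat.{u} R) i).obj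
      (DRing.toD (mappingCone s.α))) := by
    intro i hi
    have := s.ex i (by omega)
    rw [HomologicalComplex.exactAt_iff_isZero_homology] at this
    exact this.of_iso ((homologyFunctorFactors (ModuleCat.{u} R) i).app _)
  have h4 := (Groth.Agent.S2068.result _ k' h3).1 hz
  haveI : Module.Finite R ↑((Q ⋙ homologyFunctor (ModuleCat.{u} R) k').obj (mappingCone s.α)) := h4
  exact Module.Finite.equiv ((homologyFunctorFactors (ModuleCat.{u} R) k').app _).toLinearEquiv

theorem exists_next (hpc : ∀ m, DRing.IsPseudoCoherent R m (DRing.toD L)) (s : Stage L b) :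
    ∃ (s' : Stage L b) (ι : s.E ⟶ s'.E), s'.k + 1 = s.k ∧ ι ≫ s'.α = s.α ∧
      ∀ i, s.k ≤ i → IsIso (ι.f i) := by
  obtain ⟨k', hk'⟩ : ∃ k', k' + 1 = s.k := ⟨s.k - 1, by ring⟩
  have hfin := finite_homology hpc s k' hk'
  obtain ⟨r, ψ, γ, hγ, hex⟩ := step L s.E s.α k' (fun i hi => s.low i (by omega))
    (fun i hi => s.ex i (by omega)) hfin
  have hkb := s.kb
  refine ⟨{ E := mappingCone ψ
            α := desc ψ γ s.α hγ
            k := k'
            kb := by omega
            ff := Groth.Agent.S2067.cone_finiteFree ψ (finiteFree_single _ _) s.ff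
            low := ?_
            high := ?_
            ex := hex }, inr ψ, hk', inr_desc ψ γ s.α hγ, ?_⟩
  · intro i hi
    rw [isZero_X_iff]
    exact ⟨HomologicalComplex.isZero_single_obj_X (ComplexShape.up ℤ) _ _ _ (by omega),
      s.low i (by omega)⟩
  · intro i hi
    rw [isZero_X_iff]
    exact ⟨HomologicalComplex.isZero_single_obj_X (ComplexShape.up ℤ) _ _ _ (by omega),
      s.high i hi⟩
  · intro i hi
    exact isIso_inr_f ψ i
      (HomologicalComplex.isZero_single_obj_X (ComplexShape.up ℤ) _ _ _ (by omega))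

section seq
variable (hpc : ∀ m, DRing.IsPseudoCoherent R m (DRing.toD L)) (s₀ : Stage L b)

/-- the sequence of stages -/
noncomputable def seq : ℕ → Stage L b
  | 0 => s₀
  | n + 1 => (exists_next hpc (seq n)).choose

/-- transition maps -/
noncomputable def ι (n : ℕ) : (seq hpc s₀ n).E ⟶ (seq hpc s₀ (n + 1)).E :=
  (exists_next hpc (seq hpc s₀ n)).choose_spec.choose

theorem seq_k (n : ℕ) : (seq hpc s₀ (n + 1)).k + 1 = (seq hpc s₀ n).k :=
  (exists_next hpc (seq hpc s₀ n)).choose_spec.choose_spec.1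

theorem ι_α (n : ℕ) : ι hpc s₀ n ≫ (seq hpc s₀ (n + 1)).α = (seq hpc s₀ n).α :=
  (exists_next hpc (seq hpc s₀ n)).choose_spec.choose_spec.2.1

theorem ι_iso (n : ℕ) (i : ℤ) (hi : (seq hpc s₀ n).k ≤ i) : IsIso ((ι hpc s₀ n).f i) :=
  (exists_next hpc (seq hpc s₀ n)).choose_spec.choose_spec.2.2 i hi

theorem seq_k_eq (n : ℕ) : (seq hpc s₀ n).k = s₀.k - n := by
  induction n with
  | zero => simp [seq]
  | succ n ih =>
    have := seq_k hpc s₀ n
    push_cast
    omega

/-- the diagram -/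
noncomputable def Fun : ℕ ⥤ DRing.Cx R := Functor.ofSequence (ι hpc s₀)

/-- the cocone given by the maps to `L` -/
noncomputable def cocone : Cocone (Fun hpc s₀) where
  pt := L
  ι := NatTrans.ofSequence (fun n => (seq hpc s₀ n).α) (fun n => by
    simp only [Fun, Functor.ofSequence_map_homOfLE_succ, Functor.const_obj_obj,
      Functor.const_obj_map, Category.comp_id]
    exact ι_α hpc s₀ n)

/-- the limit complex -/
noncomputable def Finf : DRing.Cx R := colimit (Fun hpc s₀)

/-- the limit map -/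
noncomputable def αinf : Finf hpc s₀ ⟶ L := colimit.desc (Fun hpc s₀) (cocone hpc s₀)

/-- the inclusions of the stages -/
noncomputable def cι (n : ℕ) : (seq hpc s₀ n).E ⟶ Finf hpc s₀ := colimit.ι (Fun hpc s₀) n

theorem cι_αinf (n : ℕ) : cι hpc s₀ n ≫ αinf hpc s₀ = (seq hpc s₀ n).α :=
  colimit.ι_desc _ _

theorem isIso_map_f (n j : ℕ) (hnj : n ≤ j) (i : ℤ) (hi : (seq hpc s₀ n).k ≤ i) :
    IsIso (((Fun hpc s₀).map (homOfLE hnj)).f i) := by
  induction j, hnj using Nat.le_induction with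
  | base =>
    have : homOfLE (le_refl n) = 𝟙 n := rfl
    rw [this, CategoryTheory.Functor.map_id]
    exact inferInstanceAs (IsIso (𝟙 _))
  | succ j hj ih =>
    have h1 : homOfLE (show n ≤ j + 1 by omega) = homOfLE hj ≫ homOfLE (Nat.le_add_right j 1) := rfl
    rw [h1, Functor.map_comp, HomologicalComplex.comp_f]
    have h2 : (Fun hpc s₀).map (homOfLE (Nat.le_add_right j 1)) = ι hpc s₀ j :=
      Functor.ofSequence_map_homOfLE_succ _ _
    rw [h2]
    have := ι_iso hpc s₀ j i (by
      rw [seq_k_eq] at hi ⊢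
      have : (n : ℤ) ≤ j := by exact_mod_cast hj
      omega)
    have ih' := ih
    exact IsIso.comp_isIso' ih' this

theorem isIso_cι_f (n : ℕ) (i : ℤ) (hi : (seq hpc s₀ n).k ≤ i) : IsIso ((cι hpc s₀ n).f i) := by
  let ev := HomologicalComplex.eval (ModuleCat.{u} R) (ComplexShape.up ℤ) i
  have hc := isColimitOfPreserves ev (colimit.isColimit (Fun hpc s₀))
  have hconst : (Fun hpc s₀ ⋙ ev).IsEventuallyConstantFrom n := fun j f => by
    have := isIso_map_f hpc s₀ n j (leOfHom f) i hi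
    exact this
  exact hconst.isIso_ι_of_isColimit hc

theorem exists_stage_le (i : ℤ) : ∃ n : ℕ, (seq hpc s₀ n).k ≤ i := by
  refine ⟨(s₀.k - i).toNat, ?_⟩
  rw [seq_k_eq]
  have := Int.self_le_toNat (s₀.k - i)
  omega

theorem inv_hom_apply {X Y : ModuleCat.{u} R} (φ : X ⟶ Y) [IsIso φ] (y : Y) :
    φ.hom ((inv φ).hom y) = y := by
  have := congrArg (fun t => t.hom y) (IsIso.inv_hom_id φ)
  exact this

theorem hom_inv_apply {X Y : ModuleCat.{u} R} (φ : X ⟶ Y) [IsIso φ] (x : X) :
    (inv φ).hom (φ.hom x) = x := by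
  have := congrArg (fun t => t.hom x) (IsIso.hom_inv_id φ)
  exact this

theorem exactAt_cone_αinf (i : ℤ) : (mappingCone (αinf hpc s₀)).ExactAt i := by
  rw [exactAt_cone_iff (αinf hpc s₀) (i - 1) i (i + 1) (i + 1 + 1) (by omega) rfl rfl]
  intro f g hf hg
  obtain ⟨n, hn⟩ := exists_stage_le hpc s₀ i
  have i0 := isIso_cι_f hpc s₀ n i hn
  have i1 := isIso_cι_f hpc s₀ n (i + 1) (by omega)
  have i2 := isIso_cι_f hpc s₀ n (i + 1 + 1) (by omega)
  let fn : (seq hpc s₀ n).E.X (i + 1) := (inv ((cι hpc s₀ n).f (i + 1))).hom f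
  have hfn : ((cι hpc s₀ n).f (i + 1)).hom fn = f := inv_hom_apply _ _
  have hdfn : ((seq hpc s₀ n).E.d (i + 1) (i + 1 + 1)).hom fn = 0 := by
    have h1 : ((cι hpc s₀ n).f (i + 1 + 1)).hom
        (((seq hpc s₀ n).E.d (i + 1) (i + 1 + 1)).hom fn) = 0 := by
      have := congrArg (fun t => t.hom fn) ((cι hpc s₀ n).comm (i + 1) (i + 1 + 1))
      have h3 : ((Finf hpc s₀).d (i + 1) (i + 1 + 1)).hom (((cι hpc s₀ n).f (i + 1)).hom fn) =
          ((cι hpc s₀ n).f (i + 1 + 1)).hom (((seq hpc s₀ n).E.d (i + 1) (i + 1 + 1)).hom fn) := this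
      rw [← h3, hfn, hf]
    have h2 := hom_inv_apply ((cι hpc s₀ n).f (i + 1 + 1))
      (((seq hpc s₀ n).E.d (i + 1) (i + 1 + 1)).hom fn)
    rw [h1, map_zero] at h2
    exact h2.symm
  have hαfn : ((seq hpc s₀ n).α.f (i + 1)).hom fn = ((αinf hpc s₀).f (i + 1)).hom f := by
    have := congrArg (fun t => (t.f (i + 1)).hom fn) (cι_αinf hpc s₀ n)
    have h3 : ((αinf hpc s₀).f (i + 1)).hom (((cι hpc s₀ n).f (i + 1)).hom fn) =
        ((seq hpc s₀ n).α.f (i + 1)).hom fn := this
    rw [← h3, hfn]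
  have hexn := (seq hpc s₀ n).ex i hn
  rw [exactAt_cone_iff (seq hpc s₀ n).α (i - 1) i (i + 1) (i + 1 + 1) (by omega) rfl rfl] at hexn
  obtain ⟨f', g', hf', hg'⟩ := hexn fn g hdfn (by rw [hαfn]; exact hg)
  refine ⟨((cι hpc s₀ n).f i).hom f', g', ?_, ?_⟩
  · have := congrArg (fun t => t.hom f') ((cι hpc s₀ n).comm i (i + 1))
    have h3 : ((Finf hpc s₀).d i (i + 1)).hom (((cι hpc s₀ n).f i).hom f') =
        ((cι hpc s₀ n).f (i + 1)).hom (((seq hpc s₀ n).E.d i (i + 1)).hom f') := this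
    rw [h3, ← map_neg, hf', hfn]
  · have := congrArg (fun t => (t.f i).hom f') (cι_αinf hpc s₀ n)
    have h3 : ((αinf hpc s₀).f i).hom (((cι hpc s₀ n).f i).hom f') =
        ((seq hpc s₀ n).α.f i).hom f' := this
    rw [h3, hg']

theorem finiteFree_Finf : DRing.TermwiseFiniteFree (Finf hpc s₀) := by
  intro i
  obtain ⟨n, hn⟩ := exists_stage_le hpc s₀ i
  have i0 := isIso_cι_f hpc s₀ n i hn
  obtain ⟨h1, h2⟩ := (seq hpc s₀ n).ff i
  let e := (asIso ((cι hpc s₀ n).f i)).toLinearEquiv
  exact ⟨Module.Finite.equiv e, Module.Free.of_equiv e⟩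

theorem vanishesAbove_Finf : DRing.VanishesAbove (Finf hpc s₀) b := by
  intro i hi
  obtain ⟨n, hn⟩ := exists_stage_le hpc s₀ i
  have i0 := isIso_cι_f hpc s₀ n i hn
  exact ((seq hpc s₀ n).high i hi).of_iso (asIso ((cι hpc s₀ n).f i)).symm

end seq

/-- the initial stage -/
noncomputable def stage0 (L : DRing.Cx R) (b : ℤ) (hb : ∀ i, b < i → L.ExactAt i) : Stage L b where
  E := 0
  α := 0
  k := b + 1
  kb := le_refl _
  ff := fun i => by
    have : Subsingleton ((0 : DRing.Cx R).X i) :=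
      ModuleCat.subsingleton_of_isZero
        ((HomologicalComplex.eval _ _ i).map_isZero (Limits.isZero_zero _))
    exact ⟨inferInstance, inferInstance⟩
  low := fun i _ => (HomologicalComplex.eval _ _ i).map_isZero (Limits.isZero_zero _)
  high := fun i _ => (HomologicalComplex.eval _ _ i).map_isZero (Limits.isZero_zero _)
  ex := fun i hi => by
    rw [exactAt_cone_iff (0 : (0 : DRing.Cx R) ⟶ L) (i - 1) i (i + 1) (i + 1 + 1) (by omega) rfl rfl]
    intro f g _ hg
    have hz : ∀ j, ∀ x : (0 : DRing.Cx R).X j, x = 0 := fun j x => by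
      have : Subsingleton ((0 : DRing.Cx R).X j) := ModuleCat.subsingleton_of_isZero
        ((HomologicalComplex.eval _ _ j).map_isZero (Limits.isZero_zero _))
      exact Subsingleton.elim _ _
    have hdg : (L.d i (i + 1)).hom g = 0 := by
      rw [hz _ f, map_zero, zero_add] at hg
      exact hg
    have hE := Groth.Agent.Helper5.FlatAcyc.exact_of_exactAt L (i - 1) i (i + 1) (by omega) rfl
      (hb i (by omega))
    obtain ⟨g', hg'⟩ := (hE g).1 hdg
    exact ⟨0, g', by rw [map_zero, neg_zero]; exact (hz _ f).symm, by rw [map_zero, zero_add, hg']⟩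

/-- S2066, hard direction -/
theorem pc'_of_forall_pc (K : Dual.D R) (h : ∀ m : ℤ, DRing.IsPseudoCoherent R m K) :
    DRing.IsPseudoCoherent' R K := by
  let L : DRing.Cx R := Q.objPreimage K
  let eL : DRing.toD L ≅ K := Q.objObjPreimageIso K
  have hpc : ∀ m, DRing.IsPseudoCoherent R m (DRing.toD L) := fun m => pc_of_iso eL.symm (h m)
  -- boundedness
  obtain ⟨E, a, b, α, h1, h2, h3, h4⟩ := h 0
  let b' := max b 0
  have hb : ∀ i, b' < i → L.ExactAt i := by
    intro i hi
    have hi1 : b < i := lt_of_le_of_lt (le_max_left _ _) hi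
    have hi2 : 0 < i := lt_of_le_of_lt (le_max_right _ _) hi
    have := h3 i hi2
    rw [HomologicalComplex.exactAt_iff_isZero_homology]
    have hE : IsZero ((homologyFunctor (ModuleCat.{u} R) i).obj (DRing.toD E)) := by
      have hz : IsZero (E.homology i) := by
        rw [← HomologicalComplex.exactAt_iff_isZero_homology]
        exact HomologicalComplex.ExactAt.of_isZero (h1 i (Or.inr hi1))
      exact hz.of_iso ((homologyFunctorFactors (ModuleCat.{u} R) i).app E)
    have hK : IsZero ((homologyFunctor (ModuleCat.{u} R) i).obj K) :=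
      hE.of_iso (asIso ((homologyFunctor (ModuleCat.{u} R) i).map α)).symm
    exact (hK.of_iso ((homologyFunctor (ModuleCat.{u} R) i).mapIso eL)).of_iso
      ((homologyFunctorFactors (ModuleCat.{u} R) i).app L).symm
  let s₀ := stage0 L b' hb
  have hq : QuasiIso (αinf hpc s₀) := by
    rw [Groth.Agent.Helper5.FlatAcyc.quasiIso_iff_acyclic_cone]
    intro i
    exact exactAt_cone_αinf hpc s₀ i
  exact ⟨Finf hpc s₀, b', vanishesAbove_Finf hpc s₀, finiteFree_Finf hpc s₀,
    ⟨asIso (Q.map (αinf hpc s₀)) ≪≫ eL⟩⟩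

end Groth.Agent.Helper5.PCBuild
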