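import Mathlib
import Groth.Agent.Lib.Helper5.DRing.PCBuild
import Groth.Agent.Lib.Helper5.DRing.PerRes
import Groth.Agent.Lib.Helper5.TorAmp.Perf

set_option autoImplicit false
universe u
open CategoryTheory Limits CochainComplex HomComplex Pretriangulated DerivedCategory ZeroObject
attribute [local instance] HasDerivedCategory.standard

namespace Groth.Agent.Helper5.PCBuild
open Groth.Agent.S2067 Groth.Agent.Helper5.TorAmp
variable {R : Type u} [CommRing R]

/-- pseudo-coherence passes along a map which is an isomorphism on `H^i`, `i > m`, and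
an epimorphism on `H^m` -/
theorem pc_comp {K K' : Dual.D R} (f : K ⟶ K') (m : ℤ)
    (h1 : ∀ i : ℤ, m < i → IsIso ((homologyFunctor (ModuleCat.{u} R) i).map f))
    (h2 : Epi ((homologyFunctor (ModuleCat.{u} R) m).map f))
    (h : DRing.IsPseudoCoherent R m K) : DRing.IsPseudoCoherent R m K' := by
  obtain ⟨E, a, b, α, h3, h4, h5, h6⟩ := h
  refine ⟨E, a, b, α ≫ f, h3, h4, ?_, ?_⟩
  · intro i hi
    have := h1 i hi
    have := h5 i hi
    rw [Functor.map_comp]
    infer_instance
  · rw [Functor.map_comp]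
    exact epi_comp _ _

theorem trunc_finiteProjective (E : DRing.Cx R) (n : ℤ) (hE : DRing.TermwiseFiniteProjective E) :
    DRing.TermwiseFiniteProjective (trunc E n) := by
  intro i
  by_cases h : n ≤ i
  · obtain ⟨h1, h2⟩ := hE i
    let e : (F E n i) ≃ₗ[R] E.X i := LinearEquiv.ofTop (F E n i) (F_pos E h)
    exact ⟨Module.Finite.equiv e.symm, Module.Projective.of_equiv e.symm⟩
  · have : Subsingleton (F E n i) := by
      rw [F_neg E (not_le.1 h)]; infer_instance
    have : Subsingleton ((trunc E n).X i) := this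
    exact ⟨inferInstance, inferInstance⟩

/-- a bounded above complex of finite projectives is `m`-pseudo-coherent for all `m` -/
theorem pc_of_finProjRep {K : Dual.D R} (E : DRing.Cx R) (b : ℤ) (hb : DRing.VanishesAbove E b)
    (hE : DRing.TermwiseFiniteProjective E) (e : DRing.toD E ≅ K) (m : ℤ) :
    DRing.IsPseudoCoherent R m K := by
  have hperf : DRing.IsPerfect R (DRing.toD (trunc E m)) := by
    refine ⟨trunc E m, m, b, ?_, trunc_finiteProjective E m hE, ⟨Iso.refl _⟩⟩
    intro i hi
    rcases hi with hi | hi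
    · exact trunc_isZero E m i hi
    · have hz : IsZero (E.X i) := hb i hi
      have : Subsingleton (E.X i) := ModuleCat.subsingleton_of_isZero hz
      have : Subsingleton ((trunc E m).X i) := Subtype.val_injective.subsingleton
      exact ModuleCat.isZero_of_subsingleton _
  have h1 := pc_of_pc' (Groth.Agent.Helper5.PerRes.pc'_of_perfect _ hperf) m
  refine pc_comp (Q.map (truncι E m) ≫ e.hom) m ?_ ?_ h1
  · intro i hi
    rw [Functor.map_comp]
    have := H_Q_map_isIso _ i (truncι_homology_isIso E m i hi)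
    infer_instance
  · rw [Functor.map_comp]
    have := H_Q_map_epi _ m (truncι_homology_epi E m)
    exact epi_comp _ _

theorem s2066 (K : Dual.D R) :
    ((∀ m : ℤ, DRing.IsPseudoCoherent R m K) ↔ DRing.IsPseudoCoherent' R K) ∧
      ((∀ m : ℤ, DRing.IsPseudoCoherent R m K) ↔ ∃ (E : DRing.Cx R) (b : ℤ), DRing.VanishesAbove E b ∧
        DRing.TermwiseFiniteProjective E ∧ Nonempty (DRing.toD E ≅ K)) := by
  refine ⟨⟨pc'_of_forall_pc K, fun h m => pc_of_pc' h m⟩, ⟨fun h => ?_, ?_⟩⟩
  · obtain ⟨E, b, hb, hff, he⟩ := pc'_of_forall_pc K h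
    exact ⟨E, b, hb, finiteProjective_of_finiteFree hff, he⟩
  · rintro ⟨E, b, hb, hE, ⟨e⟩⟩ m
    exact pc_of_finProjRep E b hb hE e m

end Groth.Agent.Helper5.PCBuild
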