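import Mathlib
import Groth.Agent.Lib.Helper5.DRing.PCAll
import Groth.Agent.S2087

set_option autoImplicit false
universe u
open CategoryTheory Limits CochainComplex HomComplex Pretriangulated DerivedCategory ZeroObject
attribute [local instance] HasDerivedCategory.standard

namespace Groth.Agent.Helper5.PCDev
open Groth.Agent.S2067 Groth.Agent.S2087
variable {R : Type u} [CommRing R]

/-- cohomology of an object of `D(R)` -/
noncomputable abbrev Hn (i : ℤ) (K : Dual.D R) : ModuleCat.{u} R :=
  (homologyFunctor (ModuleCat.{u} R) i).obj K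

/-- `R^k` placed in degree `b` -/
noncomputable abbrev Sb (b : ℤ) (k : ℕ) : DRing.Cx R :=
  (HomologicalComplex.single (ModuleCat.{u} R) (ComplexShape.up ℤ) b).obj (ModuleCat.of R (Fin k → R))

theorem pc_of_vanishD (K : Dual.D R) (m : ℤ) (h : ∀ j, m ≤ j → IsZero (Hn j K)) :
    DRing.IsPseudoCoherent R m K := by
  let P : DRing.Cx R := Q.objPreimage K
  let e : DRing.toD P ≅ K := Q.objObjPreimageIso K
  refine pc_of_iso e (pc_of_vanish P m (fun j hj => ?_))
  exact ((h j hj).of_iso ((homologyFunctor (ModuleCat.{u} R) j).mapIso e)).of_iso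
    ((homologyFunctorFactors (ModuleCat.{u} R) j).app P).symm

theorem exists_phiD (K : Dual.D R) (b : ℤ) (hfin : Module.Finite R (Hn b K)) :
    ∃ (k : ℕ) (φ : DRing.toD (Sb b k) ⟶ K), Epi ((homologyFunctor (ModuleCat.{u} R) b).map φ) := by
  let P : DRing.Cx R := Q.objPreimage K
  let e : DRing.toD P ≅ K := Q.objObjPreimageIso K
  have : Module.Finite R (P.homology b) := by
    let e' := ((homologyFunctorFactors (ModuleCat.{u} R) b).app P).symm ≪≫
      (homologyFunctor (ModuleCat.{u} R) b).mapIso e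
    exact Module.Finite.equiv e'.symm.toLinearEquiv
  obtain ⟨k, φ, hφ⟩ := exists_phi P b
  refine ⟨k, Q.map φ ≫ e.hom, ?_⟩
  rw [Functor.map_comp]
  have := H_Q_map_epi φ b hφ
  exact epi_comp _ _

/-- general dévissage for `m`-pseudo-coherence -/
theorem devissage (m : ℤ) (P : Dual.D R → Prop)
    (hfin : ∀ (K : Dual.D R) (b : ℤ), P K → m ≤ b → (∀ j, b < j → IsZero (Hn j K)) →
      Module.Finite R (Hn b K))
    (hstep : ∀ (b : ℤ) (k : ℕ) (K K' : Dual.D R) (φ : DRing.toD (Sb b k) ⟶ K) (g : K ⟶ K')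
      (h : K' ⟶ (DRing.toD (Sb (R := R) b k))⟦(1 : ℤ)⟧), Triangle.mk φ g h ∈ distTriang _ → m ≤ b →
      (∀ j, b < j → IsZero (Hn j K)) → Epi ((homologyFunctor (ModuleCat.{u} R) b).map φ) →
      P K → P K')
    (K : Dual.D R) (hK : P K) (hb : ∃ B : ℤ, ∀ j, B < j → IsZero (Hn j K)) :
    DRing.IsPseudoCoherent R m K := by
  have key : ∀ (n : ℕ) (K : Dual.D R), P K → (∀ j, m - 1 + n < j → IsZero (Hn j K)) →
      DRing.IsPseudoCoherent R m K := by
    intro n
    induction n with
    | zero =>
      intro K _ hv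
      exact pc_of_vanishD K m (fun j hj => hv j (by simp; omega))
    | succ n ih =>
      intro K hK hv
      obtain ⟨b, hb⟩ : ∃ b : ℤ, b = m + n := ⟨_, rfl⟩
      have hvb : ∀ j, b < j → IsZero (Hn j K) := fun j hj => hv j (by push_cast; omega)
      have hf := hfin K b hK (by omega) hvb
      obtain ⟨k, φ, hφ⟩ := exists_phiD K b hf
      obtain ⟨Z, g, h, hT⟩ := distinguished_cocone_triangle φ
      have hZ : P Z := hstep b k K Z φ g h hT (by omega) hvb hφ hK
      have hvZ := cone_vanish _ hT b (fun j hj => single_hom_zero _ b j (by omega)) hvb hφ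
      have h3 := ih Z hZ (fun j hj => hvZ j (by omega))
      exact (Groth.Agent.S2067.main _ hT m).2.1 (pc_single _ b m) h3
  obtain ⟨B, hB⟩ := hb
  refine key (B - m + 1).toNat K hK (fun j hj => hB j ?_)
  have := Int.self_le_toNat (B - m + 1)
  omega

end Groth.Agent.Helper5.PCDev
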