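import Mathlib
import Groth.Agent.Lib.Helper5.DRing.PCDev

set_option autoImplicit false
universe u
open CategoryTheory Limits CochainComplex HomComplex Pretriangulated DerivedCategory ZeroObject
attribute [local instance] HasDerivedCategory.standard

namespace Groth.Agent.Helper5.PCDev
open Groth.Agent.S2067 Groth.Agent.S2087 Groth.Agent.Helper5.PCBuild
variable {R : Type u} [CommRing R]

/-- middle term of an exact sequence of modules over a Noetherian ring is finite -/
theorem finite_of_exact [IsNoetherianRing R] (S : ShortComplex (ModuleCat.{u} R)) (hS : S.Exact)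
    [Module.Finite R S.X₁] [Module.Finite R S.X₃] : Module.Finite R S.X₂ := by
  rw [ShortComplex.moduleCat_exact_iff_range_eq_ker] at hS
  have : IsNoetherian R S.X₁ := isNoetherian_of_isNoetherianRing_of_finite R _
  have : IsNoetherian R S.X₃ := isNoetherian_of_isNoetherianRing_of_finite R _
  have := isNoetherian_of_range_eq_ker S.f.hom S.g.hom hS
  infer_instance

theorem finite_Hn_single (b : ℤ) (k : ℕ) (j : ℤ) :
    Module.Finite R (Hn j (DRing.toD (Sb (R := R) b k))) := by
  by_cases hj : j = b
  · subst hj
    let e := (homologyFunctorFactors (ModuleCat.{u} R) j).app (Sb j k) ≪≫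
      HomologicalComplex.singleObjHomologySelfIso (ComplexShape.up ℤ) j (ModuleCat.of R (Fin k → R))
    exact Module.Finite.equiv e.symm.toLinearEquiv
  · have := ModuleCat.subsingleton_of_isZero (single_hom_zero (ModuleCat.of R (Fin k → R)) b j hj)
    infer_instance

/-- S6942, first part -/
theorem pc_iff_noetherian [IsNoetherianRing R] (m : ℤ) (K : Dual.D R) :
    DRing.IsPseudoCoherent R m K ↔
      (∃ b : ℤ, ∀ i : ℤ, b < i → Subsingleton (Dual.HD R K i)) ∧
        ∀ i : ℤ, m ≤ i → Module.Finite R (Dual.HD R K i) := by
  constructor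
  · intro h
    obtain ⟨B, hB⟩ := pc_bound K m h
    refine ⟨⟨B, fun i hi => ModuleCat.subsingleton_of_isZero (hB i hi)⟩, ?_⟩
    obtain ⟨E, a, b, α, hab, hff, hiso, hepi⟩ := h
    intro i hi
    have hE : Module.Finite R (Hn i (DRing.toD E)) := by
      have h1 : Module.Finite R (E.X i) := (hff i).1
      have : IsNoetherian R (E.X i) := isNoetherian_of_isNoetherianRing_of_finite R _
      have h2 : Module.Finite R (LinearMap.ker (E.d i (i+1)).hom) := inferInstance
      have h3 := Groth.Agent.S2068.homology_fin E i h2
      have h3' : Module.Finite R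
          ↑((HomologicalComplex.homologyFunctor (ModuleCat.{u} R) (ComplexShape.up ℤ) i).obj E) := h3
      exact Module.Finite.equiv ((homologyFunctorFactors (ModuleCat.{u} R) i).app E).symm.toLinearEquiv
    have hepi' : Epi ((homologyFunctor (ModuleCat.{u} R) i).map α) := by
      rcases eq_or_lt_of_le hi with rfl | h
      · exact hepi
      · have := hiso i h; infer_instance
    exact Module.Finite.of_surjective ((homologyFunctor (ModuleCat.{u} R) i).map α).hom
      ((ModuleCat.epi_iff_surjective _).1 hepi')
  · rintro ⟨⟨B, hB⟩, hfin⟩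
    refine devissage m (fun K => ∀ i : ℤ, m ≤ i → Module.Finite R (Hn i K)) ?_ ?_ K hfin
      ⟨B, fun j hj => by have := hB j hj; exact ModuleCat.isZero_of_subsingleton _⟩
    · intro K b hK hb _
      exact hK b hb
    · intro b k K K' φ g h hT hmb hv hφ hK i hi
      have h1 := hK i hi
      have h2 : Module.Finite R (Hn (i + 1) (DRing.toD (Sb (R := R) b k))) := finite_Hn_single b k (i + 1)
      exact @finite_of_exact R _ _ _ (HomologySequence.exact₃ _ hT i (i + 1) rfl) h1 h2

/-- cohomology of a module in degree 0 -/
noncomputable def HnInD (M : ModuleCat.{u} R) :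
    Hn 0 ((DerivedCategory.singleFunctor (ModuleCat.{u} R) 0).obj M) ≅ M :=
  ((DerivedCategory.singleFunctorCompHomologyFunctorIso (ModuleCat.{u} R) 0).app M)

theorem isZero_Hn_inD (M : ModuleCat.{u} R) (j : ℤ) (hj : j ≠ 0) :
    IsZero (Hn j ((DerivedCategory.singleFunctor (ModuleCat.{u} R) 0).obj M)) := by
  rcases lt_or_gt_of_ne hj with h | h
  · exact DerivedCategory.isZero_of_isGE _ 0 j h
  · exact DerivedCategory.isZero_of_isLE _ 0 j h

/-- S6942, second part -/
theorem pcModule_iff_noetherian [IsNoetherianRing R] (M : Type u) [AddCommGroup M] [Module R M] :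
    DRing.IsPseudoCoherentModule' R M ↔ Module.Finite R M := by
  constructor
  · intro h
    have h0 := Groth.Agent.Helper5.TorAmp.pc_of_pc' h 0
    have := ((pc_iff_noetherian 0 _).1 h0).2 0 le_rfl
    exact Module.Finite.equiv (HnInD (ModuleCat.of R M)).toLinearEquiv
  · intro h
    refine pc'_of_forall_pc _ (fun m => (pc_iff_noetherian m _).2 ⟨⟨0, fun i hi => ?_⟩, fun i _ => ?_⟩)
    · exact ModuleCat.subsingleton_of_isZero (isZero_Hn_inD _ i (by omega))
    · by_cases hi : i = 0
      · subst hi
        exact Module.Finite.equiv (HnInD (ModuleCat.of R M)).symm.toLinearEquiv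
      · have := ModuleCat.subsingleton_of_isZero (isZero_Hn_inD (ModuleCat.of R M) i hi)
        infer_instance

end Groth.Agent.Helper5.PCDev
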