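import Mathlib
import Groth.Agent.Lib.Helper5.DRing.PCNoeth

set_option autoImplicit false
universe u
open CategoryTheory Limits CochainComplex HomComplex Pretriangulated DerivedCategory ZeroObject
attribute [local instance] HasDerivedCategory.standard

namespace Groth.Agent.Helper5.PCDev
open Groth.Agent.S2067 Groth.Agent.S2087 Groth.Agent.Helper5.PCBuild
variable {R : Type u} [CommRing R]

/-- killing a finitely presented top cohomology: the next cohomology of the cone stays finite -/
theorem finite_cone_prev (b b' : ℤ) (hb : b' + 1 = b) (k : ℕ) (K Z : Dual.D R)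
    (φ : DRing.toD (Sb b k) ⟶ K) (g : K ⟶ Z) (h : Z ⟶ (DRing.toD (Sb (R := R) b k))⟦(1 : ℤ)⟧)
    (hT : Triangle.mk φ g h ∈ distTriang _)
    (hφ : Epi ((homologyFunctor (ModuleCat.{u} R) b).map φ))
    (hfp : Module.FinitePresentation R (Hn b K)) (hfin : Module.Finite R (Hn b' K)) :
    Module.Finite R (Hn b' Z) := by
  have ex3 := HomologySequence.exact₃ _ hT b' b hb
  have ex1 := HomologySequence.exact₁ _ hT b' b hb
  rw [ShortComplex.moduleCat_exact_iff_range_eq_ker] at ex3 ex1
  have hS : Module.Finite R (Hn b (DRing.toD (Sb (R := R) b k))) := finite_Hn_single b k b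
  have hsurj : Function.Surjective ((homologyFunctor (ModuleCat.{u} R) b).map φ).hom :=
    (ModuleCat.epi_iff_surjective _).1 hφ
  have hker := Module.FinitePresentation.fg_ker _ hsurj
  let δ : Hn b' Z ⟶ Hn b (DRing.toD (Sb (R := R) b k)) :=
    HomologySequence.δ (Triangle.mk φ g h) b' b hb
  have ex1' : LinearMap.range δ.hom =
      LinearMap.ker ((homologyFunctor (ModuleCat.{u} R) b).map φ).hom := ex1
  have ex3' : LinearMap.range ((homologyFunctor (ModuleCat.{u} R) b').map g).hom =
      LinearMap.ker δ.hom := ex3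
  have h1 : (LinearMap.range δ.hom).FG := by
    rw [ex1']; exact hker
  have h2 : (LinearMap.ker δ.hom).FG := by
    rw [← ex3', LinearMap.range_eq_map]; exact hfin.1.map _
  refine ⟨Submodule.fg_of_fg_map_of_fg_inf_ker δ.hom ?_ ?_⟩
  · rwa [LinearMap.range_eq_map] at h1
  · rwa [top_inf_eq]

/-- S6936 -/
theorem s6936 (m : ℤ) (K : Dual.D R) (hvan : ∀ i : ℤ, m + 1 < i → Subsingleton (Dual.HD R K i))
    (hfp : Module.FinitePresentation R (Dual.HD R K (m + 1))) (hfin : Module.Finite R (Dual.HD R K m)) :
    DRing.IsPseudoCoherent R m K := by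
  have hv : ∀ j, m + 1 < j → IsZero (Hn j K) := fun j hj => by
    have := hvan j hj; exact ModuleCat.isZero_of_subsingleton _
  have hf1 : Module.Finite R (Hn (m + 1) K) := inferInstance
  obtain ⟨k, φ, hφ⟩ := exists_phiD K (m + 1) hf1
  obtain ⟨Z, g, h, hT⟩ := distinguished_cocone_triangle φ
  have hvZ := cone_vanish _ hT (m + 1) (fun j hj => single_hom_zero _ (m + 1) j (by omega)) hv hφ
  have hZfin : Module.Finite R (Hn m Z) := finite_cone_prev (m + 1) m rfl k K Z φ g h hT hφ hfp hfin
  obtain ⟨k', φ', hφ'⟩ := exists_phiD Z m hZfin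
  obtain ⟨Z', g', h', hT'⟩ := distinguished_cocone_triangle φ'
  have hvZ' := cone_vanish _ hT' m (fun j hj => single_hom_zero _ m j (by omega))
    (fun j hj => hvZ j (by omega)) hφ'
  have h3 : DRing.IsPseudoCoherent R m Z' := pc_of_vanishD Z' m hvZ'
  have h2 : DRing.IsPseudoCoherent R m Z := (Groth.Agent.S2067.main _ hT' m).2.1 (pc_single _ m m) h3
  exact (Groth.Agent.S2067.main _ hT m).2.1 (pc_single _ (m + 1) m) h2

end Groth.Agent.Helper5.PCDev

namespace Groth.Agent.Helper5.PCDev
open Groth.Agent.S2067 Groth.Agent.S2087 Groth.Agent.Helper5.PCBuild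
variable {R : Type u} [CommRing R]

theorem fp_of_subsingleton (N : Type u) [AddCommGroup N] [Module R N] [Subsingleton N] :
    Module.FinitePresentation R N := inferInstance

/-- S6935 -/
theorem s6935 (M : Type u) [AddCommGroup M] [Module R M] :
    (DRing.IsPseudoCoherentModule R 0 M ↔ Module.Finite R M) ∧
      (DRing.IsPseudoCoherentModule R (-1) M ↔ Module.FinitePresentation R M) := by
  have hz : ∀ j : ℤ, j ≠ 0 → IsZero (Hn j (Dual.inD R M)) := fun j hj =>
    isZero_Hn_inD (ModuleCat.of R M) j hj
  have hs : ∀ j : ℤ, j ≠ 0 → Subsingleton (Hn j (Dual.inD R M)) := fun j hj =>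
    ModuleCat.subsingleton_of_isZero (hz j hj)
  refine ⟨⟨fun h => ?_, fun h => ?_⟩, ⟨fun h => ?_, fun h => ?_⟩⟩
  · have := (Groth.Agent.S2068.result _ 0 h).1 (fun i hi => hz i (by omega))
    exact Module.Finite.equiv (HnInD (ModuleCat.of R M)).toLinearEquiv
  · refine s6936 0 _ (fun i hi => hs i (by omega)) ?_ ?_
    · have := hs (0 + 1) (by omega)
      infer_instance
    · exact Module.Finite.equiv (HnInD (ModuleCat.of R M)).symm.toLinearEquiv
  · have h' := (Groth.Agent.S2068.result _ (-1) h).2 (fun i hi => hz i (by omega))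
    have : Module.FinitePresentation R (Hn 0 (Dual.inD R M)) := h'
    exact Module.FinitePresentation.of_equiv (HnInD (ModuleCat.of R M)).toLinearEquiv
  · refine s6936 (-1) _ (fun i hi => hs i (by omega)) ?_ ?_
    · have : Module.FinitePresentation R (Hn 0 (Dual.inD R M)) :=
        Module.FinitePresentation.of_equiv (HnInD (ModuleCat.of R M)).symm.toLinearEquiv
      exact this
    · have := hs (-1) (by omega)
      infer_instance

end Groth.Agent.Helper5.PCDev
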