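import Mathlib
import Groth.Agent.Lib.Helper5.DRing.PCLow
import Groth.Agent.Lib.Helper5.DRing.Dev3
import Groth.Agent.Lib.Helper5.DRing.DevT2

set_option autoImplicit false
universe u
open CategoryTheory Limits CochainComplex HomComplex Pretriangulated DerivedCategory ZeroObject
attribute [local instance] HasDerivedCategory.standard

namespace Groth.Agent.Helper5.PCDev
open Groth.Agent.S2067 Groth.Agent.S2087 Groth.Agent.Helper5.PCBuild
variable {R : Type u} [CommRing R]

/-- general shift of `n`-pseudo-coherence -/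
theorem pc_shift (X : Dual.D R) (n k n' : ℤ) (hn : n' + k = n) (h : DRing.IsPseudoCoherent R n X) :
    DRing.IsPseudoCoherent R n' (X⟦k⟧) := by
  obtain ⟨E, a, b, α, hab, hff, hiso, hepi⟩ := h
  let F := homologyFunctor (ModuleCat.{u} R) 0
  have key : ∀ i : ℤ, ∀ j : ℤ, k + i = j →
      (IsIso ((homologyFunctor (ModuleCat.{u} R) i).map (α⟦k⟧')) ↔
        IsIso ((homologyFunctor (ModuleCat.{u} R) j).map α)) := fun i j hij =>
    NatIso.isIso_map_iff (F.shiftIso k i j hij) α
  have key' : ∀ i : ℤ, ∀ j : ℤ, k + i = j →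
      Epi ((homologyFunctor (ModuleCat.{u} R) j).map α) →
        Epi ((homologyFunctor (ModuleCat.{u} R) i).map (α⟦k⟧')) := fun i j hij hj =>
    epi_map_of_natIso (F.shiftIso k i j hij) α hj
  refine ⟨E⟦k⟧, a - k, b - k, (Q.commShiftIso k).hom.app E ≫ α⟦k⟧', ?_, ?_, ?_, ?_⟩
  · intro i hi
    exact hab (i + k) (by omega)
  · intro i
    exact hff (i + k)
  · intro i hi
    rw [Functor.map_comp]
    have := (key i (i + k) (by omega)).2 (hiso (i + k) (by omega))
    infer_instance
  · rw [Functor.map_comp]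
    have := key' n' n (by omega) hepi
    exact epi_comp _ _

/-- a module placed in degree `i` -/
theorem pc_single_of_module (M : ModuleCat.{u} R) (m i : ℤ)
    (h : DRing.IsPseudoCoherent R (m - i) ((DerivedCategory.singleFunctor (ModuleCat.{u} R) 0).obj M)) :
    DRing.IsPseudoCoherent R m ((DerivedCategory.singleFunctor (ModuleCat.{u} R) i).obj M) :=
  Groth.Agent.S2087.pc_of_iso (((DerivedCategory.singleFunctors (ModuleCat.{u} R)).shiftIso (-i) i 0 (by omega)).app M)
    (pc_shift _ (m - i) (-i) m (by omega) h)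

/-- the property of being `m`-pseudo-coherent -/
def pcProp (m : ℤ) : ObjectProperty (Dual.D R) := fun K => DRing.IsPseudoCoherent R m K

instance (m : ℤ) : (pcProp (R := R) m).IsClosedUnderIsomorphisms where
  of_iso e h := Groth.Agent.S2087.pc_of_iso e h

theorem pcProp_ext (m : ℤ) : ∀ T ∈ distTriang (Dual.D R),
    pcProp m T.obj₁ → pcProp m T.obj₃ → pcProp m T.obj₂ :=
  fun T hT h1 h3 => (Groth.Agent.S2067.main T hT m).2.1 h1 h3

theorem pc_of_isZero (Z : Dual.D R) (hZ : IsZero Z) (m : ℤ) : DRing.IsPseudoCoherent R m Z :=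
  pc_of_vanishD Z m (fun _ _ => Functor.map_isZero _ hZ)

/-- S6938, first half -/
theorem pc_of_terms (m : ℤ) (K : DRing.Cx R) (b : ℤ) (hb : DRing.VanishesAbove K b)
    (h : ∀ i : ℤ, DRing.IsPseudoCoherentModule R (m - i) (K.X i)) :
    DRing.IsPseudoCoherent R m (DRing.toD K) := by
  have h1 : DRing.IsPseudoCoherent R m (DRing.toD (trunc K m)) := by
    refine Groth.Agent.Helper5.Devissage.of_terms' (pcProp m) (pcProp_ext m) (trunc K m) m b ?_ ?_
    · rintro i (hi | hi)
      · exact trunc_isZero K m i hi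
      · by_cases him : m ≤ i
        · have := truncι_isIso K m i him
          exact (hb i hi).of_iso (asIso ((truncι K m).f i))
        · exact trunc_isZero K m i (by omega)
    · intro i
      by_cases him : m ≤ i
      · have := truncι_isIso K m i him
        exact Groth.Agent.S2087.pc_of_iso ((DerivedCategory.singleFunctor (ModuleCat.{u} R) i).mapIso (asIso ((truncι K m).f i))).symm
          (pc_single_of_module _ m i (h i))
      · exact pc_of_isZero _ (Functor.map_isZero _ (trunc_isZero K m i (by omega))) m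
  refine pc_comp (Q.map (truncι K m)) m (fun i hi => ?_) ?_ h1
  · exact H_Q_map_isIso _ i (truncι_homology_isIso K m i hi)
  · exact H_Q_map_epi _ m (truncι_homology_epi K m)

/-- S6938 -/
theorem s6938 (m : ℤ) (K : DRing.Cx R) (b : ℤ) (hb : DRing.VanishesAbove K b) :
    ((∀ i : ℤ, DRing.IsPseudoCoherentModule R (m - i) (K.X i)) →
        DRing.IsPseudoCoherent R m (DRing.toD K)) ∧
      ((∀ i : ℤ, DRing.IsPseudoCoherentModule' R (K.X i)) →
        DRing.IsPseudoCoherent' R (DRing.toD K)) := by
  refine ⟨pc_of_terms m K b hb, fun h => pc'_of_forall_pc _ (fun m' => ?_)⟩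
  exact pc_of_terms m' K b hb (fun i => Groth.Agent.Helper5.TorAmp.pc_of_pc' (h i) _)

end Groth.Agent.Helper5.PCDev

namespace Groth.Agent.Helper5.PCDev
open Groth.Agent.S2067 Groth.Agent.S2087 Groth.Agent.Helper5.PCBuild
variable {R : Type u} [CommRing R]

/-- S6939, first half -/
theorem pc_of_homology (m : ℤ) (K : Dual.D R)
    (hb : ∃ b : ℤ, ∀ i : ℤ, b < i → Subsingleton (Dual.HD R K i))
    (h : ∀ i : ℤ, DRing.IsPseudoCoherentModule R (m - i) (Dual.HD R K i)) :
    DRing.IsPseudoCoherent R m K := by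
  obtain ⟨b, hb⟩ := hb
  let T := (TStructure.t.triangleLEGE (m - 1) m (by omega)).obj K
  have hT : T ∈ distTriang _ := TStructure.t.triangleLEGE_distinguished (m - 1) m (by omega) K
  have l1 : T.obj₁.IsLE (m - 1) := by
    change TStructure.t.IsLE ((TStructure.t.truncLE (m - 1)).obj K) (m - 1)
    infer_instance
  have g3 : T.obj₃.IsGE m := by
    change TStructure.t.IsGE ((TStructure.t.truncGE m).obj K) m
    infer_instance
  have h1 : DRing.IsPseudoCoherent R m T.obj₁ :=
    pc_of_vanishD _ m (fun j hj => isZero_of_isLE T.obj₁ (m - 1) j (by omega))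
  have hiso : ∀ i, m ≤ i → IsIso ((homologyFunctor (ModuleCat.{u} R) i).map T.mor₂) := fun i hi =>
    Groth.Agent.Helper5.Devissage.isIso_homologyMap_mor₂ T hT i
      (isZero_of_isLE T.obj₁ (m - 1) i (by omega)) (isZero_of_isLE T.obj₁ (m - 1) (i + 1) (by omega))
  have h3 : DRing.IsPseudoCoherent R m T.obj₃ := by
    refine Groth.Agent.Helper5.Devissage.of_homology' (pcProp m) (pcProp_ext m) T.obj₃ m (max b m) ?_ ?_
    · rintro i (hi | hi)
      · exact isZero_of_isGE T.obj₃ m i hi
      · have := hiso i (by have := le_max_right b m; omega)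
        have hs : Subsingleton ↑((homologyFunctor (ModuleCat.{u} R) i).obj T.obj₂) :=
          hb i (by have := le_max_left b m; omega)
        exact (ModuleCat.isZero_of_subsingleton _).of_iso
          (asIso ((homologyFunctor (ModuleCat.{u} R) i).map T.mor₂)).symm
    · intro i
      by_cases him : m ≤ i
      · have := hiso i him
        exact Groth.Agent.S2087.pc_of_iso ((DerivedCategory.singleFunctor (ModuleCat.{u} R) i).mapIso
          (asIso ((homologyFunctor (ModuleCat.{u} R) i).map T.mor₂)))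
          (pc_single_of_module _ m i (h i))
      · exact pc_of_isZero _ (Functor.map_isZero _ (isZero_of_isGE T.obj₃ m i (by omega))) m
  exact (Groth.Agent.S2067.main T hT m).2.1 h1 h3

/-- S6939 -/
theorem s6939 (m : ℤ) (K : Dual.D R)
    (hb : ∃ b : ℤ, ∀ i : ℤ, b < i → Subsingleton (Dual.HD R K i)) :
    ((∀ i : ℤ, DRing.IsPseudoCoherentModule R (m - i) (Dual.HD R K i)) →
        DRing.IsPseudoCoherent R m K) ∧
      ((∀ i : ℤ, DRing.IsPseudoCoherentModule' R (Dual.HD R K i)) → DRing.IsPseudoCoherent' R K) := by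
  refine ⟨pc_of_homology m K hb, fun h => pc'_of_forall_pc _ (fun m' => ?_)⟩
  exact pc_of_homology m' K hb (fun i => Groth.Agent.Helper5.TorAmp.pc_of_pc' (h i) _)

end Groth.Agent.Helper5.PCDev
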