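import Mathlib
import Groth.Agent.Lib.Helper5.DRing.PCTerms
import Groth.Agent.Lib.Helper5.DMod.DCRestrict

set_option autoImplicit false
universe u
open CategoryTheory Limits CochainComplex HomComplex Pretriangulated DerivedCategory ZeroObject
attribute [local instance] HasDerivedCategory.standard

namespace Groth.Agent.Helper5.PCRes
open Groth.Agent.S2067 Groth.Agent.Helper5.PCBuild Groth.Agent.Helper5.PCDev
variable {A : Type u} [CommRing A]

/-- `M` is `m`-pseudo-coherent as a module for every `m` -/
def AllPC (M : ModuleCat.{u} A) : Prop :=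
  ∀ m : ℤ, DRing.IsPseudoCoherent A m ((DerivedCategory.singleFunctor (ModuleCat.{u} A) 0).obj M)

theorem allPC_of_iso {M N : ModuleCat.{u} A} (e : M ≅ N) (h : AllPC M) : AllPC N :=
  fun m => Groth.Agent.S2087.pc_of_iso ((DerivedCategory.singleFunctor (ModuleCat.{u} A) 0).mapIso e) (h m)

theorem allPC_of_isZero {M : ModuleCat.{u} A} (h : IsZero M) : AllPC M :=
  fun m => pc_of_isZero _ (Functor.map_isZero _ h) m

theorem allPC_of_shortExact (S : ShortComplex (ModuleCat.{u} A)) (hS : S.ShortExact)
    (h1 : AllPC S.X₁) (h3 : AllPC S.X₃) : AllPC S.X₂ :=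
  fun m => (Groth.Agent.S2067.main _ hS.singleTriangle_distinguished m).2.1 (h1 m) (h3 m)

theorem allPC_prod (M N : Type u) [AddCommGroup M] [Module A M] [AddCommGroup N] [Module A N]
    (hM : AllPC (ModuleCat.of A M)) (hN : AllPC (ModuleCat.of A N)) :
    AllPC (ModuleCat.of A (M × N)) := by
  let S : ShortComplex (ModuleCat.{u} A) :=
    ShortComplex.mk (ModuleCat.ofHom (LinearMap.inl A M N)) (ModuleCat.ofHom (LinearMap.snd A M N))
      (by ext x; simp)
  have hS : S.ShortExact := by
    refine ShortComplex.ShortExact.mk' ?_ ?_ ?_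
    · rw [ShortComplex.moduleCat_exact_iff_range_eq_ker]
      exact LinearMap.range_inl A M N
    · rw [ModuleCat.mono_iff_injective]
      exact LinearMap.inl_injective
    · rw [ModuleCat.epi_iff_surjective]
      exact LinearMap.snd_surjective
  exact allPC_of_shortExact S hS hM hN

theorem allPC_pi (M : Type u) [AddCommGroup M] [Module A M] (hM : AllPC (ModuleCat.of A M)) (n : ℕ) :
    AllPC (ModuleCat.of A (Fin n → M)) := by
  induction n with
  | zero =>
    exact allPC_of_isZero (ModuleCat.isZero_of_subsingleton _)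
  | succ n ih =>
    exact allPC_of_iso (Fin.consLinearEquiv A (fun _ : Fin (n+1) => M)).toModuleIso
      (allPC_prod M (Fin n → M) hM ih)

variable {B : Type u} [CommRing B] [Algebra A B]

variable (A B) in
/-- restriction of scalars along `A → B` -/
noncomputable abbrev res : ModuleCat.{u} B ⥤ ModuleCat.{u} A :=
  ModuleCat.restrictScalars (algebraMap A B)

/-- the `A`-linear equivalence underlying a `B`-linear equivalence to `B^n` -/
noncomputable def resEquiv (N : ModuleCat.{u} B) (n : ℕ) (e : N ≃ₗ[B] (Fin n → B)) :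
    (res A B).obj N ≃ₗ[A] (Fin n → B) where
  toFun x := e x
  invFun y := e.symm y
  left_inv x := e.symm_apply_apply x
  right_inv y := e.apply_symm_apply y
  map_add' x y := e.map_add x y
  map_smul' a x := by
    show e ((algebraMap A B a) • (show N from x)) = a • e x
    rw [e.map_smul]
    ext i
    simp [Algebra.smul_def]

theorem allPC_res_finiteFree (hB : AllPC (ModuleCat.of A B)) (N : ModuleCat.{u} B)
    [Module.Finite B N] [Module.Free B N] : AllPC ((res A B).obj N) := by
  let b := Module.Free.chooseBasis B N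
  let e : N ≃ₗ[B] (Fin _ → B) := (b.reindex (Fintype.equivFin _)).equivFun
  exact allPC_of_iso (resEquiv N _ e).toModuleIso.symm (allPC_pi B hB _)


section general
variable {C : Type*} [Category C] [Abelian C] [HasDerivedCategory C]

theorem cone_vanish_of_iso_epi (T : Triangle (DerivedCategory C)) (hT : T ∈ distTriang _) (m : ℤ)
    (h1 : ∀ i : ℤ, m < i → IsIso ((homologyFunctor C i).map T.mor₁))
    (h2 : Epi ((homologyFunctor C m).map T.mor₁)) :
    ∀ i : ℤ, m ≤ i → IsZero ((homologyFunctor C i).obj T.obj₃) := by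
  intro i hi
  have ex3 := HomologySequence.exact₃ T hT i (i + 1) rfl
  have he : Epi ((homologyFunctor C i).map T.mor₁) := by
    rcases eq_or_lt_of_le hi with rfl | h
    · exact h2
    · have := h1 i h; infer_instance
  have hm : Mono ((homologyFunctor C (i + 1)).map T.mor₁) := by
    have := h1 (i + 1) (by omega); infer_instance
  exact ex3.isZero_of_both_zeros ((HomologySequence.epi_homologyMap_mor₁_iff T hT i).1 he)
    ((HomologySequence.mono_homologyMap_mor₁_iff T hT i (i + 1) rfl).1 hm)

theorem iso_epi_of_cone_vanish (T : Triangle (DerivedCategory C)) (hT : T ∈ distTriang _) (m : ℤ)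
    (h : ∀ i : ℤ, m ≤ i → IsZero ((homologyFunctor C i).obj T.obj₃)) :
    (∀ i : ℤ, m < i → IsIso ((homologyFunctor C i).map T.mor₁)) ∧
      Epi ((homologyFunctor C m).map T.mor₁) := by
  refine ⟨fun i hi => Groth.Agent.Helper5.Devissage.isIso_homologyMap_mor₁ T hT i
    (h (i - 1) (by omega)) (h i (by omega)), ?_⟩
  rw [HomologySequence.epi_homologyMap_mor₁_iff T hT m]
  exact (h m le_rfl).eq_of_tgt _ _

end general

variable (A B) in
/-- restriction of scalars on derived categories -/
noncomputable abbrev resD : Dual.D B ⥤ Dual.D A := DRing.restrictD (algebraMap A B)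

variable (A B) in
/-- restriction of scalars on complexes -/
noncomputable abbrev resC : DRing.Cx B ⥤ DRing.Cx A :=
  (ModuleCat.restrictScalars (algebraMap A B)).mapHomologicalComplex (ComplexShape.up ℤ)

/-- `Q` commutes with restriction -/
noncomputable def resQ (E : DRing.Cx B) : (resD A B).obj (DRing.toD E) ≅ DRing.toD ((resC A B).obj E) :=
  (ModuleCat.restrictScalars (algebraMap A B)).mapDerivedCategoryFactors.app E

noncomputable def HnRes (K : Dual.D B) (i : ℤ) :
    Hn i ((resD A B).obj K) ≅ (res A B).obj (Hn i K) :=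
  Helper5.DMod.mapDerivedCategoryHomologyIso (res A B) K i

theorem isZero_Hn_resD (K : Dual.D B) (i : ℤ) (h : IsZero (Hn i K)) :
    IsZero (Hn i ((resD A B).obj K)) :=
  ((res A B).map_isZero h).of_iso (HnRes K i)

theorem isZero_Hn_of_resD (K : Dual.D B) (i : ℤ) (h : IsZero (Hn i ((resD A B).obj K))) :
    IsZero (Hn i K) := by
  have h1 : IsZero ((res A B).obj (Hn i K)) := h.of_iso (HnRes K i).symm
  have h2 : Subsingleton ((res A B).obj (Hn i K)) := ModuleCat.subsingleton_of_isZero h1
  have h3 : Subsingleton (Hn i K) := h2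
  exact ModuleCat.isZero_of_subsingleton _

/-- restriction of a bounded above complex of finite free modules is `m`-pc for all `m` -/
theorem pc_resC (hB : AllPC (ModuleCat.of A B)) (E : DRing.Cx B) (b : ℤ) (hb : DRing.VanishesAbove E b)
    (hff : DRing.TermwiseFiniteFree E) (m : ℤ) :
    DRing.IsPseudoCoherent A m ((resD A B).obj (DRing.toD E)) := by
  refine Groth.Agent.S2087.pc_of_iso (resQ E).symm (pc_of_terms m _ b ?_ ?_)
  · intro i hi
    exact (res A B).map_isZero (hb i hi)
  · intro i
    obtain ⟨h1, h2⟩ := hff i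
    exact allPC_res_finiteFree hB (E.X i) (m - i)

/-- S6940 (⇒) -/
theorem pc_res_of_pc (hB : AllPC (ModuleCat.of A B)) (K : Dual.D B) (m : ℤ)
    (h : DRing.IsPseudoCoherent B m K) : DRing.IsPseudoCoherent A m ((resD A B).obj K) := by
  obtain ⟨E, a, b, α, hab, hff, hiso, hepi⟩ := h
  obtain ⟨C, g, δ, hT⟩ := distinguished_cocone_triangle α
  have hC := cone_vanish_of_iso_epi _ hT m hiso hepi
  have hT' := (resD A B).map_distinguished _ hT
  obtain ⟨h1, h2⟩ := iso_epi_of_cone_vanish _ hT' m (fun i hi => isZero_Hn_resD C i (hC i hi))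
  exact pc_comp ((resD A B).map α) m h1 h2
    (pc_resC hB E b (fun i hi => hab i (Or.inr hi)) hff m)


/-- finiteness over `A` of the restriction gives finiteness over `B` -/
theorem finite_of_res (N : ModuleCat.{u} B) (h : Module.Finite A ((res A B).obj N)) :
    Module.Finite B N := by
  obtain ⟨s, hs⟩ := h.1
  let t : Finset N := s
  refine ⟨⟨t, ?_⟩⟩
  rw [eq_top_iff]
  intro x _
  have hx : (show (res A B).obj N from x) ∈ Submodule.span A (s : Set ((res A B).obj N)) := by
    rw [hs]; trivial
  have key : ∀ y : (res A B).obj N, y ∈ Submodule.span A (s : Set ((res A B).obj N)) →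
      (show N from y) ∈ Submodule.span B (t : Set N) := by
    intro y hy
    induction hy using Submodule.span_induction with
    | mem y hy => exact Submodule.subset_span hy
    | zero => exact Submodule.zero_mem _
    | add y z _ _ hy hz => exact Submodule.add_mem _ hy hz
    | smul a y _ hy => exact Submodule.smul_mem _ (algebraMap A B a) hy
  exact key x hx

/-- S6940 (⇐) -/
theorem pc_of_pc_res (hB : AllPC (ModuleCat.of A B)) (K : Dual.D B) (m : ℤ)
    (h : DRing.IsPseudoCoherent A m ((resD A B).obj K)) : DRing.IsPseudoCoherent B m K := by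
  refine devissage m (fun K => DRing.IsPseudoCoherent A m ((resD A B).obj K)) ?_ ?_ K h ?_
  · intro K b hK hmb hv
    have h1 : DRing.IsPseudoCoherent A b ((resD A B).obj K) := Groth.Agent.S2087.pc_mono _ hmb hK
    have h2 := (Groth.Agent.S2068.result _ b h1).1 (fun i hi => isZero_Hn_resD K i (hv i hi))
    have h3 : Module.Finite A ((res A B).obj (Hn b K)) :=
      Module.Finite.equiv (HnRes K b).toLinearEquiv
    exact finite_of_res _ h3
  · intro b k K K' φ g h hT hmb hv hφ hK
    have hT' := (resD A B).map_distinguished _ hT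
    have h1 : DRing.IsPseudoCoherent A (m + 1) ((resD A B).obj (DRing.toD (Sb (R := B) b k))) :=
      pc_resC hB _ b (fun i hi => HomologicalComplex.isZero_single_obj_X _ _ _ _ (by omega))
        (finiteFree_single b k) (m + 1)
    exact Groth.Agent.S2067.part1 _ hT' m h1 hK
  · obtain ⟨B0, hB0⟩ := Groth.Agent.S2087.pc_bound _ m h
    exact ⟨B0, fun j hj => isZero_Hn_of_resD K j (hB0 j hj)⟩


/-- S6940 -/
theorem s6940 (hB : DRing.IsPseudoCoherentModule' A B) (K : Dual.D B) (m : ℤ) :
    (DRing.IsPseudoCoherent B m K ↔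
        DRing.IsPseudoCoherent A m ((DRing.restrictD (algebraMap A B)).obj K)) ∧
      (DRing.IsPseudoCoherent' B K ↔
        DRing.IsPseudoCoherent' A ((DRing.restrictD (algebraMap A B)).obj K)) := by
  have hB' : AllPC (ModuleCat.of A B) := fun m => Groth.Agent.Helper5.TorAmp.pc_of_pc' hB m
  refine ⟨⟨pc_res_of_pc hB' K m, pc_of_pc_res hB' K m⟩, ⟨fun h => ?_, fun h => ?_⟩⟩
  · exact pc'_of_forall_pc _ (fun m' => pc_res_of_pc hB' K m' (Groth.Agent.Helper5.TorAmp.pc_of_pc' h m'))
  · exact pc'_of_forall_pc _ (fun m' => pc_of_pc_res hB' K m' (Groth.Agent.Helper5.TorAmp.pc_of_pc' h m'))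

end Groth.Agent.Helper5.PCRes
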