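import Mathlib
import Groth.Agent.Lib.Helper5.DRing.PCRes
import Groth.Agent.Lib.Helper5.DRing.Cone

set_option autoImplicit false
universe u
open CategoryTheory Limits Pretriangulated DerivedCategory
attribute [local instance] HasDerivedCategory.standard

namespace Groth.Agent.Helper5.FlatBC
open Groth.Agent.S2067 Groth.Agent.Helper5.PCBuild Groth.Agent.Helper5.PCDev Groth.Agent.Helper5.PCRes
variable {R : Type u} [CommRing R] (R' : Type u) [CommRing R'] [Algebra R R']

/-- extension of scalars -/
noncomputable abbrev Ef : ModuleCat.{u} R ⥤ ModuleCat.{u} R' :=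
  ModuleCat.extendScalars (algebraMap R R')

instance : (Ef (R := R) R').Additive := Functor.additive_of_preserves_binary_products _

/-- termwise extension of scalars of a complex -/
noncomputable abbrev Ec : DRing.Cx R ⥤ DRing.Cx R' :=
  (Ef (R := R) R').mapHomologicalComplex (ComplexShape.up ℤ)

/-- `R'` with the restricted module structure -/
noncomputable abbrev S' : ModuleCat.{u} R :=
  (ModuleCat.restrictScalars (algebraMap R R')).obj (ModuleCat.of _ R')

instance : IsScalarTower R R' (S' (R := R) R') :=
  ⟨fun r s x => by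
    rw [ModuleCat.restrictScalars.smul_def]
    show (r • s) * (show R' from x) = algebraMap R _ r * (s * (show R' from x))
    rw [Algebra.smul_def, mul_assoc]⟩

/-- the extended module with its `R`-structure -/
noncomputable abbrev N' (M : ModuleCat.{u} R) : ModuleCat.{u} R :=
  (ModuleCat.restrictScalars (algebraMap R R')).obj ((Ef R').obj M)

instance (M : ModuleCat.{u} R) : IsScalarTower R R' (N' R' M) :=
  IsScalarTower.of_algebraMap_smul (fun _ _ => rfl)

open TensorProduct in
/-- comparison with the usual tensor product -/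
noncomputable def eqv (M : ModuleCat.{u} R) : R' ⊗[R] M ≃ₗ[R'] N' R' M :=
  AlgebraTensorModule.congr (LinearEquiv.refl R' (S' R')) (LinearEquiv.refl R M)

open TensorProduct in
/-- comparison with the usual tensor product, for a type -/
noncomputable def eqvT (M : Type u) [AddCommGroup M] [Module R M] :
    R' ⊗[R] M ≃ₗ[R'] (Ef R').obj (ModuleCat.of R M) :=
  eqv R' (ModuleCat.of R M)

section flat
variable [Module.Flat R R']

theorem flat_hom : (algebraMap R R').Flat := by
  rw [RingHom.flat_algebraMap_iff]
  infer_instance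

instance : PreservesFiniteLimits (Ef (R := R) R') :=
  ModuleCat.preservesFiniteLimits_extendScalars_of_flat (flat_hom R')

instance : (Ef (R := R) R').PreservesHomology := inferInstance

/-- homology commutes with flat base change -/
noncomputable def homIso (K : DRing.Cx R) (j : ℤ) :
    (((Ec R').obj K).homology j) ≅ (Ef R').obj (K.homology j) :=
  (K.sc j).mapHomologyIso (Ef R')

/-- cohomology of the base changed complex -/
noncomputable def hIso (K : DRing.Cx R) (j : ℤ) :
    Hn j (DRing.toD ((Ec R').obj K)) ≅ (Ef R').obj (K.homology j) :=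
  (homologyFunctorFactors (ModuleCat.{u} R') j).app _ ≪≫ homIso R' K j

theorem bc_hom_zero (K : DRing.Cx R) (j : ℤ) (h : IsZero (K.homology j)) :
    IsZero (Hn j (DRing.toD ((Ec R').obj K))) :=
  ((Ef R').map_isZero h).of_iso (hIso R' K j)

open TensorProduct in
theorem Ef_ff (F : ModuleCat.{u} R) [Module.Finite R F] [Module.Free R F] :
    Module.Finite R' ((Ef R').obj F) ∧ Module.Free R' ((Ef R').obj F) := by
  have h1 : Module.Finite R' (R' ⊗[R] F) := inferInstance
  have h2 : Module.Free R' (R' ⊗[R] F) := inferInstance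
  have e := eqv R' F
  have h3 : Module.Finite R' (N' R' F) := Module.Finite.equiv e
  have h4 : Module.Free R' (N' R' F) := Module.Free.of_equiv e
  exact ⟨h3, h4⟩

theorem Ec_finiteFree (E : DRing.Cx R) (h : DRing.TermwiseFiniteFree E) :
    DRing.TermwiseFiniteFree ((Ec R').obj E) := fun i => by
  obtain ⟨h1, h2⟩ := h i
  exact Ef_ff R' (E.X i)

/-- base change of the mapping cone -/
noncomputable def coneIso {S K : DRing.Cx R} (φ : S ⟶ K) :
    (Ec R').obj (CochainComplex.mappingCone φ) ≅ CochainComplex.mappingCone ((Ec R').map φ) :=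
  CochainComplex.mappingCone.mapHomologicalComplexIso φ (Ef R')

/-- the base change of a morphism which is iso/epi on cohomology in degrees `> m` / `= m` -/
theorem bc_iso_epi {E K : DRing.Cx R} (a : E ⟶ K) (m : ℤ)
    (h1 : ∀ i : ℤ, m < i → IsIso (HomologicalComplex.homologyMap a i))
    (h2 : Epi (HomologicalComplex.homologyMap a m)) :
    (∀ i : ℤ, m < i → IsIso (HomologicalComplex.homologyMap ((Ec R').map a) i)) ∧
      Epi (HomologicalComplex.homologyMap ((Ec R').map a) m) := by
  have key : ∀ i, Arrow.mk (HomologicalComplex.homologyMap ((Ec R').map a) i) ≅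
      Arrow.mk ((Ef R').map (HomologicalComplex.homologyMap a i)) := by
    intro i
    refine Arrow.isoMk (homIso R' E i) (homIso R' K i) ?_
    exact (ShortComplex.mapHomologyIso_hom_naturality
      ((HomologicalComplex.shortComplexFunctor _ _ i).map a) (Ef R')).symm
  constructor
  · intro i hi
    have := h1 i hi
    exact ((MorphismProperty.isomorphisms _).arrow_mk_iso_iff (key i)).2
      (inferInstanceAs (IsIso ((Ef R').map (HomologicalComplex.homologyMap a i))))
  · have : Epi ((Ef R').map (HomologicalComplex.homologyMap a m)) := inferInstance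
    exact ((MorphismProperty.epimorphisms _).arrow_mk_iso_iff (key m)).2 this


theorem epi_homologyMap_iff {K L : DRing.Cx R} (f : K ⟶ L) (n : ℤ) :
    Epi ((homologyFunctor (ModuleCat.{u} R) n).map (Q.map f)) ↔
      Epi (HomologicalComplex.homologyMap f n) := by
  constructor
  · intro h
    have h' : Epi ((Q ⋙ homologyFunctor (ModuleCat.{u} R) n).map f) := h
    exact epi_map_of_natIso (homologyFunctorFactors (ModuleCat.{u} R) n).symm f h'
  · exact H_Q_map_epi f n

theorem isIso_homologyMap_iff {K L : DRing.Cx R} (f : K ⟶ L) (n : ℤ) :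
    IsIso ((homologyFunctor (ModuleCat.{u} R) n).map (Q.map f)) ↔
      IsIso (HomologicalComplex.homologyMap f n) :=
  NatIso.isIso_map_iff (homologyFunctorFactors (ModuleCat.{u} R) n) f

/-- flat base change preserves `m`-pseudo-coherence (complex level) -/
theorem pc_baseChange (K : DRing.Cx R) (m : ℤ) (h : DRing.IsPseudoCoherent R m (DRing.toD K)) :
    DRing.IsPseudoCoherent R' m (DRing.toD ((Ec R').obj K)) := by
  obtain ⟨E, a, b, α, hab, hff, hiso, hepi⟩ := h
  have := kproj_of E b (fun i hi => hab i (Or.inr hi)) hff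
  obtain ⟨φ, rfl⟩ := Groth.Agent.Helper5.DRingCone.exists_chain_map E K α
  obtain ⟨h1, h2⟩ := bc_iso_epi R' φ m (fun i hi => (isIso_homologyMap_iff φ i).1 (hiso i hi))
    ((epi_homologyMap_iff φ m).1 hepi)
  refine ⟨(Ec R').obj E, a, b, Q.map ((Ec R').map φ), ?_, Ec_finiteFree R' E hff, ?_, ?_⟩
  · intro i hi
    exact (Ef R').map_isZero (hab i hi)
  · intro i hi
    exact (isIso_homologyMap_iff _ i).2 (h1 i hi)
  · exact (epi_homologyMap_iff _ m).2 h2


/-- the base change of a module in degree `0` -/
noncomputable def singleIso (M : ModuleCat.{u} R) :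
    DRing.toD ((Ec R').obj ((HomologicalComplex.single (ModuleCat.{u} R) (ComplexShape.up ℤ) 0).obj M)) ≅
      (DerivedCategory.singleFunctor (ModuleCat.{u} R') 0).obj ((Ef R').obj M) :=
  Q.mapIso ((HomologicalComplex.singleMapHomologicalComplex (Ef R') (ComplexShape.up ℤ) 0).app M) ≪≫
    ((singleFunctorIsoCompQ (ModuleCat.{u} R') 0).app _).symm

theorem pcModule_baseChange (M : ModuleCat.{u} R) (m : ℤ)
    (h : DRing.IsPseudoCoherent R m ((DerivedCategory.singleFunctor (ModuleCat.{u} R) 0).obj M)) :
    DRing.IsPseudoCoherent R' m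
      ((DerivedCategory.singleFunctor (ModuleCat.{u} R') 0).obj ((Ef R').obj M)) := by
  have h1 : DRing.IsPseudoCoherent R m (DRing.toD
      ((HomologicalComplex.single (ModuleCat.{u} R) (ComplexShape.up ℤ) 0).obj M)) :=
    Groth.Agent.S2087.pc_of_iso ((singleFunctorIsoCompQ (ModuleCat.{u} R) 0).app M) h
  exact Groth.Agent.S2087.pc_of_iso (singleIso R' M) (pc_baseChange R' _ m h1)

open TensorProduct in
/-- S7000 -/
theorem s7000 (m : ℤ) (M : Type u) [AddCommGroup M] [Module R M] :
    (DRing.IsPseudoCoherentModule R m M → DRing.IsPseudoCoherentModule R' m (R' ⊗[R] M)) ∧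
      (DRing.IsPseudoCoherentModule' R M → DRing.IsPseudoCoherentModule' R' (R' ⊗[R] M)) := by
  have key : ∀ m' : ℤ, DRing.IsPseudoCoherentModule R m' M →
      DRing.IsPseudoCoherentModule R' m' (R' ⊗[R] M) := by
    intro m' h
    have h1 := pcModule_baseChange R' (ModuleCat.of R M) m' h
    exact Groth.Agent.S2087.pc_of_iso ((DerivedCategory.singleFunctor (ModuleCat.{u} R') 0).mapIso
      (eqvT R' M).toModuleIso.symm) h1
  refine ⟨key m, fun h => pc'_of_forall_pc _ (fun m' => ?_)⟩
  exact key m' (Groth.Agent.Helper5.TorAmp.pc_of_pc' h m')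

end flat

section ff
variable [Module.FaithfullyFlat R R']
open TensorProduct

theorem hom_zero_of_bc (K : DRing.Cx R) (j : ℤ) (h : IsZero (Hn j (DRing.toD ((Ec R').obj K)))) :
    IsZero (K.homology j) := by
  have h1 : IsZero ((Ef R').obj (K.homology j)) := h.of_iso (hIso R' K j).symm
  have h2' : Subsingleton ((Ef R').obj (K.homology j)) := ModuleCat.subsingleton_of_isZero h1
  have h2 : Subsingleton (N' R' (K.homology j)) := h2'
  have h3 : Subsingleton (R' ⊗[R] (K.homology j)) := (eqv R' (K.homology j)).toEquiv.subsingleton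
  have := Module.FaithfullyFlat.lTensor_reflects_triviality R R' (K.homology j)
  exact ModuleCat.isZero_of_subsingleton _

theorem hom_fin_of_bc (K : DRing.Cx R) (j : ℤ)
    (h : Module.Finite R' (Hn j (DRing.toD ((Ec R').obj K)))) : Module.Finite R (K.homology j) := by
  have h1 : Module.Finite R' ((Ef R').obj (K.homology j)) :=
    Module.Finite.equiv (hIso R' K j).toLinearEquiv
  have h2 : Module.Finite R' (N' R' (K.homology j)) := h1
  have h3 : Module.Finite R' (R' ⊗[R] (K.homology j)) :=
    Module.Finite.equiv (eqv R' (K.homology j)).symm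
  exact Module.Finite.of_finite_tensorProduct_of_faithfullyFlat R'

theorem Ec_cone_pc {S K : DRing.Cx R} (φ : S ⟶ K) (m : ℤ)
    (hS : DRing.IsPseudoCoherent R' (m+1) (DRing.toD ((Ec R').obj S)))
    (hK : DRing.IsPseudoCoherent R' m (DRing.toD ((Ec R').obj K))) :
    DRing.IsPseudoCoherent R' m (DRing.toD ((Ec R').obj (CochainComplex.mappingCone φ))) := by
  have hT := mappingCone_triangle_distinguished ((Ec R').map φ)
  have h3 := Groth.Agent.S2067.part1 _ hT m hS hK
  exact Groth.Agent.S2087.pc_of_iso (Q.mapIso (coneIso R' φ).symm) h3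

theorem step (m : ℤ) : ∀ (n : ℕ) (K : DRing.Cx R),
    (∀ j, m - 1 + n < j → IsZero (K.homology j)) →
    DRing.IsPseudoCoherent R' m (DRing.toD ((Ec R').obj K)) →
    DRing.IsPseudoCoherent R m (DRing.toD K) := by
  intro n
  induction n with
  | zero =>
    intro K hv _
    exact Groth.Agent.S2087.pc_of_vanish K m (fun j hj => hv j (by simp; omega))
  | succ n ih =>
    intro K hv hloc
    obtain ⟨b, hb⟩ : ∃ b : ℤ, b = m + n := ⟨_, rfl⟩
    have hvb : ∀ j, b < j → IsZero (K.homology j) := fun j hj => hv j (by push_cast; omega)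
    have hfin : Module.Finite R (K.homology b) := by
      refine hom_fin_of_bc R' K b ?_
      have h1 := Groth.Agent.S2087.pc_mono _ (show m ≤ b by omega) hloc
      exact (Groth.Agent.S2068.result _ b h1).1 (fun j hj => bc_hom_zero R' K j (hvb j hj))
    obtain ⟨k, φ, hφ⟩ := Groth.Agent.S2087.exists_phi K b
    have hT := mappingCone_triangle_distinguished φ
    have hL : ∀ j, b ≤ j → IsZero ((CochainComplex.mappingCone φ).homology j) := by
      intro j hj
      have := Groth.Agent.S2087.cone_vanish _ hT b
        (fun j hj => Groth.Agent.S2087.single_hom_zero _ b j (by omega))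
        (fun j hj => (hvb j hj).of_iso ((homologyFunctorFactors (ModuleCat.{u} R) j).app K))
        (Groth.Agent.S2067.H_Q_map_epi φ b hφ) j hj
      exact this.of_iso ((homologyFunctorFactors (ModuleCat.{u} R) j).app _).symm
    have h3 : DRing.IsPseudoCoherent R m (DRing.toD (CochainComplex.mappingCone φ)) := by
      refine ih _ (fun j hj => hL j (by omega)) ?_
      exact Ec_cone_pc R' φ m (pc_baseChange R' _ (m + 1) (Groth.Agent.S2087.pc_single _ b (m + 1))) hloc
    exact (Groth.Agent.S2067.main _ hT m).2.1 (Groth.Agent.S2087.pc_single _ b m) h3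

theorem pc_descent (K : DRing.Cx R) (m : ℤ)
    (h : DRing.IsPseudoCoherent R' m (DRing.toD ((Ec R').obj K))) :
    DRing.IsPseudoCoherent R m (DRing.toD K) := by
  obtain ⟨B, hB⟩ := Groth.Agent.S2087.pc_bound _ m h
  refine step R' m (B - m + 1).toNat K (fun j hj => hom_zero_of_bc R' K j (hB j ?_)) h
  have := Int.self_le_toNat (B - m + 1)
  omega

/-- S6941 -/
theorem s6941 (K : DRing.Cx R) (m : ℤ) :
    (DRing.IsPseudoCoherent R' m (DRing.toD ((Ec R').obj K)) →
        DRing.IsPseudoCoherent R m (DRing.toD K)) ∧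
      (DRing.IsPseudoCoherent' R' (DRing.toD ((Ec R').obj K)) →
        DRing.IsPseudoCoherent' R (DRing.toD K)) :=
  ⟨pc_descent R' K m, fun h => pc'_of_forall_pc _ (fun m' =>
    pc_descent R' K m' (Groth.Agent.Helper5.TorAmp.pc_of_pc' h m'))⟩

end ff

end Groth.Agent.Helper5.FlatBC
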