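import Groth.Agent.Lib.Helper5.DRing.AmpMain
import Groth.Agent.Lib.Helper5.DRing.Classes
import Mathlib

set_option autoImplicit false
universe u
open CategoryTheory Limits Pretriangulated DerivedCategory
attribute [local instance] HasDerivedCategory.standard
open CAlg

namespace Groth.Agent.Helper5.Summand

variable {R : Type u} [CommRing R]

/-- finite projective modules -/
def FP (R : Type u) [CommRing R] : ObjectProperty (ModuleCat.{u} R) :=
  fun M => Module.Finite R M ∧ Module.Projective R M

instance : (FP R).IsClosedUnderIsomorphisms where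
  of_iso e h := by
    have := h.1
    have := h.2
    exact ⟨Module.Finite.equiv e.toLinearEquiv, Module.Projective.of_equiv e.toLinearEquiv⟩

instance : (FP R).ContainsZero where
  exists_zero := ⟨ModuleCat.of R PUnit, ModuleCat.isZero_of_subsingleton _,
    ⟨inferInstance, inferInstance⟩⟩

theorem fp_retract {K M : ModuleCat.{u} R} (j : K ⟶ M) (q : M ⟶ K) (hjq : j ≫ q = 𝟙 K)
    (hM : FP R M) : FP R K := by
  obtain ⟨h1, h2⟩ := hM
  have hs : ∀ x, q.hom (j.hom x) = x := fun x => by
    have := congrArg (fun t => t.hom x) hjq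
    simpa using this
  refine ⟨Module.Finite.of_surjective q.hom (fun x => ⟨j.hom x, hs x⟩),
    Module.Projective.of_split j.hom q.hom (LinearMap.ext hs)⟩

theorem hyp_fp : Hyp (FP R) where
  proj X hX := by
    have := hX.2
    exact (IsProjective.iff_projective X).1 this
  sum X Y hX hY := by
    have := hX.1; have := hX.2; have := hY.1; have := hY.2
    refine (FP R).prop_of_iso (ModuleCat.biprodIsoProd X Y).symm ⟨?_, ?_⟩
    · exact (inferInstance : Module.Finite R (X × Y))
    · exact (inferInstance : Module.Projective R (X × Y))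
  ker E F u hu hE hF := by
    have hFp : Projective F := (IsProjective.iff_projective F).1 hF.2
    -- `u` splits
    obtain ⟨s, hs⟩ : ∃ s : F ⟶ E, s ≫ u = 𝟙 F := ⟨Projective.factorThru (𝟙 F) u, by simp⟩
    -- kernel is a retract of `E`
    let q : E ⟶ kernel u := kernel.lift u (𝟙 E - u ≫ s) (by
      rw [Preadditive.sub_comp, Category.id_comp, Category.assoc, hs, Category.comp_id, sub_self])
    refine fp_retract (kernel.ι u) q ?_ hE
    apply (cancel_mono (kernel.ι u)).1
    rw [Category.assoc, kernel.lift_ι, Preadditive.comp_sub, Category.comp_id,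
      kernel.condition_assoc, zero_comp, sub_zero, Category.id_comp]
  fac X Y h := fp_retract biprod.inl biprod.fst biprod.inl_fst h

theorem amp_iff (K : Dual.D R) :
    DRing.IsPerfect R K ↔ ∃ a b : ℤ, a ≤ b ∧ Amp (FP R) a b K := by
  constructor
  · rintro ⟨E, a, b, h1, h2, h3⟩
    refine ⟨min a b, max a b, le_trans (min_le_left a b) (le_max_left a b), E, h2, ?_, h3⟩
    intro i hi
    refine h1 i ?_
    rcases hi with hi | hi
    · exact Or.inl (lt_of_lt_of_le hi (min_le_left a b))
    · exact Or.inr (lt_of_le_of_lt (le_max_right a b) hi)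
  · rintro ⟨a, b, -, E, h1, h2, h3⟩
    exact ⟨E, a, b, h2, h1, h3⟩

/-- Direct summands of perfect objects are perfect. -/
theorem perfect_summand (K L : Dual.D R) [HasBinaryBiproduct K L]
    (h : DRing.IsPerfect R (K ⊞ L)) : DRing.IsPerfect R K ∧ DRing.IsPerfect R L := by
  rw [amp_iff] at h
  obtain ⟨a, b, hab, h⟩ := h
  obtain ⟨h1, h2⟩ := Amp.summand hyp_fp hab h
  exact ⟨(amp_iff K).2 ⟨a, b, hab, h1⟩, (amp_iff L).2 ⟨a, b, hab, h2⟩⟩

end Groth.Agent.Helper5.Summand
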