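import Mathlib
import Groth.Agent.Lib.Helper5.DRing.PCRes
import Groth.Prelude.Def_DerCA

set_option autoImplicit false
universe u
open CategoryTheory Limits CochainComplex HomComplex Pretriangulated DerivedCategory ZeroObject
attribute [local instance] HasDerivedCategory.standard

namespace Groth.Agent.Helper5.PCHom
open Groth.Agent.S2067 Groth.Agent.Helper5.PCBuild Groth.Agent.Helper5.PCDev Groth.Agent.Helper5.PCRes

section comp
variable {R₁ R₂ R₃ : Type u} [CommRing R₁] [CommRing R₂] [CommRing R₃]
  (f : R₁ →+* R₂) (g : R₂ →+* R₃) (gf : R₁ →+* R₃) (hgf : gf = g.comp f)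

/-- restriction along a composite, on complexes -/
noncomputable def resCxComp (E : DRing.Cx R₃) :
    ((ModuleCat.restrictScalars.{u} gf).mapHomologicalComplex (ComplexShape.up ℤ)).obj E ≅
      ((ModuleCat.restrictScalars.{u} f).mapHomologicalComplex (ComplexShape.up ℤ)).obj
        (((ModuleCat.restrictScalars.{u} g).mapHomologicalComplex (ComplexShape.up ℤ)).obj E) :=
  (NatIso.mapHomologicalComplex (ModuleCat.restrictScalarsComp'.{u} f g gf hgf)
    (ComplexShape.up ℤ)).app E

/-- restriction along a composite, on derived categories (objectwise) -/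
noncomputable def restrictDComp (K : Dual.D R₃) :
    (DRing.restrictD gf).obj K ≅ (DRing.restrictD f).obj ((DRing.restrictD g).obj K) :=
  let E := Q.objPreimage K
  let e : Q.obj E ≅ K := Q.objObjPreimageIso K
  (DRing.restrictD gf).mapIso e.symm ≪≫
    (ModuleCat.restrictScalars.{u} gf).mapDerivedCategoryFactors.app E ≪≫
    Q.mapIso (resCxComp f g gf hgf E) ≪≫
    ((ModuleCat.restrictScalars.{u} f).mapDerivedCategoryFactors.app _).symm ≪≫
    (DRing.restrictD f).mapIso ((ModuleCat.restrictScalars.{u} g).mapDerivedCategoryFactors.app E).symm ≪≫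
    (DRing.restrictD f).mapIso ((DRing.restrictD g).mapIso e)

end comp


section pchom
variable {B C : Type u} [CommRing B] [CommRing C]

/-- `C` is `m`-pseudo-coherent for all `m` as a `B`-module via `f` -/
def PCHom (f : B →+* C) : Prop :=
  AllPC ((ModuleCat.restrictScalars.{u} f).obj (ModuleCat.of C C))

/-- the algebra module structure agrees with the restricted one -/
noncomputable def algEquiv [Algebra B C] :
    ↑((ModuleCat.restrictScalars.{u} (algebraMap B C)).obj (ModuleCat.of C C)) ≃ₗ[B] C where
  toFun x := x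
  invFun x := x
  left_inv _ := rfl
  right_inv _ := rfl
  map_add' _ _ := rfl
  map_smul' b x := by
    show algebraMap B C b • (show C from x) = b • (show C from x)
    rw [Algebra.smul_def b, smul_eq_mul]

theorem pchom_iff_alg [Algebra B C] : PCHom (algebraMap B C) ↔ AllPC (ModuleCat.of B C) := by
  let e : (ModuleCat.restrictScalars.{u} (algebraMap B C)).obj (ModuleCat.of C C) ≅ ModuleCat.of B C :=
    (algEquiv (B := B) (C := C)).toModuleIso
  exact ⟨allPC_of_iso e, allPC_of_iso e.symm⟩

/-- L1 -/
theorem pc_restrict_iff (f : B →+* C) (hf : PCHom f) (K : Dual.D C) (m : ℤ) :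
    DRing.IsPseudoCoherent C m K ↔ DRing.IsPseudoCoherent B m ((DRing.restrictD f).obj K) := by
  let _ := f.toAlgebra
  have h : AllPC (ModuleCat.of B C) := pchom_iff_alg.1 hf
  exact ⟨pc_res_of_pc h K m, pc_of_pc_res h K m⟩

/-- L3 -/
noncomputable def restrictDSingle (f : B →+* C) (M : ModuleCat.{u} C) :
    (DRing.restrictD f).obj ((DerivedCategory.singleFunctor (ModuleCat.{u} C) 0).obj M) ≅
      (DerivedCategory.singleFunctor (ModuleCat.{u} B) 0).obj ((ModuleCat.restrictScalars.{u} f).obj M) :=
  ((ModuleCat.restrictScalars.{u} f).mapDerivedCategorySingleFunctor 0).app M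

theorem allPC_restrict_iff (f : B →+* C) (hf : PCHom f) (M : ModuleCat.{u} C) :
    AllPC M ↔ AllPC ((ModuleCat.restrictScalars.{u} f).obj M) := by
  constructor
  · intro h m
    exact Groth.Agent.S2087.pc_of_iso (restrictDSingle f M) ((pc_restrict_iff f hf _ m).1 (h m))
  · intro h m
    exact (pc_restrict_iff f hf _ m).2 (Groth.Agent.S2087.pc_of_iso (restrictDSingle f M).symm (h m))

variable {D : Type u} [CommRing D]

/-- L4 -/
theorem pchom_comp (f : B →+* C) (g : C →+* D) (gf : B →+* D) (hgf : gf = g.comp f)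
    (hf : PCHom f) (hg : PCHom g) : PCHom gf :=
  allPC_of_iso (ModuleCat.restrictScalarsComp'App f g gf hgf (ModuleCat.of D D)).symm
    ((allPC_restrict_iff f hf _).1 hg)

/-- L5 -/
theorem pchom_cancel (f : B →+* C) (g : C →+* D) (gf : B →+* D) (hgf : gf = g.comp f)
    (hf : PCHom f) (hgf' : PCHom gf) : PCHom g :=
  (allPC_restrict_iff f hf _).2
    (allPC_of_iso (ModuleCat.restrictScalarsComp'App f g gf hgf (ModuleCat.of D D)) hgf')

theorem allPC_self : AllPC (ModuleCat.of B B) := by
  intro m
  exact Groth.Agent.S2087.pc_of_iso ((singleFunctorIsoCompQ (ModuleCat.{u} B) 0).app _).symm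
    (Groth.Agent.S2087.pc_single (ModuleCat.of B B) 0 m)

/-- L6 -/
noncomputable def ringEquivLin (e : B ≃+* C) :
    B ≃ₗ[B] ↑((ModuleCat.restrictScalars.{u} e.toRingHom).obj (ModuleCat.of C C)) where
  toFun x := e x
  invFun x := e.symm x
  left_inv x := e.symm_apply_apply x
  right_inv x := e.apply_symm_apply x
  map_add' x y := e.map_add x y
  map_smul' b x := by
    show e (b * x) = e b * e x
    exact e.map_mul b x

theorem pchom_equiv (e : B ≃+* C) : PCHom e.toRingHom :=
  allPC_of_iso (ringEquivLin e).toModuleIso allPC_self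

end pchom


section koszul
variable {P : Type u} [CommRing P]
open Polynomial

theorem allPC_of_shortExact₃ {A : Type u} [CommRing A] (S : ShortComplex (ModuleCat.{u} A))
    (hS : S.ShortExact) (h1 : AllPC S.X₁) (h2 : AllPC S.X₂) : AllPC S.X₃ :=
  fun m => (Groth.Agent.S2067.main _ hS.singleTriangle_distinguished m).1 (h1 (m + 1)) (h2 m)

/-- evaluation at `a` as a `P[X]`-linear map to `P` (restricted along evaluation) -/
noncomputable def evalLin (a : P) :
    P[X] →ₗ[P[X]] ↑((ModuleCat.restrictScalars.{u} (evalRingHom a)).obj (ModuleCat.of P P)) where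
  toFun p := (p.eval a : P)
  map_add' p q := by
    show ((p + q).eval a : P) = (p.eval a : P) + (q.eval a : P)
    exact eval_add
  map_smul' q p := by
    show ((q * p).eval a : P) = (q.eval a : P) * (p.eval a : P)
    exact eval_mul

/-- L7 -/
theorem pchom_eval (a : P) : PCHom (evalRingHom a) := by
  let S : ShortComplex (ModuleCat.{u} P[X]) :=
    ShortComplex.mk (X₁ := ModuleCat.of P[X] P[X]) (X₂ := ModuleCat.of P[X] P[X])
      (X₃ := (ModuleCat.restrictScalars.{u} (evalRingHom a)).obj (ModuleCat.of P P))
      (ModuleCat.ofHom (LinearMap.mulLeft P[X] (X - C a))) (ModuleCat.ofHom (X := ModuleCat.of P[X] P[X])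
        (Y := (ModuleCat.restrictScalars.{u} (evalRingHom a)).obj (ModuleCat.of P P)) (evalLin a))
      (by
        ext
        show ((X - C a) * 1).eval a = 0
        simp)
  have hS : S.ShortExact := by
    refine ShortComplex.ShortExact.mk' ?_ ?_ ?_
    · rw [ShortComplex.moduleCat_exact_iff_range_eq_ker]
      ext p
      show p ∈ LinearMap.range (LinearMap.mulLeft P[X] (X - C a)) ↔ p ∈ LinearMap.ker (evalLin a)
      rw [LinearMap.mem_ker]
      show p ∈ LinearMap.range (LinearMap.mulLeft P[X] (X - C a)) ↔ (p.eval a : P) = 0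
      constructor
      · rintro ⟨q, rfl⟩
        simp
      · intro hp
        have : p ∈ RingHom.ker (evalRingHom a) := hp
        rw [ker_evalRingHom, Ideal.mem_span_singleton'] at this
        obtain ⟨q, rfl⟩ := this
        exact ⟨q, by simp [mul_comm]⟩
    · rw [ModuleCat.mono_iff_injective]
      exact (monic_X_sub_C a).isRegular.left
    · rw [ModuleCat.epi_iff_surjective]
      intro y
      exact ⟨C (show P from y), (eval_C : (C (show P from y)).eval a = (show P from y))⟩
  exact allPC_of_shortExact₃ S hS allPC_self allPC_self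

end koszul


section retract

theorem eval_zero_eq {P : Type u} [CommRing P] (f : Fin 0 → P) :
    MvPolynomial.eval f = (MvPolynomial.isEmptyRingEquiv P (Fin 0)).toRingHom := by
  apply MvPolynomial.ringHom_ext
  · intro r
    simp
    exact (MvPolynomial.coeff_zero_C r).symm
  · intro i; exact i.elim0

theorem eval_succ_eq {P : Type u} [CommRing P] (k : ℕ) (f : Fin (k+1) → P) : MvPolynomial.eval f =
    (MvPolynomial.eval (fun i => f i.succ)).comp
      ((Polynomial.evalRingHom (MvPolynomial.C (f 0))).comp
        (MvPolynomial.finSuccEquiv P k).toRingEquiv.toRingHom) := by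
  apply MvPolynomial.ringHom_ext
  · intro r
    simp [MvPolynomial.finSuccEquiv_apply]
  · intro i
    refine Fin.cases ?_ (fun j => ?_) i
    · simp [MvPolynomial.finSuccEquiv_X_zero]
    · simp [MvPolynomial.finSuccEquiv_X_succ]

/-- L8 -/
theorem pchom_mvEval : ∀ (k : ℕ) (P : Type u) [CommRing P] (f : Fin k → P),
    PCHom (MvPolynomial.eval f) := by
  intro k
  induction k with
  | zero =>
    intro P _ f
    rw [eval_zero_eq]
    exact pchom_equiv _
  | succ k ih =>
    intro P _ f
    have h1 : PCHom (MvPolynomial.finSuccEquiv P k).toRingEquiv.toRingHom := pchom_equiv _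
    have h2 : PCHom (Polynomial.evalRingHom (MvPolynomial.C (σ := Fin k) (f 0))) := pchom_eval _
    have h3 : PCHom (MvPolynomial.eval (fun i : Fin k => f i.succ)) := ih P _
    have h12 := pchom_comp _ _ _ rfl h1 h2
    exact pchom_comp _ _ _ (eval_succ_eq k f) h12 h3

end retract

section main
variable {R A : Type u} [CommRing R] [CommRing A] [Algebra R A]
open MvPolynomial

/-- independence of the presentation, one direction -/
theorem relpc_of_relpc {n k : ℕ} (α : MvPolynomial (Fin n) R →ₐ[R] A) (hα : Function.Surjective α)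
    (β : MvPolynomial (Fin k) R →ₐ[R] A) (hβ : Function.Surjective β) (K : Dual.D A) (m : ℤ)
    (h : DerCA.IsRelPseudoCoherentVia α m K) : DerCA.IsRelPseudoCoherentVia β m K := by
  choose f hf using fun j : Fin k => hα (β (X j))
  choose g hg using fun i : Fin n => hβ (α (X i))
  let π₁ : MvPolynomial (Fin k) (MvPolynomial (Fin n) R) →+* MvPolynomial (Fin n) R :=
    MvPolynomial.eval f
  let e : MvPolynomial (Fin k) (MvPolynomial (Fin n) R) ≃+*
      MvPolynomial (Fin n) (MvPolynomial (Fin k) R) :=
    (MvPolynomial.commAlgEquiv R (Fin k) (Fin n)).toRingEquiv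
  let π₂ : MvPolynomial (Fin k) (MvPolynomial (Fin n) R) →+* MvPolynomial (Fin k) R :=
    (MvPolynomial.eval g).comp e.toRingHom
  have h1 : PCHom π₁ := pchom_mvEval k _ f
  have h2 : PCHom π₂ := pchom_comp _ _ _ rfl (pchom_equiv e) (pchom_mvEval n _ g)
  have key : (α : MvPolynomial (Fin n) R →+* A).comp π₁ = (β : MvPolynomial (Fin k) R →+* A).comp π₂ := by
    apply MvPolynomial.ringHom_ext
    · intro p
      have : ∀ p : MvPolynomial (Fin n) R, α p = β (MvPolynomial.eval g (MvPolynomial.map C p)) := by
        intro p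
        induction p using MvPolynomial.induction_on with
        | C r => simp
        | add p q hp hq => simp [hp, hq]
        | mul_X p i hp => simp [hp, hg]
      simpa [π₁, π₂, e] using this p
    · intro j
      simp [π₁, π₂, e, hf]
  unfold DerCA.IsRelPseudoCoherentVia at h ⊢
  rw [pc_restrict_iff π₁ h1] at h
  rw [pc_restrict_iff π₂ h2]
  have i1 := restrictDComp π₁ (α : MvPolynomial (Fin n) R →+* A) _ rfl K
  have i2 := restrictDComp π₂ (β : MvPolynomial (Fin k) R →+* A) _ rfl K
  rw [key] at i1
  exact Groth.Agent.S2087.pc_of_iso (i1.symm ≪≫ i2) h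

/-- S6983 -/
theorem s6983 {n k : ℕ} (α : MvPolynomial (Fin n) R →ₐ[R] A) (hα : Function.Surjective α)
    (β : MvPolynomial (Fin k) R →ₐ[R] A) (hβ : Function.Surjective β) (K : Dual.D A) (m : ℤ) :
    DerCA.IsRelPseudoCoherentVia α m K ↔ DerCA.IsRelPseudoCoherentVia β m K :=
  ⟨relpc_of_relpc α hα β hβ K m, relpc_of_relpc β hβ α hα K m⟩

end main

end Groth.Agent.Helper5.PCHom
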