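import Mathlib
import Groth.Agent.Lib.Helper5.DRing.Thick
import Groth.Agent.Lib.Helper5.DRing.AmpPerf
import Groth.Agent.Lib.Helper5.DRing.PCHom

set_option autoImplicit false
universe u
open CategoryTheory Limits Pretriangulated DerivedCategory
attribute [local instance] HasDerivedCategory.standard

namespace Groth.Agent.Helper5.PerfRes
open Groth.Agent.Helper5.DRingCone
variable {A B : Type u} [CommRing A] [CommRing B] [Algebra A B]

theorem perfect_shift (K : Dual.D A) (n : ℤ) (h : DRing.IsPerfect A K) :
    DRing.IsPerfect A (K⟦n⟧) := by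
  rw [← rep_perf_iff] at h ⊢
  exact Rep.shift PerfClass.shift h n

theorem perfect_of_iso {K L : Dual.D A} (e : K ≅ L) (h : DRing.IsPerfect A K) :
    DRing.IsPerfect A L := by
  obtain ⟨E, a, b, h1, h2, ⟨e'⟩⟩ := h
  exact ⟨E, a, b, h1, h2, ⟨e' ≪≫ e⟩⟩

/-- the property of `K ∈ D(B)`: the restriction to `A` is perfect -/
def resPerf : ObjectProperty (Dual.D B) :=
  fun K => DRing.IsPerfect A ((DRing.restrictD (algebraMap A B)).obj K)

instance : (resPerf (A := A) (B := B)).IsClosedUnderIsomorphisms where
  of_iso e h := perfect_of_iso ((DRing.restrictD (algebraMap A B)).mapIso e) h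

attribute [local instance] preservesBinaryBiproducts_of_preservesBiproducts

/-- S6956 -/
theorem s6956 (hB : DRing.IsPerfectModule A B) (K : Dual.D B) (hK : DRing.IsPerfect B K) :
    DRing.IsPerfect A ((DRing.restrictD (algebraMap A B)).obj K) := by
  let F := DRing.restrictD (algebraMap A B)
  refine prop_perfect (resPerf (A := A) (B := B)) ?_ ?_ ?_ ?_ K hK
  · -- B itself
    refine perfect_of_iso ?_ hB
    exact (DerivedCategory.singleFunctor _ 0).mapIso
        (Groth.Agent.Helper5.PCHom.algEquiv (B := A) (C := B)).toModuleIso.symm ≪≫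
      (Groth.Agent.Helper5.PCHom.restrictDSingle (algebraMap A B) (ModuleCat.of B B)).symm
  · intro K n hK
    exact perfect_of_iso ((F.commShiftIso n).app K).symm (perfect_shift _ n hK)
  · intro T hT h1 h3
    exact (perfect_two_of_three _ (F.map_distinguished _ hT)).2.1 h1 h3
  · intro X Y _ h
    have h' : DRing.IsPerfect A (F.obj X ⊞ F.obj Y) := perfect_of_iso (F.mapBiprod X Y) h
    exact (Groth.Agent.Helper5.Summand.perfect_summand _ _ h').1

end Groth.Agent.Helper5.PerfRes
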