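import Mathlib
import Groth.Agent.Lib.Helper5.DRing.PerfRes
import Groth.Agent.Lib.Helper5.TorAmp.Perf
import Groth.Prelude.Def_DualSh

set_option autoImplicit false
universe u
open CategoryTheory Limits Pretriangulated DerivedCategory
attribute [local instance] HasDerivedCategory.standard

namespace Groth.Agent.Helper5.PerfRes
variable {R A : Type u} [CommRing R] [CommRing A] [Algebra R A]

instance (N : ModuleCat.{u} A) :
    IsScalarTower R A ((ModuleCat.restrictScalars.{u} (algebraMap R A)).obj N) :=
  IsScalarTower.of_algebraMap_smul (fun _ _ => rfl)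

theorem flat_restrict [Module.Flat R A] (N : ModuleCat.{u} A) [Module.Flat A N] :
    Module.Flat R ((ModuleCat.restrictScalars.{u} (algebraMap R A)).obj N) := by
  have : Module.Flat A ((ModuleCat.restrictScalars.{u} (algebraMap R A)).obj N) :=
    inferInstanceAs (Module.Flat A N)
  exact Module.Flat.trans R A _

/-- S7073 -/
theorem s7073 [Module.Flat R A] (K : Dual.D A) (hK : DRing.IsPerfect A K) :
    Dual2.IsRelPerfect R A K := by
  refine ⟨Groth.Agent.Helper5.PerRes.pc'_of_perfect K hK, ?_⟩
  obtain ⟨E, a, b, h1, h2, ⟨e⟩⟩ := hK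
  let F := ModuleCat.restrictScalars.{u} (algebraMap R A)
  refine ⟨a, b, (F.mapHomologicalComplex (ComplexShape.up ℤ)).obj E, ?_, ?_, ⟨?_⟩⟩
  · intro i hi
    exact F.map_isZero (h1 i hi)
  · intro i
    obtain ⟨hf, hp⟩ := h2 i
    have : Module.Flat A (E.X i) := inferInstance
    exact flat_restrict (E.X i)
  · exact (F.mapDerivedCategoryFactors.app E).symm ≪≫ (DRing.restrictD (algebraMap R A)).mapIso e

end Groth.Agent.Helper5.PerfRes
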