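import Mathlib

set_option autoImplicit false
universe u

namespace Groth.Agent.Helper5.Coh

variable {R : Type u} [CommRing R]

/-- the coherence hypothesis -/
def IsCoh (R : Type u) [CommRing R] : Prop := ∀ I : Ideal R, I.FG → Module.FinitePresentation R I

/-- tail map -/
def tailLin (n : ℕ) : (Fin (n + 1) → R) →ₗ[R] (Fin n → R) :=
  LinearMap.funLeft R R Fin.succ

/-- extension: if the range and the kernel of `f` are finitely presented, so is the source -/
theorem fp_of_range_ker {M P : Type u} [AddCommGroup M] [Module R M] [AddCommGroup P] [Module R P]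
    (f : M →ₗ[R] P) (h1 : Module.FinitePresentation R (LinearMap.range f))
    (h2 : Module.FinitePresentation R (LinearMap.ker f)) : Module.FinitePresentation R M := by
  have h3 : Module.FinitePresentation R (LinearMap.ker f.rangeRestrict) := by
    rw [LinearMap.ker_rangeRestrict]; exact h2
  exact Module.finitePresentation_of_ker f.rangeRestrict f.surjective_rangeRestrict

theorem fg_ker_of_fp_range {M P : Type u} [AddCommGroup M] [Module R M] [AddCommGroup P] [Module R P]
    [Module.Finite R M]
    (f : M →ₗ[R] P) (h1 : Module.FinitePresentation R (LinearMap.range f)) :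
    (LinearMap.ker f).FG := by
  have := Module.FinitePresentation.fg_ker f.rangeRestrict f.surjective_rangeRestrict
  rwa [LinearMap.ker_rangeRestrict] at this

theorem fg_range {M P : Type u} [AddCommGroup M] [Module R M] [AddCommGroup P] [Module R P]
    [Module.Finite R M] (f : M →ₗ[R] P) : (LinearMap.range f).FG := by
  rw [LinearMap.range_eq_map]
  exact Submodule.FG.map _ Module.Finite.fg_top

theorem fp_of_injective {M P : Type u} [AddCommGroup M] [Module R M] [AddCommGroup P] [Module R P]
    (f : M →ₗ[R] P) (hf : Function.Injective f) (h : Module.FinitePresentation R (LinearMap.range f)) :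
    Module.FinitePresentation R M :=
  Module.FinitePresentation.of_equiv (LinearEquiv.ofInjective f hf).symm

theorem tail_injective {M : Type u} [AddCommGroup M] [Module R M] (n : ℕ)
    (ι : M →ₗ[R] (Fin (n + 1) → R)) (hι : Function.Injective ι) :
    Function.Injective ((tailLin n ∘ₗ ι) ∘ₗ
      (LinearMap.ker ((LinearMap.proj (R := R) (φ := fun _ : Fin (n + 1) => R) 0) ∘ₗ ι)).subtype) := by
  have key := injective_iff_map_eq_zero ((tailLin n ∘ₗ ι) ∘ₗ
      (LinearMap.ker ((LinearMap.proj (R := R) (φ := fun _ : Fin (n + 1) => R) 0) ∘ₗ ι)).subtype)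
  refine key.2 ?_
  rintro ⟨x, hx⟩ hx0
  have hx' : ι x 0 = 0 := by
    have := LinearMap.mem_ker.1 hx
    simpa using this
  have hx0' : ∀ i : Fin n, ι x i.succ = 0 := fun i => by
    have := congrFun hx0 i
    simpa [tailLin, LinearMap.funLeft] using this
  apply Subtype.ext
  apply hι
  show ι x = ι 0
  rw [map_zero]
  funext i
  exact Fin.cases hx' hx0' i

theorem fp_of_injective_pi (hR : IsCoh R) :
    ∀ (n : ℕ) (M : Type u) [AddCommGroup M] [Module R M] [Module.Finite R M]
      (ι : M →ₗ[R] (Fin n → R)), Function.Injective ι → Module.FinitePresentation R M := by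
  intro n
  induction n with
  | zero =>
    intro M _ _ _ ι hι
    have : Subsingleton M := hι.subsingleton
    infer_instance
  | succ n ih =>
    intro M _ _ _ ι hι
    let f : M →ₗ[R] R := (LinearMap.proj (R := R) (φ := fun _ : Fin (n + 1) => R) 0) ∘ₗ ι
    have hIfp : Module.FinitePresentation R (LinearMap.range f) := hR _ (fg_range f)
    have hker : (LinearMap.ker f).FG := fg_ker_of_fp_range f hIfp
    have hkf : Module.Finite R (LinearMap.ker f) := Module.Finite.iff_fg.2 hker
    have hkfp : Module.FinitePresentation R (LinearMap.ker f) :=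
      ih (LinearMap.ker f) _ (tail_injective n ι hι)
    exact fp_of_range_ker f hIfp hkfp

theorem fp_of_fg_pi (hR : IsCoh R) (n : ℕ) (N : Submodule R (Fin n → R)) (hN : N.FG) :
    Module.FinitePresentation R N := by
  have : Module.Finite R N := Module.Finite.iff_fg.2 hN
  exact fp_of_injective_pi hR n N N.subtype N.injective_subtype

/-- over a coherent ring, finitely generated submodules of finitely presented modules are
finitely presented -/
theorem fp_of_fg (hR : IsCoh R) (M : Type u) [AddCommGroup M] [Module R M]
    [Module.FinitePresentation R M] (N : Submodule R M) (hN : N.FG) :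
    Module.FinitePresentation R N := by
  obtain ⟨n, m, f, g, hf, hfg⟩ := Module.FinitePresentation.exists_fin' R M
  have hkf : (LinearMap.ker f).FG := by
    rw [LinearMap.exact_iff.1 hfg, LinearMap.range_eq_map]
    exact Submodule.FG.map _ Module.Finite.fg_top
  let N' : Submodule R (Fin n → R) := N.comap f
  have hN' : N'.FG := by
    refine Submodule.fg_of_fg_map_of_fg_inf_ker f ?_ ?_
    · rw [Submodule.map_comap_eq_of_surjective hf]; exact hN
    · rw [inf_eq_right.2 (LinearMap.ker_le_comap f)]; exact hkf
  have hfp' : Module.FinitePresentation R N' := fp_of_fg_pi hR n N' hN'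
  let r : N' →ₗ[R] N := f.restrict (fun x hx => hx)
  have hr : Function.Surjective r := by
    rintro ⟨y, hy⟩
    obtain ⟨x, rfl⟩ := hf y
    exact ⟨⟨x, hy⟩, rfl⟩
  refine Module.finitePresentation_of_surjective r hr ?_
  refine Submodule.fg_of_fg_map_injective N'.subtype N'.injective_subtype ?_
  have : (LinearMap.ker r).map N'.subtype = LinearMap.ker f := by
    ext x
    simp only [Submodule.mem_map, LinearMap.mem_ker, Submodule.subtype_apply, Subtype.exists,
      exists_and_right, exists_eq_right]
    constructor
    · rintro ⟨hx, hx'⟩
      have := congrArg Subtype.val hx'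
      simpa [r] using this
    · intro hx
      refine ⟨?_, ?_⟩
      · show f x ∈ N
        rw [hx]; exact N.zero_mem
      · apply Subtype.ext
        simpa [r] using hx
  rw [this]; exact hkf

/-- kernel of a map between finitely presented modules over a coherent ring -/
theorem fp_ker (hR : IsCoh R) {M N : Type u} [AddCommGroup M] [Module R M] [AddCommGroup N]
    [Module R N] [Module.FinitePresentation R M] [Module.FinitePresentation R N] (f : M →ₗ[R] N) :
    Module.FinitePresentation R (LinearMap.ker f) := by
  have hr : (LinearMap.range f).FG := by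
    rw [LinearMap.range_eq_map]
    exact Submodule.FG.map _ Module.Finite.fg_top
  have : Module.FinitePresentation R (LinearMap.range f) := fp_of_fg hR N _ hr
  have hk : (LinearMap.ker f.rangeRestrict).FG :=
    Module.FinitePresentation.fg_ker _ f.surjective_rangeRestrict
  rw [LinearMap.ker_rangeRestrict] at hk
  exact fp_of_fg hR M _ hk

end Groth.Agent.Helper5.Coh
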