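import Mathlib
import Groth.Agent.Lib.Helper5.DRing.Coh
import Groth.Agent.Lib.Helper5.DRing.PCLow
import Groth.Agent.Lib.Helper5.DRing.Dev

set_option autoImplicit false
universe u
open CategoryTheory Limits CochainComplex HomComplex Pretriangulated DerivedCategory ZeroObject
attribute [local instance] HasDerivedCategory.standard

namespace Groth.Agent.Helper5.PCCoh
open Groth.Agent.S2067 Groth.Agent.S2087 Groth.Agent.Helper5.PCBuild Groth.Agent.Helper5.PCDev
open Groth.Agent.Helper5.Coh
variable {R : Type u} [CommRing R]

theorem fp_of_eq {M : Type u} [AddCommGroup M] [Module R M] {N N' : Submodule R M} (h : N = N')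
    (hN : Module.FinitePresentation R N) : Module.FinitePresentation R N' := by
  subst h; exact hN

/-- cohomology of a complex of finite free modules over a coherent ring is finitely presented -/
theorem homology_fp_coh (hR : IsCoh R) (E : DRing.Cx R) (hff : DRing.TermwiseFiniteFree E) (j : ℤ) :
    Module.FinitePresentation R (E.homology j) := by
  have hfp : ∀ i, Module.FinitePresentation R (E.X i) := fun i => by
    have := (hff i).1
    have := (hff i).2
    exact Module.finitePresentation_of_projective _ _
  have h1 : Module.FinitePresentation R (E.sc' (j-1) j (j+1)).X₂ := hfp j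
  have h2 : Module.FinitePresentation R (E.sc' (j-1) j (j+1)).X₃ := hfp (j + 1)
  have h0 : Module.Finite R (E.sc' (j-1) j (j+1)).X₁ := (hff (j - 1)).1
  have hk : Module.FinitePresentation R (LinearMap.ker (E.sc' (j-1) j (j+1)).g.hom) :=
    fp_ker hR _
  have : Module.FinitePresentation R (LinearMap.ker (E.sc' (j-1) j (j+1)).g.hom ⧸
      LinearMap.range (E.sc' (j-1) j (j+1)).moduleCatToCycles) := by
    refine Module.finitePresentation_of_surjective
      (LinearMap.range (E.sc' (j-1) j (j+1)).moduleCatToCycles).mkQ
      (Submodule.mkQ_surjective _) ?_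
    rw [Submodule.ker_mkQ, LinearMap.range_eq_map]
    exact Submodule.FG.map _ Module.Finite.fg_top
  exact Module.FinitePresentation.of_equiv (Groth.Agent.S2068.homIso E j).symm.toLinearEquiv

theorem fp_Hn_toD (hR : IsCoh R) (E : DRing.Cx R) (hff : DRing.TermwiseFiniteFree E) (j : ℤ) :
    Module.FinitePresentation R (Hn j (DRing.toD E)) := by
  have h3 := homology_fp_coh hR E hff j
  have h3' : Module.FinitePresentation R
      ↑((HomologicalComplex.homologyFunctor (ModuleCat.{u} R) (ComplexShape.up ℤ) j).obj E) := h3
  exact Module.FinitePresentation.of_equiv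
    ((homologyFunctorFactors (ModuleCat.{u} R) j).app E).symm.toLinearEquiv

theorem fp_Hn_single (b : ℤ) (k : ℕ) :
    Module.FinitePresentation R (Hn b (DRing.toD (Sb (R := R) b k))) := by
  let e := (homologyFunctorFactors (ModuleCat.{u} R) b).app (Sb b k) ≪≫
    HomologicalComplex.singleObjHomologySelfIso (ComplexShape.up ℤ) b (ModuleCat.of R (Fin k → R))
  exact Module.FinitePresentation.of_equiv e.symm.toLinearEquiv

/-- killing the top cohomology over a coherent ring: the next cohomology stays finitely presented -/
theorem fp_cone_prev (hR : IsCoh R) (b b' : ℤ) (hb : b' + 1 = b) (k : ℕ) (K Z : Dual.D R)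
    (φ : DRing.toD (Sb b k) ⟶ K) (g : K ⟶ Z) (h : Z ⟶ (DRing.toD (Sb (R := R) b k))⟦(1 : ℤ)⟧)
    (hT : Triangle.mk φ g h ∈ distTriang _)
    (hfp : Module.FinitePresentation R (Hn b K)) (hfp' : Module.FinitePresentation R (Hn b' K)) :
    Module.FinitePresentation R (Hn b' Z) := by
  have ex3 := HomologySequence.exact₃ _ hT b' b hb
  have ex1 := HomologySequence.exact₁ _ hT b' b hb
  rw [ShortComplex.moduleCat_exact_iff_range_eq_ker] at ex3 ex1
  have hS : Module.FinitePresentation R (Hn b (DRing.toD (Sb (R := R) b k))) := fp_Hn_single b k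
  let δ : Hn b' Z ⟶ Hn b (DRing.toD (Sb (R := R) b k)) :=
    HomologySequence.δ (Triangle.mk φ g h) b' b hb
  have ex1' : LinearMap.range δ.hom =
      LinearMap.ker ((homologyFunctor (ModuleCat.{u} R) b).map φ).hom := ex1
  have ex3' : LinearMap.range ((homologyFunctor (ModuleCat.{u} R) b').map g).hom =
      LinearMap.ker δ.hom := ex3
  have h1 : Module.FinitePresentation R (LinearMap.range δ.hom) :=
    fp_of_eq ex1'.symm (fp_ker hR _)
  have hmono : Mono ((homologyFunctor (ModuleCat.{u} R) b').map g) := by
    refine (HomologySequence.mono_homologyMap_mor₂_iff (Triangle.mk φ g h) hT b').2 ?_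
    exact (single_hom_zero _ b b' (by omega)).eq_of_src _ _
  have hinj : Function.Injective ((homologyFunctor (ModuleCat.{u} R) b').map g).hom :=
    (ModuleCat.mono_iff_injective _).1 hmono
  have h2 : Module.FinitePresentation R (LinearMap.ker δ.hom) := by
    refine fp_of_eq ex3' ?_
    exact Module.FinitePresentation.of_equiv (LinearEquiv.ofInjective _ hinj)
  exact fp_of_range_ker δ.hom h1 h2

/-- first part of S6943 -/
theorem pc_iff_coh (hR : IsCoh R) (K : Dual.D R)
    (hb : ∃ b : ℤ, ∀ i : ℤ, b < i → Subsingleton (Dual.HD R K i)) (m : ℤ) :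
    DRing.IsPseudoCoherent R m K ↔
      Module.Finite R (Dual.HD R K m) ∧
        ∀ i : ℤ, m < i → Module.FinitePresentation R (Dual.HD R K i) := by
  constructor
  · intro h
    obtain ⟨E, a, b, α, hab, hff, hiso, hepi⟩ := h
    refine ⟨?_, fun i hi => ?_⟩
    · have := fp_Hn_toD hR E hff m
      exact Module.Finite.of_surjective ((homologyFunctor (ModuleCat.{u} R) m).map α).hom
        ((ModuleCat.epi_iff_surjective _).1 hepi)
    · have := fp_Hn_toD hR E hff i
      have := hiso i hi
      exact Module.FinitePresentation.of_equiv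
        (asIso ((homologyFunctor (ModuleCat.{u} R) i).map α)).toLinearEquiv
  · rintro ⟨hfin, hfp⟩
    obtain ⟨B, hB⟩ := hb
    refine devissage m (fun K => Module.Finite R (Hn m K) ∧
      ∀ i : ℤ, m < i → Module.FinitePresentation R (Hn i K)) ?_ ?_ K ⟨hfin, hfp⟩
      ⟨B, fun j hj => by have := hB j hj; exact ModuleCat.isZero_of_subsingleton _⟩
    · intro K b hK hb _
      rcases eq_or_lt_of_le hb with rfl | hlt
      · exact hK.1
      · have := hK.2 b hlt
        infer_instance
    · intro b k K K' φ g h hT hmb hv hφ hK
      have hvZ := cone_vanish _ hT b (fun j hj => single_hom_zero _ b j (by omega)) hv hφ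
      have hiso : ∀ i : ℤ, i ≠ b → i + 1 ≠ b →
          IsIso ((homologyFunctor (ModuleCat.{u} R) i).map g) := fun i h1 h2 =>
        Groth.Agent.Helper5.Devissage.isIso_homologyMap_mor₂ (Triangle.mk φ g h) hT i
          (single_hom_zero _ b i h1) (single_hom_zero _ b (i + 1) h2)
      constructor
      · by_cases h1 : m = b
        · have hz : IsZero (Hn m K') := hvZ m (by omega)
          have := ModuleCat.subsingleton_of_isZero hz
          infer_instance
        · by_cases h2 : m + 1 = b
          · exact finite_cone_prev b m h2 k K K' φ g h hT hφ (hK.2 b (by omega)) hK.1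
          · have := hiso m h1 h2
            have := hK.1
            exact Module.Finite.equiv
              (asIso ((homologyFunctor (ModuleCat.{u} R) m).map g)).toLinearEquiv
      · intro i hi
        by_cases h1 : i = b
        · have hz : IsZero (Hn i K') := hvZ i (by omega)
          have := ModuleCat.subsingleton_of_isZero hz
          infer_instance
        · by_cases h2 : i + 1 = b
          · exact fp_cone_prev hR b i h2 k K K' φ g h hT (hK.2 b (by omega)) (hK.2 i hi)
          · have := hiso i h1 h2
            have := hK.2 i hi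
            exact Module.FinitePresentation.of_equiv
              (asIso ((homologyFunctor (ModuleCat.{u} R) i).map g)).toLinearEquiv

/-- S6943 -/
theorem s6943 (R : Type u) [CommRing R]
    (hR : ∀ I : Ideal R, I.FG → Module.FinitePresentation R I) (K : Dual.D R)
    (hb : ∃ b : ℤ, ∀ i : ℤ, b < i → Subsingleton (Dual.HD R K i)) (m : ℤ) :
    (DRing.IsPseudoCoherent R m K ↔
      Module.Finite R (Dual.HD R K m) ∧ ∀ i : ℤ, m < i → Module.FinitePresentation R (Dual.HD R K i)) ∧
      (DRing.IsPseudoCoherent' R K ↔ ∀ i : ℤ, Module.FinitePresentation R (Dual.HD R K i)) := by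
  refine ⟨pc_iff_coh hR K hb m, ⟨fun h i => ?_, fun h => ?_⟩⟩
  · have h1 := Groth.Agent.Helper5.TorAmp.pc_of_pc' h (i - 1)
    exact ((pc_iff_coh hR K hb (i - 1)).1 h1).2 i (by omega)
  · refine pc'_of_forall_pc K (fun m => (pc_iff_coh hR K hb m).2 ⟨?_, fun i _ => h i⟩)
    have := h m
    infer_instance

end Groth.Agent.Helper5.PCCoh
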