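import Mathlib
import Groth.Agent.Lib.Helper5.DRing.PCTerms

set_option autoImplicit false
universe u
open CategoryTheory Limits CochainComplex HomComplex Pretriangulated DerivedCategory ZeroObject
attribute [local instance] HasDerivedCategory.standard

namespace Groth.Agent.Helper5.PCRetract
open Groth.Agent.S2067 Groth.Agent.Helper5.PCBuild Groth.Agent.Helper5.PCDev
variable {R : Type u} [CommRing R]

theorem pc_biprod (X Y : Dual.D R) (m : ℤ) (hX : DRing.IsPseudoCoherent R m X)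
    (hY : DRing.IsPseudoCoherent R m Y) : DRing.IsPseudoCoherent R m (X ⊞ Y) :=
  (Groth.Agent.S2067.main _ (binaryBiproductTriangle_distinguished X Y) m).2.1 hX hY

theorem isZero_Hn_biprod (X Y : Dual.D R) (j : ℤ) (hX : IsZero (Hn j X)) (hY : IsZero (Hn j Y)) :
    IsZero (Hn j (X ⊞ Y)) := by
  rw [IsZero.iff_id_eq_zero, ← CategoryTheory.Functor.map_id, ← biprod.total, Functor.map_add,
    Functor.map_comp, Functor.map_comp]
  have h1 : (homologyFunctor (ModuleCat.{u} R) j).map (biprod.inl : X ⟶ X ⊞ Y) = 0 :=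
    hX.eq_of_src _ _
  have h2 : (homologyFunctor (ModuleCat.{u} R) j).map (biprod.inr : Y ⟶ X ⊞ Y) = 0 :=
    hY.eq_of_src _ _
  rw [h1, h2]
  simp

theorem isZero_of_retract {C : Type*} [Category C] [HasZeroMorphisms C] {X Y : C} (i : X ⟶ Y)
    (p : Y ⟶ X) (h : i ≫ p = 𝟙 X) (hY : IsZero Y) : IsZero X := by
  rw [IsZero.iff_id_eq_zero, ← h, hY.eq_of_tgt i 0, zero_comp]

/-- a retract of an `m`-pseudo-coherent object is `m`-pseudo-coherent -/
theorem pc_of_retract (m : ℤ) : ∀ (n : ℕ) (K M : Dual.D R) (i : K ⟶ M) (p : M ⟶ K),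
    i ≫ p = 𝟙 K → DRing.IsPseudoCoherent R m M → (∀ j, m - 1 + n < j → IsZero (Hn j M)) →
    DRing.IsPseudoCoherent R m K := by
  intro n
  induction n with
  | zero =>
    intro K M i p hip _ hv
    refine pc_of_vanishD K m (fun j hj => ?_)
    exact isZero_of_retract ((homologyFunctor (ModuleCat.{u} R) j).map i)
      ((homologyFunctor (ModuleCat.{u} R) j).map p)
      (by rw [← Functor.map_comp, hip, CategoryTheory.Functor.map_id]) (hv j (by simp; omega))
  | succ n ih =>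
    intro K M i p hip hM hv
    obtain ⟨b, hb⟩ : ∃ b : ℤ, b = m + n := ⟨_, rfl⟩
    have hvb : ∀ j, b < j → IsZero (Hn j M) := fun j hj => hv j (by push_cast; omega)
    have hMb : DRing.IsPseudoCoherent R b M := Groth.Agent.S2087.pc_mono _ (by omega) hM
    have hf : Module.Finite R (Hn b M) := (Groth.Agent.S2068.result _ b hMb).1 hvb
    obtain ⟨l, ψ, hψ⟩ := exists_phiD M b hf
    obtain ⟨S, hSdef⟩ : ∃ S : Dual.D R, S = DRing.toD (Sb (R := R) b l) := ⟨_, rfl⟩
    subst hSdef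
    obtain ⟨φK, hφK⟩ : ∃ φK : DRing.toD (Sb (R := R) b l) ⟶ K, φK = ψ ≫ p := ⟨_, rfl⟩
    obtain ⟨Φ, hΦdef⟩ : ∃ Φ : DRing.toD (Sb (R := R) b l) ⊞ DRing.toD (Sb (R := R) b l) ⟶ M,
      Φ = biprod.desc (ψ ≫ p ≫ i) (ψ - ψ ≫ p ≫ i) := ⟨_, rfl⟩
    have hΦ1 : biprod.inl ≫ Φ = φK ≫ i := by rw [hΦdef, hφK, biprod.inl_desc, Category.assoc]
    have hΦ2 : Φ ≫ p = biprod.fst ≫ φK := by
      rw [hΦdef, hφK]
      ext
      · rw [biprod.inl_desc_assoc, biprod.inl_fst_assoc, Category.assoc, Category.assoc, hip,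
          Category.comp_id]
      · rw [biprod.inr_desc_assoc, biprod.inr_fst_assoc, Preadditive.sub_comp, Category.assoc,
          Category.assoc, hip, Category.comp_id, sub_self, zero_comp]
    obtain ⟨K', g, h, hT⟩ := distinguished_cocone_triangle φK
    obtain ⟨M', g', h', hT'⟩ := distinguished_cocone_triangle Φ
    -- morphisms of triangles
    obtain ⟨i', hi1, hi2⟩ : ∃ i' : K' ⟶ M', g ≫ i' = i ≫ g' ∧
        h ≫ (biprod.inl : DRing.toD (Sb (R := R) b l) ⟶ _)⟦(1 : ℤ)⟧' = i' ≫ h' :=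
      complete_distinguished_triangle_morphism _ _ hT hT' biprod.inl i hΦ1.symm
    obtain ⟨p', hp1, hp2⟩ : ∃ p' : M' ⟶ K', g' ≫ p' = p ≫ g ∧
        h' ≫ (biprod.fst : _ ⟶ DRing.toD (Sb (R := R) b l))⟦(1 : ℤ)⟧' = p' ≫ h :=
      complete_distinguished_triangle_morphism _ _ hT' hT biprod.fst p hΦ2
    let θ : Triangle.mk φK g h ⟶ Triangle.mk φK g h :=
      { hom₁ := 𝟙 _
        hom₂ := 𝟙 _
        hom₃ := i' ≫ p'
        comm₁ := by simp
        comm₂ := by
          show g ≫ i' ≫ p' = 𝟙 K ≫ g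
          rw [reassoc_of% hi1, hp1, reassoc_of% hip, Category.id_comp]
        comm₃ := by
          show h ≫ (𝟙 (DRing.toD (Sb (R := R) b l)))⟦(1 : ℤ)⟧' = (i' ≫ p') ≫ h
          rw [Category.assoc, ← hp2, ← reassoc_of% hi2, ← Functor.map_comp, biprod.inl_fst] }
    have hθ : IsIso (i' ≫ p') := isIso₃_of_isIso₁₂ θ hT hT (by dsimp [θ]; infer_instance)
      (by dsimp [θ]; infer_instance)
    have hS : ∀ q : ℤ, DRing.IsPseudoCoherent R q (DRing.toD (Sb (R := R) b l)) := fun q => Groth.Agent.S2087.pc_single _ b q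
    have hM' : DRing.IsPseudoCoherent R m M' :=
      (Groth.Agent.S2067.main _ hT' m).1 (pc_biprod _ _ _ (hS _) (hS _)) hM
    have hΦ : Epi ((homologyFunctor (ModuleCat.{u} R) b).map Φ) := by
      have : ψ = (biprod.inl + biprod.inr) ≫ Φ := by
        rw [hΦdef, Preadditive.add_comp, biprod.inl_desc, biprod.inr_desc]; abel
      rw [this, Functor.map_comp] at hψ
      exact @epi_of_epi _ _ _ _ _ ((homologyFunctor (ModuleCat.{u} R) b).map (biprod.inl + biprod.inr)) _ hψ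
    have hvM' := Groth.Agent.S2087.cone_vanish _ hT' b
      (fun j hj => isZero_Hn_biprod _ _ j (Groth.Agent.S2087.single_hom_zero _ b j (by omega))
        (Groth.Agent.S2087.single_hom_zero _ b j (by omega))) hvb hΦ
    have hK' : DRing.IsPseudoCoherent R m K' :=
      ih K' M' (inv (i' ≫ p') ≫ i') p' (by simp) hM' (fun j hj => hvM' j (by omega))
    exact (Groth.Agent.S2067.main _ hT m).2.1 (hS m) hK'


theorem pc_of_retract' (m : ℤ) (K M : Dual.D R) (i : K ⟶ M) (p : M ⟶ K) (hip : i ≫ p = 𝟙 K)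
    (hM : DRing.IsPseudoCoherent R m M) : DRing.IsPseudoCoherent R m K := by
  obtain ⟨B, hB⟩ := Groth.Agent.S2087.pc_bound M m hM
  refine pc_of_retract m (B - m + 1).toNat K M i p hip hM (fun j hj => hB j ?_)
  have := Int.self_le_toNat (B - m + 1)
  omega

/-- S6937 -/
theorem s6937 (m : ℤ) (K L : Dual.D R) [HasBinaryBiproduct K L] :
    (DRing.IsPseudoCoherent R m (K ⊞ L) →
        DRing.IsPseudoCoherent R m K ∧ DRing.IsPseudoCoherent R m L) ∧
      (DRing.IsPseudoCoherent' R (K ⊞ L) →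
        DRing.IsPseudoCoherent' R K ∧ DRing.IsPseudoCoherent' R L) := by
  have key : ∀ m' : ℤ, DRing.IsPseudoCoherent R m' (K ⊞ L) →
      DRing.IsPseudoCoherent R m' K ∧ DRing.IsPseudoCoherent R m' L := fun m' h =>
    ⟨pc_of_retract' m' K _ biprod.inl biprod.fst biprod.inl_fst h,
      pc_of_retract' m' L _ biprod.inr biprod.snd biprod.inr_snd h⟩
  refine ⟨key m, fun h => ⟨pc'_of_forall_pc _ (fun m' => ?_), pc'_of_forall_pc _ (fun m' => ?_)⟩⟩
  · exact (key m' (Groth.Agent.Helper5.TorAmp.pc_of_pc' h m')).1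
  · exact (key m' (Groth.Agent.Helper5.TorAmp.pc_of_pc' h m')).2

end Groth.Agent.Helper5.PCRetract
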