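import Mathlib
import Groth.Agent.Lib.Helper5.DRing.PCHom
import Groth.Prelude.Def_MoreMor

set_option autoImplicit false
universe u
open CategoryTheory Limits DerivedCategory
attribute [local instance] HasDerivedCategory.standard

namespace Groth.Agent.Helper5.PCHom
open Groth.Agent.Helper5.PCRes
variable {R A : Type u} [CommRing R] [CommRing A] [Algebra R A]

theorem pchom_of_isPseudoCoherentHom (hRA : MoreMor.IsPseudoCoherentHom R A) :
    ∃ (n : ℕ) (φ : MvPolynomial (Fin n) R →ₐ[R] A), Function.Surjective φ ∧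
      PCHom (φ : MvPolynomial (Fin n) R →+* A) := by
  obtain ⟨n, φ, hφ, h⟩ := hRA
  refine ⟨n, φ, hφ, ?_⟩
  letI := φ.toRingHom.toAlgebra
  have h' : AllPC (ModuleCat.of (MvPolynomial (Fin n) R) A) :=
    fun m => Groth.Agent.Helper5.TorAmp.pc_of_pc' h m
  exact pchom_iff_alg.2 h'

/-- S7071 -/
theorem s7071 (hRA : MoreMor.IsPseudoCoherentHom R A) (m : ℤ) (K : Dual.D A) :
    DerCA.IsRelPseudoCoherent R A m K ↔ DRing.IsPseudoCoherent A m K := by
  obtain ⟨n, φ, hφ, hpc⟩ := pchom_of_isPseudoCoherentHom hRA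
  constructor
  · rintro ⟨n', α, hα, h⟩
    have h' : DerCA.IsRelPseudoCoherentVia φ m K := relpc_of_relpc α hα φ hφ K m h
    exact (pc_restrict_iff _ hpc K m).2 h'
  · intro h
    exact ⟨n, φ, hφ, (pc_restrict_iff _ hpc K m).1 h⟩

end Groth.Agent.Helper5.PCHom
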