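import Mathlib
import Groth.Agent.Lib.Helper5.DRing.RelPC
import Groth.Agent.Lib.Helper5.DRing.PCRetract
import Groth.Agent.Lib.Helper5.DRing.PCNoeth

set_option autoImplicit false
universe u
open CategoryTheory Limits DerivedCategory Pretriangulated
attribute [local instance] HasDerivedCategory.standard

namespace Groth.Agent.Helper5.PCHom
open Groth.Agent.Helper5.PCRes Groth.Agent.Helper5.PCDev Groth.Agent.Helper5.PCBuild

section ringhom
variable {B C : Type u} [CommRing B] [CommRing C] (f : B →+* C)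

/-- `H^i` commutes with restriction of scalars -/
noncomputable def HnRestrict (K : Dual.D C) (i : ℤ) :
    Hn i ((DRing.restrictD f).obj K) ≅ (ModuleCat.restrictScalars.{u} f).obj (Hn i K) :=
  Helper5.DMod.mapDerivedCategoryHomologyIso (ModuleCat.restrictScalars.{u} f) K i

theorem subsingleton_Hn_restrict_iff (K : Dual.D C) (i : ℤ) :
    Subsingleton (Hn i ((DRing.restrictD f).obj K)) ↔ Subsingleton (Hn i K) := by
  have e := (HnRestrict f K i).toLinearEquiv
  constructor
  · intro h
    have : Subsingleton ((ModuleCat.restrictScalars.{u} f).obj (Hn i K)) := e.symm.toEquiv.subsingleton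
    exact this
  · intro h
    have : Subsingleton ((ModuleCat.restrictScalars.{u} f).obj (Hn i K)) := h
    exact e.toEquiv.subsingleton

theorem finite_of_restrict (N : ModuleCat.{u} C)
    (h : Module.Finite B ((ModuleCat.restrictScalars.{u} f).obj N)) : Module.Finite C N := by
  obtain ⟨s, hs⟩ := h.1
  let t : Finset N := s
  refine ⟨⟨t, ?_⟩⟩
  rw [eq_top_iff]
  intro x _
  have hx : (show (ModuleCat.restrictScalars.{u} f).obj N from x) ∈
      Submodule.span B (s : Set ((ModuleCat.restrictScalars.{u} f).obj N)) := by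
    rw [hs]; trivial
  have key : ∀ y : (ModuleCat.restrictScalars.{u} f).obj N,
      y ∈ Submodule.span B (s : Set ((ModuleCat.restrictScalars.{u} f).obj N)) →
      (show N from y) ∈ Submodule.span C (t : Set N) := by
    intro y hy
    induction hy using Submodule.span_induction with
    | mem y hy => exact Submodule.subset_span hy
    | zero => exact Submodule.zero_mem _
    | add y z _ _ hy hz => exact Submodule.add_mem _ hy hz
    | smul a y _ hy => exact Submodule.smul_mem _ (f a) hy
  exact key x hx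

theorem finite_restrict_of_surjective (hf : Function.Surjective f) (N : ModuleCat.{u} C)
    (h : Module.Finite C N) : Module.Finite B ((ModuleCat.restrictScalars.{u} f).obj N) := by
  obtain ⟨s, hs⟩ := h.1
  let t : Finset ((ModuleCat.restrictScalars.{u} f).obj N) := s
  refine ⟨⟨t, ?_⟩⟩
  rw [eq_top_iff]
  intro x _
  have hx : (show N from x) ∈ Submodule.span C (s : Set N) := by
    rw [hs]; trivial
  have key : ∀ y : N, y ∈ Submodule.span C (s : Set N) →
      (show (ModuleCat.restrictScalars.{u} f).obj N from y) ∈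
        Submodule.span B (t : Set ((ModuleCat.restrictScalars.{u} f).obj N)) := by
    intro y hy
    induction hy using Submodule.span_induction with
    | mem y hy => exact Submodule.subset_span hy
    | zero => exact Submodule.zero_mem _
    | add y z _ _ hy hz => exact Submodule.add_mem _ hy hz
    | smul c y _ hy =>
      obtain ⟨b, rfl⟩ := hf c
      exact Submodule.smul_mem _ b hy
  exact key x hx

theorem finite_Hn_restrict_iff (hf : Function.Surjective f) (K : Dual.D C) (i : ℤ) :
    Module.Finite B (Hn i ((DRing.restrictD f).obj K)) ↔ Module.Finite C (Hn i K) := by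
  have e := (HnRestrict f K i).toLinearEquiv
  constructor
  · intro h
    exact finite_of_restrict f _ (Module.Finite.equiv e)
  · intro h
    have := finite_restrict_of_surjective f hf _ h
    exact Module.Finite.equiv e.symm

end ringhom

section rel
variable {R A : Type u} [CommRing R] [CommRing A] [Algebra R A]

theorem exists_presentation [Algebra.FiniteType R A] :
    ∃ (n : ℕ) (α : MvPolynomial (Fin n) R →ₐ[R] A), Function.Surjective α :=
  Algebra.FiniteType.iff_quotient_mvPolynomial''.1 inferInstance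

theorem relpc_iff_via {n : ℕ} (α : MvPolynomial (Fin n) R →ₐ[R] A) (hα : Function.Surjective α)
    (m : ℤ) (K : Dual.D A) :
    DerCA.IsRelPseudoCoherent R A m K ↔ DerCA.IsRelPseudoCoherentVia α m K :=
  ⟨fun ⟨_, β, hβ, h⟩ => relpc_of_relpc β hβ α hα K m h, fun h => ⟨n, α, hα, h⟩⟩

/-- S7020 -/
theorem s7020 [Algebra.FiniteType R A] (m : ℤ) (T : Triangle (Dual.D A))
    (hT : T ∈ distinguishedTriangles) :
    (DerCA.IsRelPseudoCoherent R A (m + 1) T.obj₁ → DerCA.IsRelPseudoCoherent R A m T.obj₂ →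
        DerCA.IsRelPseudoCoherent R A m T.obj₃) ∧
      (DerCA.IsRelPseudoCoherent R A m T.obj₁ → DerCA.IsRelPseudoCoherent R A m T.obj₃ →
        DerCA.IsRelPseudoCoherent R A m T.obj₂) ∧
      (DerCA.IsRelPseudoCoherent R A (m + 1) T.obj₂ → DerCA.IsRelPseudoCoherent R A m T.obj₃ →
        DerCA.IsRelPseudoCoherent R A (m + 1) T.obj₁) ∧
      ((DerCA.IsRelPseudoCoherentAll R A T.obj₁ → DerCA.IsRelPseudoCoherentAll R A T.obj₂ →
          DerCA.IsRelPseudoCoherentAll R A T.obj₃) ∧
        (DerCA.IsRelPseudoCoherentAll R A T.obj₁ → DerCA.IsRelPseudoCoherentAll R A T.obj₃ →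
          DerCA.IsRelPseudoCoherentAll R A T.obj₂) ∧
        (DerCA.IsRelPseudoCoherentAll R A T.obj₂ → DerCA.IsRelPseudoCoherentAll R A T.obj₃ →
          DerCA.IsRelPseudoCoherentAll R A T.obj₁)) := by
  obtain ⟨n, α, hα⟩ := exists_presentation (R := R) (A := A)
  have hT' := (DRing.restrictD (α : MvPolynomial (Fin n) R →+* A)).map_distinguished _ hT
  have key : ∀ m' : ℤ,
      (DerCA.IsRelPseudoCoherent R A (m' + 1) T.obj₁ → DerCA.IsRelPseudoCoherent R A m' T.obj₂ →
        DerCA.IsRelPseudoCoherent R A m' T.obj₃) ∧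
      (DerCA.IsRelPseudoCoherent R A m' T.obj₁ → DerCA.IsRelPseudoCoherent R A m' T.obj₃ →
        DerCA.IsRelPseudoCoherent R A m' T.obj₂) ∧
      (DerCA.IsRelPseudoCoherent R A (m' + 1) T.obj₂ → DerCA.IsRelPseudoCoherent R A m' T.obj₃ →
        DerCA.IsRelPseudoCoherent R A (m' + 1) T.obj₁) := by
    intro m'
    simp only [relpc_iff_via α hα]
    exact Groth.Agent.S2067.main _ hT' m'
  refine ⟨(key m).1, (key m).2.1, (key m).2.2, ?_, ?_, ?_⟩
  · intro h1 h2 m'
    exact (key m').1 (h1 _) (h2 _)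
  · intro h1 h3 m'
    exact (key m').2.1 (h1 _) (h3 _)
  · intro h2 h3 m'
    have := (key (m' - 1)).2.2 (by simpa using h2 m') (h3 _)
    simpa using this

/-- S7022 -/
theorem s7022 [Algebra.FiniteType R A] (m : ℤ) (K L : Dual.D A) [HasBinaryBiproduct K L] :
    (DerCA.IsRelPseudoCoherent R A m (K ⊞ L) →
        DerCA.IsRelPseudoCoherent R A m K ∧ DerCA.IsRelPseudoCoherent R A m L) ∧
      (DerCA.IsRelPseudoCoherentAll R A (K ⊞ L) →
        DerCA.IsRelPseudoCoherentAll R A K ∧ DerCA.IsRelPseudoCoherentAll R A L) := by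
  obtain ⟨n, α, hα⟩ := exists_presentation (R := R) (A := A)
  have key : ∀ m' : ℤ, DerCA.IsRelPseudoCoherent R A m' (K ⊞ L) →
      DerCA.IsRelPseudoCoherent R A m' K ∧ DerCA.IsRelPseudoCoherent R A m' L := by
    intro m'
    simp only [relpc_iff_via α hα]
    intro h
    let F := DRing.restrictD (α : MvPolynomial (Fin n) R →+* A)
    exact ⟨Groth.Agent.Helper5.PCRetract.pc_of_retract' m' _ _ (F.map biprod.inl) (F.map biprod.fst)
        (by rw [← F.map_comp, biprod.inl_fst, F.map_id]) h,
      Groth.Agent.Helper5.PCRetract.pc_of_retract' m' _ _ (F.map biprod.inr) (F.map biprod.snd)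
        (by rw [← F.map_comp, biprod.inr_snd, F.map_id]) h⟩
  exact ⟨key m, fun h => ⟨fun m' => (key m' (h m')).1, fun m' => (key m' (h m')).2⟩⟩


/-- relative pseudo-coherence of a module, via a presentation -/
theorem relpcModule_iff_via {n : ℕ} (α : MvPolynomial (Fin n) R →ₐ[R] A) (hα : Function.Surjective α)
    (m : ℤ) (M : ModuleCat.{u} A) :
    DerCA.IsRelPseudoCoherent R A m ((DerivedCategory.singleFunctor (ModuleCat.{u} A) 0).obj M) ↔
      DRing.IsPseudoCoherent (MvPolynomial (Fin n) R) m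
        ((DerivedCategory.singleFunctor (ModuleCat.{u} (MvPolynomial (Fin n) R)) 0).obj
          ((ModuleCat.restrictScalars.{u} (α : MvPolynomial (Fin n) R →+* A)).obj M)) := by
  rw [relpc_iff_via α hα]
  exact ⟨fun h => Groth.Agent.S2087.pc_of_iso (restrictDSingle _ M) h,
    fun h => Groth.Agent.S2087.pc_of_iso (restrictDSingle _ M).symm h⟩

/-- S7023, first half -/
theorem relpc_of_terms [Algebra.FiniteType R A] (m : ℤ) (K : DRing.Cx A) (b : ℤ)
    (hb : DRing.VanishesAbove K b)
    (h : ∀ i : ℤ, DerCA.IsRelPseudoCoherentModule R A (m - i) (K.X i)) :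
    DerCA.IsRelPseudoCoherent R A m (DRing.toD K) := by
  obtain ⟨n, α, hα⟩ := exists_presentation (R := R) (A := A)
  rw [relpc_iff_via α hα]
  let F := ModuleCat.restrictScalars.{u} (α : MvPolynomial (Fin n) R →+* A)
  refine Groth.Agent.S2087.pc_of_iso (F.mapDerivedCategoryFactors.app K).symm
    (pc_of_terms m _ b ?_ ?_)
  · intro i hi
    exact F.map_isZero (hb i hi)
  · intro i
    exact (relpcModule_iff_via α hα (m - i) (K.X i)).1 (h i)

/-- S7023 -/
theorem s7023 [Algebra.FiniteType R A] (m : ℤ) (K : DRing.Cx A) (b : ℤ)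
    (hb : DRing.VanishesAbove K b) :
    ((∀ i : ℤ, DerCA.IsRelPseudoCoherentModule R A (m - i) (K.X i)) →
        DerCA.IsRelPseudoCoherent R A m (DRing.toD K)) ∧
      ((∀ i : ℤ, DerCA.IsRelPseudoCoherentModuleAll R A (K.X i)) →
        DerCA.IsRelPseudoCoherentAll R A (DRing.toD K)) :=
  ⟨relpc_of_terms m K b hb, fun h m' => relpc_of_terms m' K b hb (fun i => h i _)⟩

/-- S7024, first half -/
theorem relpc_of_homology [Algebra.FiniteType R A] (m : ℤ) (K : Dual.D A)
    (hb : ∃ b : ℤ, ∀ i : ℤ, b < i → Subsingleton (Dual.HD A K i))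
    (h : ∀ i : ℤ, DerCA.IsRelPseudoCoherentModule R A (m - i) (Dual.HD A K i)) :
    DerCA.IsRelPseudoCoherent R A m K := by
  obtain ⟨n, α, hα⟩ := exists_presentation (R := R) (A := A)
  rw [relpc_iff_via α hα]
  refine pc_of_homology m _ ?_ ?_
  · obtain ⟨b, hb⟩ := hb
    exact ⟨b, fun i hi => (subsingleton_Hn_restrict_iff _ K i).2 (hb i hi)⟩
  · intro i
    have h1 := (relpcModule_iff_via α hα (m - i) (Hn i K)).1 (h i)
    exact Groth.Agent.S2087.pc_of_iso
      ((DerivedCategory.singleFunctor _ 0).mapIso (HnRestrict _ K i).symm) h1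

/-- S7024 -/
theorem s7024 [Algebra.FiniteType R A] (m : ℤ) (K : Dual.D A)
    (hb : ∃ b : ℤ, ∀ i : ℤ, b < i → Subsingleton (Dual.HD A K i)) :
    ((∀ i : ℤ, DerCA.IsRelPseudoCoherentModule R A (m - i) (Dual.HD A K i)) →
        DerCA.IsRelPseudoCoherent R A m K) ∧
      ((∀ i : ℤ, DerCA.IsRelPseudoCoherentModuleAll R A (Dual.HD A K i)) →
        DerCA.IsRelPseudoCoherentAll R A K) :=
  ⟨relpc_of_homology m K hb, fun h m' => relpc_of_homology m' K hb (fun i => h i _)⟩


/-- S7026, first part -/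
theorem relpc_iff_noetherian [IsNoetherianRing R] [Algebra.FiniteType R A] (m : ℤ) (K : Dual.D A) :
    DerCA.IsRelPseudoCoherent R A m K ↔
      (∃ b : ℤ, ∀ i : ℤ, b < i → Subsingleton (Dual.HD A K i)) ∧
        ∀ i : ℤ, m ≤ i → Module.Finite A (Dual.HD A K i) := by
  obtain ⟨n, α, hα⟩ := exists_presentation (R := R) (A := A)
  rw [relpc_iff_via α hα]
  unfold DerCA.IsRelPseudoCoherentVia
  rw [pc_iff_noetherian]
  constructor
  · rintro ⟨⟨b, hb⟩, hfin⟩
    exact ⟨⟨b, fun i hi => (subsingleton_Hn_restrict_iff _ K i).1 (hb i hi)⟩,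
      fun i hi => (finite_Hn_restrict_iff _ hα K i).1 (hfin i hi)⟩
  · rintro ⟨⟨b, hb⟩, hfin⟩
    exact ⟨⟨b, fun i hi => (subsingleton_Hn_restrict_iff _ K i).2 (hb i hi)⟩,
      fun i hi => (finite_Hn_restrict_iff _ hα K i).2 (hfin i hi)⟩

/-- S7026 -/
theorem s7026 [IsNoetherianRing R] [Algebra.FiniteType R A] (m : ℤ) (K : Dual.D A)
    (M : Type u) [AddCommGroup M] [Module A M] :
    (DerCA.IsRelPseudoCoherent R A m K ↔
      (∃ b : ℤ, ∀ i : ℤ, b < i → Subsingleton (Dual.HD A K i)) ∧
        ∀ i : ℤ, m ≤ i → Module.Finite A (Dual.HD A K i)) ∧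
    (DerCA.IsRelPseudoCoherentAll R A K ↔
      (∃ b : ℤ, ∀ i : ℤ, b < i → Subsingleton (Dual.HD A K i)) ∧
        ∀ i : ℤ, Module.Finite A (Dual.HD A K i)) ∧
    (DerCA.IsRelPseudoCoherentModuleAll R A M ↔ Module.Finite A M) := by
  have h2 : ∀ K : Dual.D A, DerCA.IsRelPseudoCoherentAll R A K ↔
      (∃ b : ℤ, ∀ i : ℤ, b < i → Subsingleton (Dual.HD A K i)) ∧
        ∀ i : ℤ, Module.Finite A (Dual.HD A K i) := by
    intro K
    constructor
    · intro h
      exact ⟨((relpc_iff_noetherian 0 K).1 (h 0)).1, fun i => ((relpc_iff_noetherian i K).1 (h i)).2 i le_rfl⟩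
    · rintro ⟨hb, hfin⟩ m'
      exact (relpc_iff_noetherian m' K).2 ⟨hb, fun i _ => hfin i⟩
  refine ⟨relpc_iff_noetherian m K, h2 K, ?_⟩
  unfold DerCA.IsRelPseudoCoherentModuleAll
  rw [h2]
  constructor
  · rintro ⟨_, hfin⟩
    have := hfin 0
    exact Module.Finite.equiv (HnInD (ModuleCat.of A M)).toLinearEquiv
  · intro h
    refine ⟨⟨0, fun i hi => ModuleCat.subsingleton_of_isZero (isZero_Hn_inD _ i (by omega))⟩,
      fun i => ?_⟩
    by_cases hi : i = 0
    · subst hi
      exact Module.Finite.equiv (HnInD (ModuleCat.of A M)).symm.toLinearEquiv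
    · have := ModuleCat.subsingleton_of_isZero (isZero_Hn_inD (ModuleCat.of A M) i hi)
      infer_instance

/-- S7021 -/
theorem s7021 [Algebra.FiniteType R A] {n : ℕ} (α : MvPolynomial (Fin n) R →ₐ[R] A)
    (hα : Function.Surjective α) (M : Type u) [AddCommGroup M] [Module A M] :
    (DerCA.IsRelPseudoCoherentModule R A 0 M ↔ Module.Finite A M) ∧
      (DerCA.IsRelPseudoCoherentModule R A (-1) M ↔
        @Module.FinitePresentation (MvPolynomial (Fin n) R) M _ _ (Module.compHom M α.toRingHom)) := by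
  have h := s6935 (R := MvPolynomial (Fin n) R)
    ((ModuleCat.restrictScalars.{u} (α : MvPolynomial (Fin n) R →+* A)).obj (ModuleCat.of A M))
  constructor
  · unfold DerCA.IsRelPseudoCoherentModule
    rw [relpcModule_iff_via α hα 0 (ModuleCat.of A M)]
    refine Iff.trans h.1 ⟨fun h' => finite_of_restrict _ (ModuleCat.of A M) h',
      fun h' => finite_restrict_of_surjective _ hα (ModuleCat.of A M) h'⟩
  · unfold DerCA.IsRelPseudoCoherentModule
    rw [relpcModule_iff_via α hα (-1) (ModuleCat.of A M)]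
    exact h.2

end rel

section s7067
variable (A B : Type u) [CommRing A] [CommRing B] [Algebra A B]

/-- S7067 -/
theorem s7067 [IsNoetherianRing A] [Algebra.FiniteType A B] : MoreMor.IsPseudoCoherentHom A B := by
  obtain ⟨n, φ, hφ⟩ := exists_presentation (R := A) (A := B)
  refine ⟨n, φ, hφ, ?_⟩
  letI := φ.toRingHom.toAlgebra
  rw [pcModule_iff_noetherian]
  exact Module.Finite.of_surjective (Algebra.linearMap (MvPolynomial (Fin n) A) B) hφ

end s7067

end Groth.Agent.Helper5.PCHom
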