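import Mathlib
import Groth.Agent.Lib.Helper5.DRing.RelPC2
import Groth.Agent.Lib.Helper5.DRing.FlatBC

set_option autoImplicit false
universe u
open CategoryTheory Limits DerivedCategory Pretriangulated
attribute [local instance] HasDerivedCategory.standard

namespace Groth.Agent.Helper5.PCHom
open Groth.Agent.Helper5.PCRes Groth.Agent.Helper5.PCDev Groth.Agent.Helper5.PCBuild
open Groth.Agent.Helper5.FlatBC TensorProduct

attribute [local instance] MvPolynomial.algebraMvPolynomial

/-- polynomial extension of a pseudo-coherent ring map -/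
theorem pchom_mvMap {P A : Type u} [CommRing P] [CommRing A] (f : P →+* A) (hf : PCHom f) (k : ℕ) :
    PCHom (MvPolynomial.map f : MvPolynomial (Fin k) P →+* MvPolynomial (Fin k) A) := by
  letI := f.toAlgebra
  have hA : AllPC (ModuleCat.of P A) := pchom_iff_alg.1 hf
  have hbc : IsBaseChange (MvPolynomial (Fin k) P)
      (IsScalarTower.toAlgHom P A (MvPolynomial (Fin k) A)).toLinearMap := Algebra.IsPushout.out
  let e : MvPolynomial (Fin k) P ⊗[P] A ≃ₗ[MvPolynomial (Fin k) P] MvPolynomial (Fin k) A := hbc.equiv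
  have h : AllPC (ModuleCat.of (MvPolynomial (Fin k) P) (MvPolynomial (Fin k) A)) := fun m =>
    Groth.Agent.S2087.pc_of_iso ((DerivedCategory.singleFunctor _ 0).mapIso
      ((eqvT (MvPolynomial (Fin k) P) A).symm ≪≫ₗ e).toModuleIso)
      (pcModule_baseChange (MvPolynomial (Fin k) P) (ModuleCat.of P A) m (hA m))
  exact pchom_iff_alg.2 h


section s6985
variable {R A B : Type u} [CommRing R] [CommRing A] [CommRing B] [Algebra R A] [Algebra A B]
  [Algebra R B] [IsScalarTower R A B]

theorem pchom_of_relpcAll {n : ℕ} (α : MvPolynomial (Fin n) R →ₐ[R] A) (hα : Function.Surjective α)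
    (hA : DerCA.IsRelPseudoCoherentModuleAll R A A) :
    PCHom (α : MvPolynomial (Fin n) R →+* A) :=
  fun m => (relpcModule_iff_via α hα m (ModuleCat.of A A)).1 (hA m)

/-- S6985, key statement -/
theorem relpc_base_iff [Algebra.FiniteType R A] [Algebra.FiniteType A B]
    (hA : DerCA.IsRelPseudoCoherentModuleAll R A A) (K : Dual.D B) (m : ℤ) :
    DerCA.IsRelPseudoCoherent A B m K ↔ DerCA.IsRelPseudoCoherent R B m K := by
  obtain ⟨n, α, hα⟩ := exists_presentation (R := R) (A := A)
  obtain ⟨k, β, hβ⟩ := exists_presentation (R := A) (A := B)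
  have hpα := pchom_of_relpcAll α hα hA
  -- the ring maps
  let μ : MvPolynomial (Fin k) (MvPolynomial (Fin n) R) →ₐ[R] MvPolynomial (Fin k) A :=
    MvPolynomial.mapAlgHom α
  have hμs : Function.Surjective μ := MvPolynomial.map_surjective _ hα
  let e₂ : MvPolynomial (Fin (k + n)) R ≃ₐ[R] MvPolynomial (Fin k) (MvPolynomial (Fin n) R) :=
    (MvPolynomial.renameEquiv R finSumFinEquiv.symm).trans (MvPolynomial.sumAlgEquiv R (Fin k) (Fin n))
  let γ : MvPolynomial (Fin (k + n)) R →ₐ[R] B :=
    ((β.restrictScalars R).comp μ).comp e₂.toAlgHom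
  have hγ : Function.Surjective γ := (hβ.comp hμs).comp e₂.surjective
  have hpμ : PCHom (MvPolynomial.map (α : MvPolynomial (Fin n) R →+* A) :
      MvPolynomial (Fin k) (MvPolynomial (Fin n) R) →+* MvPolynomial (Fin k) A) :=
    pchom_mvMap _ hpα k
  have hpe : PCHom (e₂.toRingEquiv.toRingHom) := pchom_equiv _
  rw [relpc_iff_via β hβ, relpc_iff_via γ hγ]
  unfold DerCA.IsRelPseudoCoherentVia
  rw [pc_restrict_iff _ hpμ, pc_restrict_iff _ hpe]
  have i1 := restrictDComp (MvPolynomial.map (α : MvPolynomial (Fin n) R →+* A) :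
      MvPolynomial (Fin k) (MvPolynomial (Fin n) R) →+* MvPolynomial (Fin k) A)
    (β : MvPolynomial (Fin k) A →+* B) _ rfl K
  have i2 := restrictDComp e₂.toRingEquiv.toRingHom
    ((β : MvPolynomial (Fin k) A →+* B).comp (MvPolynomial.map (α : MvPolynomial (Fin n) R →+* A)))
    (γ : MvPolynomial (Fin (k + n)) R →+* B) rfl K
  have i3 := (DRing.restrictD e₂.toRingEquiv.toRingHom).mapIso i1
  exact ⟨fun h => Groth.Agent.S2087.pc_of_iso (i3.symm ≪≫ i2.symm) h,
    fun h => Groth.Agent.S2087.pc_of_iso (i2 ≪≫ i3) h⟩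

/-- S6985 -/
theorem s6985 [Algebra.FiniteType R A] [Algebra.FiniteType A B]
    (hA : DerCA.IsRelPseudoCoherentModuleAll R A A) (K : Dual.D B) (m : ℤ) :
    (DerCA.IsRelPseudoCoherent A B m K ↔ DerCA.IsRelPseudoCoherent R B m K) ∧
      (DerCA.IsRelPseudoCoherentAll A B K ↔ DerCA.IsRelPseudoCoherentAll R B K) :=
  ⟨relpc_base_iff hA K m, ⟨fun h m' => (relpc_base_iff hA K m').1 (h m'),
    fun h m' => (relpc_base_iff hA K m').2 (h m')⟩⟩

end s6985

end Groth.Agent.Helper5.PCHom
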