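import Mathlib
import Groth.Agent.Lib.Helper5.DRing.RelPC3
import Groth.Agent.Lib.Helper5.Shriek.BCBeta
import Groth.Agent.Lib.Helper5.QC.FpqcPC

/-!
# Flat base change and faithfully flat descent of relative pseudo-coherence (algebra) — helper5
-/

set_option autoImplicit false
universe u
open CategoryTheory Limits DerivedCategory Pretriangulated
attribute [local instance] HasDerivedCategory.standard

namespace Groth.Agent.Helper5.RelPCBC
open Groth.Agent.Helper5.FlatBC Groth.Agent.Helper3.BCDer Helper5.Shriek TensorProduct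

section G
variable {P : Type u} [CommRing P] (P' : Type u) [CommRing P'] [Algebra P P'] [Module.Flat P P']

/-- flat base change preserves pseudo-coherence (derived form, `G = - ⊗_P P'`) -/
theorem pc_G (Y : Dual.D P) (m : ℤ) (h : DRing.IsPseudoCoherent P m Y) :
    DRing.IsPseudoCoherent P' m ((G (A := P) P').obj Y) := by
  let L : DRing.Cx P := DerivedCategory.Q.objPreimage Y
  let eL : DerivedCategory.Q.obj L ≅ Y := DerivedCategory.Q.objObjPreimageIso Y
  have h1 : DRing.IsPseudoCoherent P m (DRing.toD L) := Groth.Agent.S2087.pc_of_iso eL.symm h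
  have h2 := pc_baseChange P' L m h1
  exact Groth.Agent.S2087.pc_of_iso
    (((Ef (R := P) P').mapDerivedCategoryFactors.app L).symm ≪≫ (G (A := P) P').mapIso eL) h2

end G

section G'
variable {P : Type u} [CommRing P] (P' : Type u) [CommRing P'] [Algebra P P']

/-- faithfully flat descent of pseudo-coherence (derived form) -/
theorem pc_of_G [Module.FaithfullyFlat P P'] (Y : Dual.D P) (m : ℤ)
    (h : DRing.IsPseudoCoherent P' m ((G (A := P) P').obj Y)) : DRing.IsPseudoCoherent P m Y := by
  let L : DRing.Cx P := DerivedCategory.Q.objPreimage Y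
  let eL : DerivedCategory.Q.obj L ≅ Y := DerivedCategory.Q.objObjPreimageIso Y
  have h2 : DRing.IsPseudoCoherent P' m (DRing.toD ((Ec P').obj L)) :=
    Groth.Agent.S2087.pc_of_iso
      ((G (A := P) P').mapIso eL.symm ≪≫ ((Ef (R := P) P').mapDerivedCategoryFactors.app L)) h
  exact Groth.Agent.S2087.pc_of_iso eL (pc_descent P' L m h2)

end G'

section LBC
variable {A : Type u} [CommRing A] (A' : Type u) [CommRing A'] [Algebra A A'] [Module.Flat A A']

/-- for a flat algebra, derived base change is the termwise one -/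
theorem nonempty_lbc_iso_G (X : Dual.D A) :
    Nonempty ((DRing.LBaseChange (algebraMap A A')).obj X ≅ (G (A := A) A').obj X) := by
  let K : DRing.Cx A := DerivedCategory.Q.objPreimage X
  let eK : DerivedCategory.Q.obj K ≅ X := DerivedCategory.Q.objObjPreimageIso X
  exact ⟨(DRing.LBaseChange (algebraMap A A')).mapIso eK.symm ≪≫
    Groth.Agent.Lib.Helper5.FpqcPC.lbcIsoOfFlat (algebraMap A A') (flat_hom A') K ≪≫
    ((Ef (R := A) A').mapDerivedCategoryFactors.app K).symm ≪≫ (G (A := A) A').mapIso eK⟩

end LBC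

section square
variable (P P' A A' : Type u) [CommRing P] [CommRing P'] [CommRing A] [CommRing A']
  [Algebra P P'] [Algebra P A] [Algebra A A'] [Algebra P' A'] [Algebra P A']
  [IsScalarTower P A A'] [IsScalarTower P P' A'] [Algebra.IsPushout P P' A A']
  [Module.Flat A A']

/-- base change of pseudo-coherence of restrictions along a flat pushout square -/
theorem pc_restrict_lbc [Module.Flat P P'] (X : Dual.D A) (m : ℤ)
    (h : DRing.IsPseudoCoherent P m ((DRing.restrictD (algebraMap P A)).obj X)) :
    DRing.IsPseudoCoherent P' m ((DRing.restrictD (algebraMap P' A')).obj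
      ((DRing.LBaseChange (algebraMap A A')).obj X)) := by
  obtain ⟨e⟩ := nonempty_lbc_iso_G A' X
  have h1 := pc_G P' _ m h
  exact Groth.Agent.S2087.pc_of_iso
    ((βD P P' A A').app X ≪≫ (DRing.restrictD (algebraMap P' A')).mapIso e.symm) h1

/-- descent of pseudo-coherence of restrictions along a faithfully flat pushout square -/
theorem pc_restrict_of_lbc [Module.FaithfullyFlat P P'] (X : Dual.D A) (m : ℤ)
    (h : DRing.IsPseudoCoherent P' m ((DRing.restrictD (algebraMap P' A')).obj
      ((DRing.LBaseChange (algebraMap A A')).obj X))) :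
    DRing.IsPseudoCoherent P m ((DRing.restrictD (algebraMap P A)).obj X) := by
  obtain ⟨e⟩ := nonempty_lbc_iso_G A' X
  apply pc_of_G P' _ m
  exact Groth.Agent.S2087.pc_of_iso
    ((DRing.restrictD (algebraMap P' A')).mapIso e ≪≫ ((βD P P' A A').app X).symm) h

end square

section main
attribute [local instance] MvPolynomial.algebraMvPolynomial

variable {R A R' A' : Type u} [CommRing R] [CommRing A] [CommRing R'] [CommRing A']
  [Algebra R A] [Algebra R R'] [Algebra A A'] [Algebra R' A'] [Algebra R A']
  [IsScalarTower R A A'] [IsScalarTower R R' A']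

variable (R' A') in
/-- the base-changed presentation -/
noncomputable def presBC {n : ℕ} (α : MvPolynomial (Fin n) R →ₐ[R] A) :
    MvPolynomial (Fin n) R' →ₐ[R'] A' :=
  MvPolynomial.aeval (fun i => algebraMap A A' (α (MvPolynomial.X i)))

lemma presBC_comp_map {n : ℕ} (α : MvPolynomial (Fin n) R →ₐ[R] A) :
    (presBC R' A' α : MvPolynomial (Fin n) R' →+* A').comp (MvPolynomial.map (algebraMap R R')) =
      (algebraMap A A').comp (α : MvPolynomial (Fin n) R →+* A) := by
  apply MvPolynomial.ringHom_ext
  · intro r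
    simp only [RingHom.comp_apply, MvPolynomial.map_C, RingHom.coe_coe]
    rw [← MvPolynomial.algebraMap_eq, ← MvPolynomial.algebraMap_eq, AlgHom.commutes, AlgHom.commutes,
      ← IsScalarTower.algebraMap_apply, ← IsScalarTower.algebraMap_apply]
  · intro i
    simp [presBC]

variable [Algebra.IsPushout R A R' A']

set_option maxHeartbeats 1600000 in
/-- everything about the base-changed presentation -/
theorem presBC_main {n : ℕ} (α : MvPolynomial (Fin n) R →ₐ[R] A) (hα : Function.Surjective α) :
    Function.Surjective (presBC R' A' α) ∧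
    (Module.Flat R R' → ∀ (m : ℤ) (K : Dual.D A), DerCA.IsRelPseudoCoherentVia α m K →
      DerCA.IsRelPseudoCoherentVia (presBC R' A' α) m
        ((DRing.LBaseChange (algebraMap A A')).obj K)) ∧
    (Module.FaithfullyFlat R R' → ∀ (m : ℤ) (K : Dual.D A),
      DerCA.IsRelPseudoCoherentVia (presBC R' A' α) m
        ((DRing.LBaseChange (algebraMap A A')).obj K) → DerCA.IsRelPseudoCoherentVia α m K) := by
  letI i1 : Algebra (MvPolynomial (Fin n) R) A := (α : MvPolynomial (Fin n) R →+* A).toAlgebra
  letI i2 : Algebra (MvPolynomial (Fin n) R') A' :=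
    (presBC R' A' α : MvPolynomial (Fin n) R' →+* A').toAlgebra
  letI i3 : Algebra (MvPolynomial (Fin n) R) A' :=
    ((algebraMap A A').comp (α : MvPolynomial (Fin n) R →+* A)).toAlgebra
  haveI t1 : IsScalarTower (MvPolynomial (Fin n) R) A A' := .of_algebraMap_eq (fun _ => rfl)
  haveI t2 : IsScalarTower (MvPolynomial (Fin n) R) (MvPolynomial (Fin n) R') A' :=
    .of_algebraMap_eq (fun x => (RingHom.congr_fun (presBC_comp_map (R' := R') (A' := A') α) x).symm)
  haveI t3 : IsScalarTower R (MvPolynomial (Fin n) R) A :=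
    .of_algebraMap_eq (fun r => (α.commutes r).symm)
  haveI t4 : IsScalarTower R' (MvPolynomial (Fin n) R') A' :=
    .of_algebraMap_eq (fun r => ((presBC R' A' α).commutes r).symm)
  haveI t5 : IsScalarTower R (MvPolynomial (Fin n) R') A' := .of_algebraMap_eq (fun r => by
    rw [IsScalarTower.algebraMap_apply R R' A', IsScalarTower.algebraMap_apply R R' (MvPolynomial (Fin n) R'),
      ← IsScalarTower.algebraMap_apply R' (MvPolynomial (Fin n) R') A'])
  haveI p1 : Algebra.IsPushout (MvPolynomial (Fin n) R) A (MvPolynomial (Fin n) R') A' :=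
    (Algebra.IsPushout.comp_iff R (MvPolynomial (Fin n) R) R' (MvPolynomial (Fin n) R')).1 inferInstance
  haveI p2 : Algebra.IsPushout (MvPolynomial (Fin n) R) (MvPolynomial (Fin n) R') A A' := p1.symm
  have hflatA : Module.Flat R R' → Module.Flat A A' := fun _ =>
    Module.Flat.isBaseChange (R := R) (M := R') (S := A) A'
      (Algebra.IsPushout.out (R := R) (S := A) (R' := R') (S' := A'))
  have hflatP : Module.Flat R R' → Module.Flat (MvPolynomial (Fin n) R) (MvPolynomial (Fin n) R') :=
    fun _ => Module.Flat.isBaseChange (R := R) (M := R') (S := MvPolynomial (Fin n) R)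
      (MvPolynomial (Fin n) R')
      (Algebra.IsPushout.out (R := R) (S := MvPolynomial (Fin n) R) (R' := R')
        (S' := MvPolynomial (Fin n) R'))
  refine ⟨?_, ?_, ?_⟩
  · intro x
    show ∃ q, algebraMap (MvPolynomial (Fin n) R') A' q = x
    refine p2.out.inductionOn x _ ⟨0, map_zero _⟩ ?_ ?_ ?_
    · intro a
      obtain ⟨p, rfl⟩ := hα a
      exact ⟨algebraMap (MvPolynomial (Fin n) R) (MvPolynomial (Fin n) R') p,
        (IsScalarTower.algebraMap_apply (MvPolynomial (Fin n) R) (MvPolynomial (Fin n) R') A' p).symm⟩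
    · rintro s _ ⟨q, rfl⟩
      exact ⟨s * q, by rw [map_mul, Algebra.smul_def]⟩
    · rintro _ _ ⟨q, rfl⟩ ⟨q', rfl⟩
      exact ⟨q + q', map_add _ _ _⟩
  · intro hfl m K h
    haveI := hflatA hfl
    haveI := hflatP hfl
    exact pc_restrict_lbc (MvPolynomial (Fin n) R) (MvPolynomial (Fin n) R') A A' K m h
  · intro hff m K h
    haveI := hflatA inferInstance
    haveI : Module.FaithfullyFlat (MvPolynomial (Fin n) R) (MvPolynomial (Fin n) R') := by
      rw [← RingHom.faithfullyFlat_algebraMap_iff]
      exact RingHom.FaithfullyFlat.isStableUnderBaseChange R R' (MvPolynomial (Fin n) R)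
        (MvPolynomial (Fin n) R') ((RingHom.faithfullyFlat_algebraMap_iff).2 hff)
    exact pc_restrict_of_lbc (MvPolynomial (Fin n) R) (MvPolynomial (Fin n) R') A A' K m h

/-- **flat base change of relative pseudo-coherence** -/
theorem relpc_baseChange [Module.Flat R R'] (m : ℤ) (K : Dual.D A)
    (h : DerCA.IsRelPseudoCoherent R A m K) :
    DerCA.IsRelPseudoCoherent R' A' m ((DRing.LBaseChange (algebraMap A A')).obj K) := by
  obtain ⟨n, α, hα, h⟩ := h
  obtain ⟨h1, h2, -⟩ := presBC_main (R' := R') (A' := A') α hα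
  exact ⟨n, presBC R' A' α, h1, h2 inferInstance m K h⟩

/-- **faithfully flat descent of relative pseudo-coherence** -/
theorem relpc_descent [Module.FaithfullyFlat R R'] [Algebra.FiniteType R A] (m : ℤ) (K : Dual.D A)
    (h : DerCA.IsRelPseudoCoherent R' A' m ((DRing.LBaseChange (algebraMap A A')).obj K)) :
    DerCA.IsRelPseudoCoherent R A m K := by
  obtain ⟨n, α, hα⟩ := Groth.Agent.Helper5.PCHom.exists_presentation (R := R) (A := A)
  obtain ⟨h1, -, h3⟩ := presBC_main (R' := R') (A' := A') α hα
  exact ⟨n, α, hα, h3 inferInstance m K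
    ((Groth.Agent.Helper5.PCHom.relpc_iff_via (presBC R' A' α) h1 m _).1 h)⟩

end main

section cat

variable {R A R' A' : CommRingCat.{u}} (a : R ⟶ A) (ρ : R ⟶ R') (ρ' : A ⟶ A') (a' : R' ⟶ A')
  (hpo : IsPushout a ρ ρ' a')

include hpo in
/-- flat base change of relative pseudo-coherence, for a pushout square in `CommRingCat` -/
theorem relpc_baseChange_cat (hfl : ρ.hom.Flat) (m : ℤ) (K : Dual.D A)
    (h : letI := a.hom.toAlgebra; DerCA.IsRelPseudoCoherent R A m K) :
    letI := a'.hom.toAlgebra
    DerCA.IsRelPseudoCoherent R' A' m ((DRing.LBaseChange ρ'.hom).obj K) := by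
  letI i1 : Algebra R A := a.hom.toAlgebra
  letI i2 : Algebra R R' := ρ.hom.toAlgebra
  letI i3 : Algebra A A' := ρ'.hom.toAlgebra
  letI i4 : Algebra R' A' := a'.hom.toAlgebra
  letI i5 : Algebra R A' := (a ≫ ρ').hom.toAlgebra
  haveI t1 : IsScalarTower R A A' := .of_algebraMap_eq (fun _ => rfl)
  haveI t2 : IsScalarTower R R' A' := .of_algebraMap_eq (fun x =>
    congrArg (fun k => k.hom x) hpo.w)
  haveI : Algebra.IsPushout R A R' A' :=
    (CommRingCat.isPushout_iff_isPushout (R := R) (S := R') (R' := A) (S' := A')).1 hpo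
  haveI : Module.Flat R R' := hfl
  exact relpc_baseChange m K h

include hpo in
/-- faithfully flat descent of relative pseudo-coherence, for a pushout square in `CommRingCat` -/
theorem relpc_descent_cat (hfl : ρ.hom.FaithfullyFlat) (hft : a.hom.FiniteType) (m : ℤ) (K : Dual.D A)
    (h : letI := a'.hom.toAlgebra
      DerCA.IsRelPseudoCoherent R' A' m ((DRing.LBaseChange ρ'.hom).obj K)) :
    letI := a.hom.toAlgebra
    DerCA.IsRelPseudoCoherent R A m K := by
  letI i1 : Algebra R A := a.hom.toAlgebra
  letI i2 : Algebra R R' := ρ.hom.toAlgebra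
  letI i3 : Algebra A A' := ρ'.hom.toAlgebra
  letI i4 : Algebra R' A' := a'.hom.toAlgebra
  letI i5 : Algebra R A' := (a ≫ ρ').hom.toAlgebra
  haveI t1 : IsScalarTower R A A' := .of_algebraMap_eq (fun _ => rfl)
  haveI t2 : IsScalarTower R R' A' := .of_algebraMap_eq (fun x =>
    congrArg (fun k => k.hom x) hpo.w)
  haveI : Algebra.IsPushout R A R' A' :=
    (CommRingCat.isPushout_iff_isPushout (R := R) (S := R') (R' := A) (S' := A')).1 hpo
  haveI : Module.FaithfullyFlat R R' := hfl
  haveI : Algebra.FiniteType R A := hft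
  exact relpc_descent (R' := R') (A' := A') m K h

end cat

end Groth.Agent.Helper5.RelPCBC
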