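import Mathlib
import Groth.Agent.Lib.Helper5.DRing.FlatBC

set_option autoImplicit false
universe u
open CategoryTheory Limits

namespace Groth.Agent.Helper5.LocSq
open Groth.Agent.Helper5.FlatBC TensorProduct

section unitLoc
variable {R : Type u} [CommRing R] (g : R) (R' : Type u) [CommRing R'] [Algebra R R']
  [IsLocalization.Away g R']

/-- the unit of extension/restriction of scalars along a localisation is a localisation of
modules -/
theorem isLocalizedModule_unit (X : ModuleCat.{u} R) :
    IsLocalizedModule (Submonoid.powers g)
      (show ↑X →ₗ[R] ↑(N' R' X) from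
        ((ModuleCat.extendRestrictScalarsAdj (algebraMap R R')).unit.app X).hom) := by
  rw [isLocalizedModule_iff_isBaseChange (S := Submonoid.powers g) (A := R')]
  exact IsBaseChange.of_equiv (eqv R' X) (fun x => rfl)

end unitLoc

section square
variable {P A : Type u} [CommRing P] [CommRing A] [Algebra P A] (g : P) (f : A)
  (hfg : algebraMap P A g = f)

/-- the induced map on localisations -/
noncomputable def gam : Localization.Away g →+* Localization.Away f :=
  IsLocalization.Away.lift g (g := (algebraMap A (Localization.Away f)).comp (algebraMap P A)) (by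
    rw [RingHom.comp_apply, hfg]
    exact IsLocalization.Away.algebraMap_isUnit f)

/-- the diagonal of the square -/
noncomputable abbrev diag : P →+* Localization.Away f :=
  (algebraMap A (Localization.Away f)).comp (algebraMap P A)

theorem gam_comp : diag (P := P) f = (gam g f hfg).comp (algebraMap P (Localization.Away g)) :=
  (IsLocalization.Away.lift_comp g _).symm

/-- the first functor: restrict to `P`, then localise -/
noncomputable abbrev F1 : ModuleCat.{u} A ⥤ ModuleCat.{u} (Localization.Away g) :=
  ModuleCat.restrictScalars.{u} (algebraMap P A) ⋙
    ModuleCat.extendScalars.{u, u, u} (algebraMap P (Localization.Away g))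

/-- the second functor: localise, then restrict to `P_g` -/
noncomputable abbrev F2 : ModuleCat.{u} A ⥤ ModuleCat.{u} (Localization.Away g) :=
  ModuleCat.extendScalars.{u, u, u} (algebraMap A (Localization.Away f)) ⋙
    ModuleCat.restrictScalars.{u} (gam g f hfg)

/-- the map `M → A_f ⊗_A M`, as a map of `P`-modules into the restriction through `P_g` -/
noncomputable def phi (M : ModuleCat.{u} A) :
    (ModuleCat.restrictScalars.{u} (algebraMap P A)).obj M ⟶
      (ModuleCat.restrictScalars.{u} (algebraMap P (Localization.Away g))).obj
        ((F2 g f hfg).obj M) :=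
  (ModuleCat.restrictScalars.{u} (algebraMap P A)).map
      ((ModuleCat.extendRestrictScalarsAdj (algebraMap A (Localization.Away f))).unit.app M) ≫
    (ModuleCat.restrictScalarsComp'App (algebraMap P A) (algebraMap A (Localization.Away f))
      (diag f) rfl _).inv ≫
    (ModuleCat.restrictScalarsComp'App (algebraMap P (Localization.Away g)) (gam g f hfg)
      (diag f) (gam_comp g f hfg) _).hom

theorem phi_naturality {M N : ModuleCat.{u} A} (h : M ⟶ N) :
    (ModuleCat.restrictScalars.{u} (algebraMap P A)).map h ≫ phi g f hfg N =
      phi g f hfg M ≫ (ModuleCat.restrictScalars.{u} (algebraMap P (Localization.Away g))).map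
        ((F2 g f hfg).map h) := by
  ext x
  rfl

/-- `phi` is a localisation of `P`-modules at the powers of `g` -/
theorem isLocalizedModule_phi (M : ModuleCat.{u} A) :
    IsLocalizedModule (Submonoid.powers g) (phi g f hfg M).hom := by
  subst hfg
  letI : Module P ↑M := Module.compHom ↑M (algebraMap P A)
  haveI : IsScalarTower P A ↑M := IsScalarTower.of_algebraMap_smul (fun _ _ => rfl)
  letI : Module P ↑(N' (Localization.Away (algebraMap P A g)) M) :=
    Module.compHom ↑(N' (Localization.Away (algebraMap P A g)) M) (algebraMap P A)
  haveI : IsScalarTower P A ↑(N' (Localization.Away (algebraMap P A g)) M) :=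
    IsScalarTower.of_algebraMap_smul (fun _ _ => rfl)
  have h0 := isLocalizedModule_unit (algebraMap P A g) (Localization.Away (algebraMap P A g)) M
  have h1 := IsLocalizedModule.restrictScalars_powers (R := P) (A := A) g _ (h := h0)
  let e : ↑(N' (Localization.Away (algebraMap P A g)) M) ≃ₗ[P]
      ↑((ModuleCat.restrictScalars.{u} (algebraMap P (Localization.Away g))).obj
        ((F2 g (algebraMap P A g) rfl).obj M)) :=
    { toFun := fun x => x
      invFun := fun x => x
      left_inv := fun _ => rfl
      right_inv := fun _ => rfl
      map_add' := fun _ _ => rfl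
      map_smul' := fun p x => by
        have := RingHom.congr_fun (gam_comp g (algebraMap P A g) rfl) p
        show (algebraMap A (Localization.Away (algebraMap P A g)) (algebraMap P A p)) •
            (show ↑((ModuleCat.extendScalars.{u, u, u}
              (algebraMap A (Localization.Away (algebraMap P A g)))).obj M) from x) =
          (gam g (algebraMap P A g) rfl) (algebraMap P (Localization.Away g) p) •
            (show ↑((ModuleCat.extendScalars.{u, u, u}
              (algebraMap A (Localization.Away (algebraMap P A g)))).obj M) from x)
        rw [← RingHom.comp_apply, ← RingHom.comp_apply, ← this] }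
  haveI := h1
  have h2 := IsLocalizedModule.of_linearEquiv (Submonoid.powers g) _ e (hf := h1)
  exact h2

/-- the base change map `P_g ⊗_P M → A_f ⊗_A M` -/
noncomputable def tau : F1 (A := A) g ⟶ F2 g f hfg where
  app M := (ModuleCat.extendScalars.{u, u, u} (algebraMap P (Localization.Away g))).map
      (phi g f hfg M) ≫
    (ModuleCat.extendRestrictScalarsAdj (algebraMap P (Localization.Away g))).counit.app
      ((F2 g f hfg).obj M)
  naturality M N h := by
    dsimp only [Functor.comp_map]
    rw [← Functor.map_comp_assoc, phi_naturality, Functor.map_comp_assoc, Category.assoc]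
    congr 1
    exact (ModuleCat.extendRestrictScalarsAdj (algebraMap P (Localization.Away g))).counit.naturality
      ((F2 g f hfg).map h)

theorem unit_tau (M : ModuleCat.{u} A) :
    (ModuleCat.extendRestrictScalarsAdj (algebraMap P (Localization.Away g))).unit.app
        ((ModuleCat.restrictScalars.{u} (algebraMap P A)).obj M) ≫
      (ModuleCat.restrictScalars.{u} (algebraMap P (Localization.Away g))).map
        ((tau g f hfg).app M) = phi g f hfg M := by
  dsimp only [tau]
  rw [Functor.map_comp]
  have h1 := (ModuleCat.extendRestrictScalarsAdj (algebraMap P (Localization.Away g))).unit.naturality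
    (phi g f hfg M)
  dsimp only [Functor.id_obj, Functor.id_map, Functor.comp_obj, Functor.comp_map] at h1
  rw [← Category.assoc, ← h1, Category.assoc]
  have h2 := (ModuleCat.extendRestrictScalarsAdj
    (algebraMap P (Localization.Away g))).right_triangle_components ((F2 g f hfg).obj M)
  exact (congrArg (fun t => phi g f hfg M ≫ t) h2).trans (Category.comp_id _)

instance isIso_tau_app (M : ModuleCat.{u} A) : IsIso ((tau g f hfg).app M) := by
  have h₁ : IsLocalizedModule (Submonoid.powers g)
      ((ModuleCat.extendRestrictScalarsAdj (algebraMap P (Localization.Away g))).unit.app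
        ((ModuleCat.restrictScalars.{u} (algebraMap P A)).obj M)).hom :=
    isLocalizedModule_unit g (Localization.Away g) _
  have h₂ : IsLocalizedModule (Submonoid.powers g)
      ((ModuleCat.extendRestrictScalarsAdj (algebraMap P (Localization.Away g))).unit.app
          ((ModuleCat.restrictScalars.{u} (algebraMap P A)).obj M) ≫
        (ModuleCat.restrictScalars.{u} (algebraMap P (Localization.Away g))).map
          ((tau g f hfg).app M)).hom := by
    rw [unit_tau]
    exact isLocalizedModule_phi g f hfg M
  haveI := ModuleCat.isIso_of_isLocalizedModule_comp h₁ h₂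
  exact isIso_of_reflects_iso _ (ModuleCat.restrictScalars.{u} (algebraMap P (Localization.Away g)))

instance : IsIso (tau g f hfg) := NatIso.isIso_of_isIso_app _

/-- **base change along a localisation square**: `P_g ⊗_P M ≅ A_f ⊗_A M` -/
noncomputable def sqIso : F1 (A := A) g ≅ F2 g f hfg := asIso (tau g f hfg)

/-- on complexes -/
noncomputable def sqIsoCx (K : CochainComplex (ModuleCat.{u} A) ℤ) :
    ((F1 (A := A) g).mapHomologicalComplex (ComplexShape.up ℤ)).obj K ≅
      ((F2 g f hfg).mapHomologicalComplex (ComplexShape.up ℤ)).obj K :=
  (NatIso.mapHomologicalComplex (sqIso g f hfg) (ComplexShape.up ℤ)).app K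

end square

end Groth.Agent.Helper5.LocSq
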