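import Mathlib
import Groth.Agent.Lib.Helper5.DRing.RelPC3

set_option autoImplicit false
universe u
open CategoryTheory Limits DerivedCategory Pretriangulated
attribute [local instance] HasDerivedCategory.standard

namespace Groth.Agent.Helper5.PCHom
open Groth.Agent.Helper5.PCRes Groth.Agent.Helper5.PCDev Groth.Agent.Helper5.PCBuild
open Polynomial

section finfree
variable {S C : Type u} [CommRing S] [CommRing C] [Algebra S C]

/-- a finite free algebra is pseudo-coherent as a module -/
theorem allPC_of_finite_free [Module.Finite S C] [Module.Free S C] : AllPC (ModuleCat.of S C) := by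
  let b := Module.Free.chooseBasis S C
  let e : C ≃ₗ[S] (Fin _ → S) := (b.reindex (Fintype.equivFin _)).equivFun
  exact allPC_of_iso e.toModuleIso.symm (allPC_pi S allPC_self _)

theorem pchom_of_finite_free [Module.Finite S C] [Module.Free S C] : PCHom (algebraMap S C) :=
  pchom_iff_alg.2 allPC_of_finite_free

end finfree

section adjoin
variable {S : Type u} [CommRing S] (p : S[X]) (hp : p.Monic)

/-- the quotient map as a linear map to the restriction -/
noncomputable def mkLin :
    S[X] →ₗ[S[X]] ↑((ModuleCat.restrictScalars.{u} (AdjoinRoot.mk p)).obj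
      (ModuleCat.of (AdjoinRoot p) (AdjoinRoot p))) where
  toFun q := (AdjoinRoot.mk p q : AdjoinRoot p)
  map_add' q q' := by
    show (AdjoinRoot.mk p (q + q') : AdjoinRoot p) = AdjoinRoot.mk p q + AdjoinRoot.mk p q'
    exact map_add _ _ _
  map_smul' q q' := by
    show (AdjoinRoot.mk p (q * q') : AdjoinRoot p) = AdjoinRoot.mk p q * AdjoinRoot.mk p q'
    exact map_mul _ _ _

include hp in
theorem pchom_mk : PCHom (AdjoinRoot.mk p) := by
  let T : ShortComplex (ModuleCat.{u} S[X]) :=
    ShortComplex.mk (X₁ := ModuleCat.of S[X] S[X]) (X₂ := ModuleCat.of S[X] S[X])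
      (X₃ := (ModuleCat.restrictScalars.{u} (AdjoinRoot.mk p)).obj
        (ModuleCat.of (AdjoinRoot p) (AdjoinRoot p)))
      (ModuleCat.ofHom (LinearMap.mulLeft S[X] p))
      (ModuleCat.ofHom (X := ModuleCat.of S[X] S[X])
        (Y := (ModuleCat.restrictScalars.{u} (AdjoinRoot.mk p)).obj
          (ModuleCat.of (AdjoinRoot p) (AdjoinRoot p))) (mkLin p))
      (by
        ext
        show (AdjoinRoot.mk p (p * 1) : AdjoinRoot p) = 0
        simp)
  have hT : T.ShortExact := by
    refine ShortComplex.ShortExact.mk' ?_ ?_ ?_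
    · rw [ShortComplex.moduleCat_exact_iff_range_eq_ker]
      ext q
      show q ∈ LinearMap.range (LinearMap.mulLeft S[X] p) ↔ q ∈ LinearMap.ker (mkLin p)
      rw [LinearMap.mem_ker]
      show q ∈ LinearMap.range (LinearMap.mulLeft S[X] p) ↔ (AdjoinRoot.mk p q : AdjoinRoot p) = 0
      rw [AdjoinRoot.mk_eq_zero]
      constructor
      · rintro ⟨r, rfl⟩
        exact ⟨r, rfl⟩
      · rintro ⟨r, rfl⟩
        exact ⟨r, rfl⟩
    · rw [ModuleCat.mono_iff_injective]
      exact hp.isRegular.left
    · rw [ModuleCat.epi_iff_surjective]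
      intro y
      obtain ⟨q, hq⟩ := AdjoinRoot.mk_surjective (g := p) (show AdjoinRoot p from y)
      exact ⟨q, hq⟩
  exact allPC_of_shortExact₃ T hT allPC_self allPC_self

include hp in
theorem pchom_of : PCHom (AdjoinRoot.of p) := by
  have := hp.free_adjoinRoot
  have := hp.finite_adjoinRoot
  exact pchom_of_finite_free (S := S) (C := AdjoinRoot p)

end adjoin


section star
variable {S B' : Type u} [CommRing S] [CommRing B']

/-- (★) one integral variable -/
theorem pc_restrict_poly_iff (ψ : S[X] →+* B') (p : S[X]) (hp : p.Monic) (hψ : ψ p = 0)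
    (K : Dual.D B') (m : ℤ) :
    DRing.IsPseudoCoherent S[X] m ((DRing.restrictD ψ).obj K) ↔
      DRing.IsPseudoCoherent S m ((DRing.restrictD (ψ.comp Polynomial.C)).obj K) := by
  let ψ' : AdjoinRoot p →+* B' := Ideal.Quotient.lift (Ideal.span {p}) ψ (fun a ha => by
    obtain ⟨r, rfl⟩ := Ideal.mem_span_singleton'.1 ha
    rw [map_mul, hψ, mul_zero])
  have h1 : ψ = ψ'.comp (AdjoinRoot.mk p) := RingHom.ext fun x => rfl
  have h2 : ψ.comp Polynomial.C = ψ'.comp (AdjoinRoot.of p) := RingHom.ext fun x => rfl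
  have i1 := restrictDComp (AdjoinRoot.mk p) ψ' ψ h1 K
  have i2 := restrictDComp (AdjoinRoot.of p) ψ' (ψ.comp Polynomial.C) h2 K
  have e1 := pc_restrict_iff (AdjoinRoot.mk p) (pchom_mk p hp) ((DRing.restrictD ψ').obj K) m
  have e2 := pc_restrict_iff (AdjoinRoot.of p) (pchom_of p hp) ((DRing.restrictD ψ').obj K) m
  constructor
  · intro h
    exact Groth.Agent.S2087.pc_of_iso i2.symm (e2.1 (e1.2 (Groth.Agent.S2087.pc_of_iso i1 h)))
  · intro h
    exact Groth.Agent.S2087.pc_of_iso i1.symm (e1.1 (e2.2 (Groth.Agent.S2087.pc_of_iso i2 h)))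

end star


section starstar

theorem finSucc_symm_C_C {S : Type u} [CommRing S] (k : ℕ) (s : S) :
    (MvPolynomial.finSuccEquiv S k).symm (Polynomial.C (MvPolynomial.C s)) = MvPolynomial.C s := by
  rw [AlgEquiv.symm_apply_eq]
  simp [MvPolynomial.finSuccEquiv_apply]

theorem finSucc_symm_C_X {S : Type u} [CommRing S] (k : ℕ) (j : Fin k) :
    (MvPolynomial.finSuccEquiv S k).symm (Polynomial.C (MvPolynomial.X j)) =
      MvPolynomial.X j.succ := by
  rw [AlgEquiv.symm_apply_eq, MvPolynomial.finSuccEquiv_X_succ]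

theorem finSucc_symm_X {S : Type u} [CommRing S] (k : ℕ) :
    (MvPolynomial.finSuccEquiv S k).symm Polynomial.X = MvPolynomial.X 0 := by
  rw [AlgEquiv.symm_apply_eq, MvPolynomial.finSuccEquiv_X_zero]

/-- (★★) several integral variables -/
theorem pc_restrict_mv_iff : ∀ (k : ℕ) (S : Type u) [CommRing S] (B' : Type u) [CommRing B']
    (ψ : MvPolynomial (Fin k) S →+* B')
    (_ : ∀ j, ∃ p : S[X], p.Monic ∧
      Polynomial.eval₂ (ψ.comp MvPolynomial.C) (ψ (MvPolynomial.X j)) p = 0)
    (K : Dual.D B') (m : ℤ),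
    DRing.IsPseudoCoherent (MvPolynomial (Fin k) S) m ((DRing.restrictD ψ).obj K) ↔
      DRing.IsPseudoCoherent S m ((DRing.restrictD (ψ.comp MvPolynomial.C)).obj K) := by
  intro k
  induction k with
  | zero =>
    intro S _ B' _ ψ _ K m
    have hC : PCHom (MvPolynomial.C : S →+* MvPolynomial (Fin 0) S) := by
      rw [← MvPolynomial.isEmptyRingEquiv_symm_toRingHom]
      exact pchom_equiv _
    have e1 := pc_restrict_iff _ hC ((DRing.restrictD ψ).obj K) m
    have i1 := restrictDComp (MvPolynomial.C : S →+* MvPolynomial (Fin 0) S) ψ _ rfl K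
    exact ⟨fun h => Groth.Agent.S2087.pc_of_iso i1.symm (e1.1 h),
      fun h => e1.2 (Groth.Agent.S2087.pc_of_iso i1 h)⟩
  | succ k ih =>
    intro S _ B' _ ψ hint K m
    let e := MvPolynomial.finSuccEquiv S k
    let ψ' : (MvPolynomial (Fin k) S)[X] →+* B' := ψ.comp e.symm.toRingEquiv.toRingHom
    have hψ : ψ = ψ'.comp e.toRingEquiv.toRingHom := by
      ext x <;> simp [ψ', e]
    -- step A
    have eA := pc_restrict_iff _ (pchom_equiv e.toRingEquiv) ((DRing.restrictD ψ').obj K) m
    have iA := restrictDComp e.toRingEquiv.toRingHom ψ' ψ hψ K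
    -- step B
    obtain ⟨p₀, hp₀, hp₀'⟩ := hint 0
    have hcomp : ψ'.comp (Polynomial.mapRingHom (MvPolynomial.C : S →+* MvPolynomial (Fin k) S)) =
        Polynomial.eval₂RingHom (ψ.comp MvPolynomial.C) (ψ (MvPolynomial.X 0)) := by
      apply Polynomial.ringHom_ext
      · intro s
        simp [ψ', e, finSucc_symm_C_C]
      · simp [ψ', e, finSucc_symm_X]
    have hzero : ψ' (p₀.map (MvPolynomial.C : S →+* MvPolynomial (Fin k) S)) = 0 := by
      have := congrArg (fun f => f p₀) hcomp
      simp only [RingHom.comp_apply, Polynomial.coe_mapRingHom, Polynomial.coe_eval₂RingHom] at this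
      rw [this]
      exact hp₀'
    have eB := pc_restrict_poly_iff ψ' _ (hp₀.map MvPolynomial.C) hzero K m
    -- step C
    have hC : (ψ'.comp Polynomial.C).comp MvPolynomial.C = ψ.comp MvPolynomial.C := by
      ext s
      simp [ψ', e, finSucc_symm_C_C]
    have hX : ∀ j : Fin k, (ψ'.comp Polynomial.C) (MvPolynomial.X j) = ψ (MvPolynomial.X j.succ) := by
      intro j
      simp [ψ', e, finSucc_symm_C_X]
    have eC := ih S B' (ψ'.comp Polynomial.C) (fun j => by
      obtain ⟨p, hp, hp'⟩ := hint j.succ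
      refine ⟨p, hp, ?_⟩
      rw [hC, hX]
      exact hp') K m
    rw [hC] at eC
    constructor
    · intro h
      exact eC.1 (eB.1 (eA.2 (Groth.Agent.S2087.pc_of_iso iA h)))
    · intro h
      exact Groth.Agent.S2087.pc_of_iso iA.symm (eA.1 (eB.2 (eC.2 h)))

end starstar


section s6984
variable {R A B : Type u} [CommRing R] [CommRing A] [CommRing B] [Algebra R A] [Algebra A B]
  [Algebra R B] [IsScalarTower R A B]

theorem relpc_finite_iff [Algebra.FiniteType R A] [Module.Finite A B] (K : Dual.D B) (m : ℤ) :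
    DerCA.IsRelPseudoCoherent R B m K ↔
      DerCA.IsRelPseudoCoherent R A m ((DRing.restrictD (algebraMap A B)).obj K) := by
  obtain ⟨n, α, hα⟩ := exists_presentation (R := R) (A := A)
  obtain ⟨k, b, hb⟩ := Module.Finite.exists_fin (R := A) (M := B)
  let φ₀ : MvPolynomial (Fin n) R →+* B := (algebraMap A B).comp (α : MvPolynomial (Fin n) R →+* A)
  let ψ : MvPolynomial (Fin k) (MvPolynomial (Fin n) R) →+* B := MvPolynomial.eval₂Hom φ₀ b
  have hψC : ψ.comp MvPolynomial.C = φ₀ := by
    ext x <;> simp [ψ]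
  have hψX : ∀ j, ψ (MvPolynomial.X j) = b j := fun j => by simp [ψ]
  have hint : ∀ j, ∃ p : (MvPolynomial (Fin n) R)[X], p.Monic ∧
      Polynomial.eval₂ (ψ.comp MvPolynomial.C) (ψ (MvPolynomial.X j)) p = 0 := by
    intro j
    obtain ⟨q, hq, hq'⟩ := Algebra.IsIntegral.isIntegral (R := A) (b j)
    obtain ⟨p, hp1, -, hp3⟩ := Polynomial.lifts_and_natDegree_eq_and_monic
      (f := (α : MvPolynomial (Fin n) R →+* A))
      ((Polynomial.lifts_iff_coeff_lifts q).mpr fun i => hα (q.coeff i)) hq
    refine ⟨p, hp3, ?_⟩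
    rw [hψC, hψX, ← hq', ← hp1, Polynomial.eval₂_map]
  -- the `R`-algebra structure
  let ψR : MvPolynomial (Fin k) (MvPolynomial (Fin n) R) →ₐ[R] B :=
    { ψ with
      commutes' := fun r => by
        show ψ (MvPolynomial.C (MvPolynomial.C r)) = algebraMap R B r
        have : ψ (MvPolynomial.C (MvPolynomial.C r)) = φ₀ (MvPolynomial.C r) := by
          rw [← hψC]; rfl
        rw [this]
        show algebraMap A B (α (MvPolynomial.C r)) = algebraMap R B r
        rw [← MvPolynomial.algebraMap_eq, α.commutes, ← IsScalarTower.algebraMap_apply] }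
  have hψs : Function.Surjective ψ := by
    intro x
    have hx : x ∈ Submodule.span A (Set.range b) := by rw [hb]; trivial
    obtain ⟨c, rfl⟩ := (Submodule.mem_span_range_iff_exists_fun A).1 hx
    choose p hp using fun j => hα (c j)
    refine ⟨∑ j, MvPolynomial.C (p j) * MvPolynomial.X j, ?_⟩
    rw [map_sum]
    refine Finset.sum_congr rfl (fun j _ => ?_)
    rw [map_mul, hψX]
    have : ψ (MvPolynomial.C (p j)) = φ₀ (p j) := by rw [← hψC]; rfl
    rw [this]
    show algebraMap A B (α (p j)) * b j = c j • b j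
    rw [hp, Algebra.smul_def]
  let e₂ : MvPolynomial (Fin (k + n)) R ≃ₐ[R] MvPolynomial (Fin k) (MvPolynomial (Fin n) R) :=
    (MvPolynomial.renameEquiv R finSumFinEquiv.symm).trans (MvPolynomial.sumAlgEquiv R (Fin k) (Fin n))
  let γ : MvPolynomial (Fin (k + n)) R →ₐ[R] B := ψR.comp e₂.toAlgHom
  have hγ : Function.Surjective γ := hψs.comp e₂.surjective
  have hpe : PCHom (e₂.toRingEquiv.toRingHom) := pchom_equiv _
  rw [relpc_iff_via γ hγ, relpc_iff_via α hα]
  unfold DerCA.IsRelPseudoCoherentVia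
  have e1 := pc_restrict_iff _ hpe ((DRing.restrictD ψ).obj K) m
  have i1 := restrictDComp e₂.toRingEquiv.toRingHom ψ (γ : MvPolynomial (Fin (k + n)) R →+* B) rfl K
  have e2 := pc_restrict_mv_iff k _ B ψ hint K m
  rw [hψC] at e2
  have i2 := restrictDComp (α : MvPolynomial (Fin n) R →+* A) (algebraMap A B) φ₀ rfl K
  constructor
  · intro h
    exact Groth.Agent.S2087.pc_of_iso i2 (e2.1 (e1.2 (Groth.Agent.S2087.pc_of_iso i1 h)))
  · intro h
    exact Groth.Agent.S2087.pc_of_iso i1.symm (e1.1 (e2.2 (Groth.Agent.S2087.pc_of_iso i2.symm h)))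

/-- S6984 -/
theorem s6984 [Algebra.FiniteType R A] [Module.Finite A B] (K : Dual.D B) (m : ℤ) :
    (DerCA.IsRelPseudoCoherent R B m K ↔
      DerCA.IsRelPseudoCoherent R A m ((DRing.restrictD (algebraMap A B)).obj K)) ∧
      (DerCA.IsRelPseudoCoherentAll R B K ↔
        DerCA.IsRelPseudoCoherentAll R A ((DRing.restrictD (algebraMap A B)).obj K)) :=
  ⟨relpc_finite_iff K m, ⟨fun h m' => (relpc_finite_iff K m').1 (h m'),
    fun h m' => (relpc_finite_iff K m').2 (h m')⟩⟩

end s6984

end Groth.Agent.Helper5.PCHom
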