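import Mathlib
import Groth.Agent.Lib.Helper5.DRing.RelPC4

/-!
# Localisation at one element is a pseudo-coherent ring map out of a polynomial ring (helper5)
-/

set_option autoImplicit false
universe u
open CategoryTheory Limits DerivedCategory Pretriangulated
attribute [local instance] HasDerivedCategory.standard

namespace Groth.Agent.Helper5.PCHom
open Groth.Agent.Helper5.PCRes Groth.Agent.Helper5.PCDev Groth.Agent.Helper5.PCBuild
open Polynomial

section adjoin'
variable {S : Type u} [CommRing S] (p : S[X])

/-- quotient by a regular polynomial is a pseudo-coherent ring map -/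
theorem pchom_mk_of_regular (hp : IsLeftRegular p) : PCHom (AdjoinRoot.mk p) := by
  let T : ShortComplex (ModuleCat.{u} S[X]) :=
    ShortComplex.mk (X₁ := ModuleCat.of S[X] S[X]) (X₂ := ModuleCat.of S[X] S[X])
      (X₃ := (ModuleCat.restrictScalars.{u} (AdjoinRoot.mk p)).obj
        (ModuleCat.of (AdjoinRoot p) (AdjoinRoot p)))
      (ModuleCat.ofHom (LinearMap.mulLeft S[X] p))
      (ModuleCat.ofHom (X := ModuleCat.of S[X] S[X])
        (Y := (ModuleCat.restrictScalars.{u} (AdjoinRoot.mk p)).obj
          (ModuleCat.of (AdjoinRoot p) (AdjoinRoot p))) (mkLin p))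
      (by
        ext
        show (AdjoinRoot.mk p (p * 1) : AdjoinRoot p) = 0
        simp)
  have hT : T.ShortExact := by
    refine ShortComplex.ShortExact.mk' ?_ ?_ ?_
    · rw [ShortComplex.moduleCat_exact_iff_range_eq_ker]
      ext q
      show q ∈ LinearMap.range (LinearMap.mulLeft S[X] p) ↔ q ∈ LinearMap.ker (mkLin p)
      rw [LinearMap.mem_ker]
      show q ∈ LinearMap.range (LinearMap.mulLeft S[X] p) ↔ (AdjoinRoot.mk p q : AdjoinRoot p) = 0
      rw [AdjoinRoot.mk_eq_zero]
      constructor
      · rintro ⟨r, rfl⟩
        exact ⟨r, rfl⟩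
      · rintro ⟨r, rfl⟩
        exact ⟨r, rfl⟩
    · rw [ModuleCat.mono_iff_injective]
      exact hp
    · rw [ModuleCat.epi_iff_surjective]
      intro y
      obtain ⟨q, hq⟩ := AdjoinRoot.mk_surjective (g := p) (show AdjoinRoot p from y)
      exact ⟨q, hq⟩
  exact allPC_of_shortExact₃ T hT allPC_self allPC_self

/-- `g X - 1` is a nonzerodivisor of `S[X]` -/
theorem isLeftRegular_C_mul_X_sub_one (g : S) : IsLeftRegular (C g * X - 1 : S[X]) := by
  rw [isLeftRegular_iff_right_eq_zero_of_mul]
  intro q hq
  have hk : ∀ k : ℕ, q.coeff k = 0 := by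
    intro k
    induction k with
    | zero =>
      have := congrArg (fun r => Polynomial.coeff r 0) hq
      simp only [sub_mul, one_mul, mul_assoc, Polynomial.coeff_sub, Polynomial.coeff_C_mul,
        Polynomial.coeff_X_mul_zero, mul_zero, zero_sub, Polynomial.coeff_zero, neg_eq_zero] at this
      exact this
    | succ k ih =>
      have := congrArg (fun r => Polynomial.coeff r (k + 1)) hq
      simp only [sub_mul, one_mul, mul_assoc, Polynomial.coeff_sub, Polynomial.coeff_C_mul,
        Polynomial.coeff_X_mul, ih, mul_zero, zero_sub, Polynomial.coeff_zero, neg_eq_zero] at this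
      exact this
  ext k
  simp [hk k]

/-- evaluation `S[X] → S_g`, `X ↦ 1/g` -/
noncomputable def evalAway (g : S) : S[X] →+* Localization.Away g :=
  Polynomial.eval₂RingHom (algebraMap S (Localization.Away g)) (IsLocalization.Away.invSelf g)

theorem evalAway_C (g s : S) : evalAway g (C s) = algebraMap S (Localization.Away g) s := by
  simp [evalAway]

theorem evalAway_X (g : S) : evalAway g X = IsLocalization.Away.invSelf g := by
  simp [evalAway]

theorem evalAway_eq (g : S) :
    evalAway g = ((Localization.awayEquivAdjoin g).symm.toRingEquiv.toRingHom).comp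
      (AdjoinRoot.mk (C g * X - 1)) := by
  apply Polynomial.ringHom_ext
  · intro s
    rw [evalAway_C]
    simp [Localization.awayEquivAdjoin]
  · rw [evalAway_X]
    simp [Localization.awayEquivAdjoin]

theorem evalAway_surjective (g : S) : Function.Surjective (evalAway g) := by
  rw [evalAway_eq]
  exact (Localization.awayEquivAdjoin g).symm.surjective.comp AdjoinRoot.mk_surjective

/-- **`S[X] → S_g` is a pseudo-coherent ring map** -/
theorem pchom_evalAway (g : S) : PCHom (evalAway g) :=
  pchom_comp (AdjoinRoot.mk (C g * X - 1)) _ _ (evalAway_eq g)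
    (pchom_mk_of_regular _ (isLeftRegular_C_mul_X_sub_one g))
    (pchom_equiv (Localization.awayEquivAdjoin g).symm.toRingEquiv)

end adjoin'

end Groth.Agent.Helper5.PCHom
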