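import Mathlib
import Groth.Agent.Lib.Helper5.DRing.RelPC5
import Groth.Agent.Lib.Helper5.DRing.LocSq
import Groth.Agent.S2087

/-!
# Relative pseudo-coherence and localisation (helper5)
-/

set_option autoImplicit false
universe u
open CategoryTheory Limits DerivedCategory Pretriangulated
attribute [local instance] HasDerivedCategory.standard

namespace Groth.Agent.Helper5.PCHom
open Groth.Agent.Helper5.PCRes Groth.Agent.Helper5.PCDev Groth.Agent.Helper5.PCBuild
open Groth.Agent.Helper5.FlatBC Groth.Agent.Helper5.LocSq

section loc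
variable {R A : Type u} [CommRing R] [CommRing A] [Algebra R A] {n : ℕ}

/-- the induced map of localisations is surjective -/
theorem gam_surjective {P : Type u} [CommRing P] [Algebra P A]
    (hα : Function.Surjective (algebraMap P A)) (g : P) (f : A) (hfg : algebraMap P A g = f) :
    Function.Surjective (gam g f hfg) := by
  subst hfg
  intro y
  obtain ⟨k, a, h⟩ := IsLocalization.Away.surj (algebraMap P A g) y
  obtain ⟨p, rfl⟩ := hα a
  have hc : ∀ s : P, gam g (algebraMap P A g) rfl (algebraMap P (Localization.Away g) s) =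
      algebraMap A (Localization.Away (algebraMap P A g)) (algebraMap P A s) := fun s =>
    (RingHom.congr_fun (gam_comp g (algebraMap P A g) rfl) s).symm
  have hu : gam g (algebraMap P A g) rfl (IsLocalization.Away.invSelf g) *
      algebraMap A (Localization.Away (algebraMap P A g)) (algebraMap P A g) = 1 := by
    rw [← hc, ← map_mul, mul_comm, IsLocalization.Away.mul_invSelf, map_one]
  refine ⟨algebraMap P (Localization.Away g) p * IsLocalization.Away.invSelf g ^ k, ?_⟩
  apply (IsLocalization.Away.algebraMap_pow_isUnit
    (S := Localization.Away (algebraMap P A g)) (algebraMap P A g) k).mul_left_injective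
  show _ * _ = y * _
  rw [h, map_mul, map_pow, hc, mul_assoc, ← mul_pow, hu, one_pow, mul_one]

variable (α : MvPolynomial (Fin n) R →ₐ[R] A)

/-- the chart of the localisation `A_f` obtained from a chart `α` of `A` and a lift `g` of `f`:
the new variable goes to `1/f` -/
noncomputable def chartAway (g : MvPolynomial (Fin n) R) (f : A) (hfg : α g = f) :
    MvPolynomial (Fin (n + 1)) R →ₐ[R] Localization.Away f :=
  letI : Algebra (MvPolynomial (Fin n) R) A := (α : MvPolynomial (Fin n) R →+* A).toAlgebra
  { toRingHom := ((gam g f hfg).comp (evalAway g)).comp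
      ((MvPolynomial.finSuccEquiv R n).toRingEquiv.toRingHom)
    commutes' := fun r => by
      show gam g f hfg (evalAway g (MvPolynomial.finSuccEquiv R n (algebraMap R _ r))) = _
      rw [AlgEquiv.commutes, Polynomial.algebraMap_apply, evalAway_C]
      have hc : gam g f hfg (algebraMap _ (Localization.Away g)
          (algebraMap R (MvPolynomial (Fin n) R) r)) =
          algebraMap A (Localization.Away f) (algebraMap (MvPolynomial (Fin n) R) A
            (algebraMap R (MvPolynomial (Fin n) R) r)) :=
        (RingHom.congr_fun (gam_comp g f hfg) (algebraMap R (MvPolynomial (Fin n) R) r)).symm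
      rw [hc]
      show algebraMap A (Localization.Away f) (α (algebraMap R _ r)) = _
      rw [AlgHom.commutes, ← IsScalarTower.algebraMap_apply] }

theorem chartAway_surjective (hα : Function.Surjective α) (g : MvPolynomial (Fin n) R) (f : A)
    (hfg : α g = f) : Function.Surjective (chartAway α g f hfg) := by
  letI : Algebra (MvPolynomial (Fin n) R) A := (α : MvPolynomial (Fin n) R →+* A).toAlgebra
  have h1 : Function.Surjective (gam g f hfg) := gam_surjective hα g f hfg
  exact (h1.comp (evalAway_surjective g)).comp (MvPolynomial.finSuccEquiv R n).surjective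

/-- **key equivalence**: the localisation `K_f` is `m`-pseudo-coherent relative to `R` iff the
localisation at `g` of the restriction of `K` to the polynomial ring is `m`-pseudo-coherent -/
theorem pc_away_iff (hα : Function.Surjective α) (K : DRing.Cx A) (m : ℤ)
    (g : MvPolynomial (Fin n) R) (f : A) (hfg : α g = f) :
    DRing.IsPseudoCoherent (Localization.Away g) m
        (DRing.toD ((Ec (Localization.Away g)).obj
          (((ModuleCat.restrictScalars.{u} (α : MvPolynomial (Fin n) R →+* A)).mapHomologicalComplex
            (ComplexShape.up ℤ)).obj K))) ↔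
      DerCA.IsRelPseudoCoherent R (Localization.Away f) m
        (DRing.toD (((ModuleCat.extendScalars.{u, u, u}
          (algebraMap A (Localization.Away f))).mapHomologicalComplex (ComplexShape.up ℤ)).obj K)) := by
  letI : Algebra (MvPolynomial (Fin n) R) A := (α : MvPolynomial (Fin n) R →+* A).toAlgebra
  have hfg' : algebraMap (MvPolynomial (Fin n) R) A g = f := hfg
  let γ := gam g f hfg'
  let L : Dual.D (Localization.Away f) :=
    DRing.toD (((ModuleCat.extendScalars.{u, u, u}
      (algebraMap A (Localization.Away f))).mapHomologicalComplex (ComplexShape.up ℤ)).obj K)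
  let σ : MvPolynomial (Fin (n + 1)) R ≃+* Polynomial (MvPolynomial (Fin n) R) :=
    (MvPolynomial.finSuccEquiv R n).toRingEquiv
  have i1 : DRing.toD ((Ec (Localization.Away g)).obj
      (((ModuleCat.restrictScalars.{u} (α : MvPolynomial (Fin n) R →+* A)).mapHomologicalComplex
        (ComplexShape.up ℤ)).obj K)) ≅ (DRing.restrictD γ).obj L :=
    Q.mapIso (sqIsoCx g f hfg' K) ≪≫
      ((ModuleCat.restrictScalars.{u} γ).mapDerivedCategoryFactors.app
        (((ModuleCat.extendScalars.{u, u, u}
          (algebraMap A (Localization.Away f))).mapHomologicalComplex (ComplexShape.up ℤ)).obj K)).symm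
  have e1 := pc_restrict_iff (evalAway g) (pchom_evalAway g) ((DRing.restrictD γ).obj L) m
  have c1 := restrictDComp (evalAway g) γ (γ.comp (evalAway g)) rfl L
  have e2 := pc_restrict_iff σ.toRingHom (pchom_equiv σ)
    ((DRing.restrictD (γ.comp (evalAway g))).obj L) m
  have c2 := restrictDComp σ.toRingHom (γ.comp (evalAway g))
    ((γ.comp (evalAway g)).comp σ.toRingHom) rfl L
  have e3 := relpc_iff_via (chartAway α g f hfg) (chartAway_surjective α hα g f hfg) m L
  constructor
  · intro h
    refine e3.2 ?_
    have h1 := Groth.Agent.S2087.pc_of_iso i1 h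
    have h2 := Groth.Agent.S2087.pc_of_iso c1.symm (e1.1 h1)
    exact Groth.Agent.S2087.pc_of_iso c2.symm (e2.1 h2)
  · intro h
    have h3 : DRing.IsPseudoCoherent _ m
        ((DRing.restrictD ((γ.comp (evalAway g)).comp σ.toRingHom)).obj L) := e3.1 h
    have h2 := e2.2 (Groth.Agent.S2087.pc_of_iso c2 h3)
    have h1 := e1.2 (Groth.Agent.S2087.pc_of_iso c1 h2)
    exact Groth.Agent.S2087.pc_of_iso i1.symm h1

/-- localising at an element of the kernel kills every module coming from `A` -/
theorem isZero_Ef_of_ker (g₀ : MvPolynomial (Fin n) R) (h₀ : α g₀ = 0) (M : ModuleCat.{u} A) :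
    IsZero ((Ef (Localization.Away g₀)).obj
      ((ModuleCat.restrictScalars.{u} (α : MvPolynomial (Fin n) R →+* A)).obj M)) := by
  have hl := isLocalizedModule_unit g₀ (Localization.Away g₀)
    ((ModuleCat.restrictScalars.{u} (α : MvPolynomial (Fin n) R →+* A)).obj M)
  have hs : Subsingleton ↑(N' (Localization.Away g₀)
      ((ModuleCat.restrictScalars.{u} (α : MvPolynomial (Fin n) R →+* A)).obj M)) := by
    let ι : ↑((ModuleCat.restrictScalars.{u} (α : MvPolynomial (Fin n) R →+* A)).obj M) →ₗ[_]
        ↑(N' (Localization.Away g₀)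
          ((ModuleCat.restrictScalars.{u} (α : MvPolynomial (Fin n) R →+* A)).obj M)) :=
      ((ModuleCat.extendRestrictScalarsAdj (algebraMap (MvPolynomial (Fin n) R)
        (Localization.Away g₀))).unit.app _).hom
    haveI : IsLocalizedModule (Submonoid.powers g₀) ι := hl
    rw [IsLocalizedModule.subsingleton_iff (Submonoid.powers g₀) ι]
    intro x
    refine ⟨g₀, Submonoid.mem_powers g₀, ?_⟩
    show (α g₀) • (show ↑M from x) = 0
    rw [h₀, zero_smul]
  exact @ModuleCat.isZero_of_subsingleton _ _ _ hs

/-- the general form of the local-to-global step -/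
theorem relpc_of_cover (hα : Function.Surjective α) (K : DRing.Cx A) (m : ℤ) {r : ℕ}
    (f : Fin r → A) (G : Fin (r + 1) → MvPolynomial (Fin n) R) (h₀ : α (G 0) = 0)
    (hs : ∀ i : Fin r, α (G i.succ) = f i) (hG : Ideal.span (Set.range G) = ⊤)
    (h : ∀ i, DerCA.IsRelPseudoCoherent R (Localization.Away (f i)) m
      (DRing.toD (((ModuleCat.extendScalars.{u, u, u}
        (algebraMap A (Localization.Away (f i)))).mapHomologicalComplex (ComplexShape.up ℤ)).obj K))) :
    DerCA.IsRelPseudoCoherent R A m (DRing.toD K) := by
  refine (relpc_iff_via α hα m (DRing.toD K)).2 ?_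
  refine Groth.Agent.S2087.pc_of_iso
    ((ModuleCat.restrictScalars.{u}
      (α : MvPolynomial (Fin n) R →+* A)).mapDerivedCategoryFactors.app K).symm ?_
  refine Groth.Agent.S2087.result G hG _ m ?_
  refine Fin.cases ?_ (fun i => ?_)
  · refine Groth.Agent.S2087.pc_of_vanish _ m (fun j _ => ?_)
    exact ShortComplex.isZero_homology_of_isZero_X₂ _ (isZero_Ef_of_ker α (G 0) h₀ (K.X j))
  · exact (pc_away_iff α hα K m (G i.succ) (f i) (hs i)).2 (h i)

/-- **S6987** -/
theorem s6987 [Algebra.FiniteType R A] (K : DRing.Cx A) (m : ℤ) {r : ℕ} (f : Fin r → A)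
    (hf : Ideal.span (Set.range f) = ⊤) :
    DerCA.IsRelPseudoCoherent R A m (DRing.toD K) ↔
      ∀ i, DerCA.IsRelPseudoCoherent R (Localization.Away (f i)) m
        (DRing.toD (((ModuleCat.extendScalars.{u, u, u}
          (algebraMap A (Localization.Away (f i)))).mapHomologicalComplex
            (ComplexShape.up ℤ)).obj K)) := by
  obtain ⟨n, α, hα⟩ := exists_presentation (R := R) (A := A)
  choose g hg using fun i => hα (f i)
  constructor
  · intro h i
    have h1 := (relpc_iff_via α hα m (DRing.toD K)).1 h
    have h2 := Groth.Agent.S2087.pc_of_iso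
      ((ModuleCat.restrictScalars.{u}
        (α : MvPolynomial (Fin n) R →+* A)).mapDerivedCategoryFactors.app K) h1
    exact (pc_away_iff α hα K m (g i) (f i) (hg i)).1
      (pc_baseChange (Localization.Away (g i)) _ m h2)
  · intro h
    have h1 : (1 : A) ∈ Ideal.span (Set.range f) := by rw [hf]; trivial
    obtain ⟨c, hc⟩ := Ideal.mem_span_range_iff_exists_fun.1 h1
    choose b hb using fun i => hα (c i)
    let g₀ : MvPolynomial (Fin n) R := 1 - ∑ i, b i * g i
    have h₀ : α g₀ = 0 := by
      simp only [g₀, map_sub, map_one, map_sum, map_mul, hb, hg, hc, sub_self]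
    let G : Fin (r + 1) → MvPolynomial (Fin n) R := Fin.cons g₀ g
    have hG : Ideal.span (Set.range G) = ⊤ := by
      rw [Ideal.eq_top_iff_one]
      have e1 : (1 : MvPolynomial (Fin n) R) = g₀ + ∑ i, b i * g i := by simp [g₀]
      rw [e1]
      refine Ideal.add_mem _ (Ideal.subset_span ⟨0, rfl⟩) (Ideal.sum_mem _ (fun i _ => ?_))
      exact Ideal.mul_mem_left _ _ (Ideal.subset_span ⟨i.succ, by simp [G]⟩)
    exact relpc_of_cover α hα K m f G (by simpa [G] using h₀) (fun i => by simpa [G] using hg i) hG h

end loc

end Groth.Agent.Helper5.PCHom
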