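import Mathlib
import Groth.Agent.Lib.Helper5.DRing.RelPC6

/-!
# Relative pseudo-coherence: localisation of source and base (helper5)
-/

set_option autoImplicit false
universe u
open CategoryTheory Limits DerivedCategory Pretriangulated
attribute [local instance] HasDerivedCategory.standard

namespace Groth.Agent.Helper5.PCHom
open Groth.Agent.Helper5.PCRes Groth.Agent.Helper5.PCDev Groth.Agent.Helper5.PCBuild
open Groth.Agent.Helper5.FlatBC Groth.Agent.Helper5.LocSq

section away1
variable {R : Type u} [CommRing R] (f : R)

/-- polynomials in one variable, two ways -/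
noncomputable def polyEquiv1 : MvPolynomial (Fin 1) R ≃ₐ[R] Polynomial R :=
  (MvPolynomial.finSuccEquiv R 0).trans
    (Polynomial.mapAlgEquiv (MvPolynomial.isEmptyAlgEquiv R (Fin 0)))

/-- the chart `R[x] → R_f`, `x ↦ 1/f` -/
noncomputable def chartAway1 : MvPolynomial (Fin 1) R →ₐ[R] Localization.Away f :=
  (Polynomial.aeval (IsLocalization.Away.invSelf f)).comp (polyEquiv1 (R := R)).toAlgHom

theorem chartAway1_eq : (chartAway1 f : MvPolynomial (Fin 1) R →+* Localization.Away f) =
    (evalAway f).comp (polyEquiv1 (R := R)).toRingEquiv.toRingHom :=
  RingHom.ext fun x => by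
    simp [chartAway1, evalAway, Polynomial.aeval_def]

theorem chartAway1_surjective : Function.Surjective (chartAway1 f) := by
  have h : Function.Surjective
      ((evalAway f).comp (polyEquiv1 (R := R)).toRingEquiv.toRingHom) :=
    (evalAway_surjective f).comp (polyEquiv1 (R := R)).surjective
  rw [← chartAway1_eq] at h
  exact h

theorem pchom_chartAway1 :
    PCHom (chartAway1 f : MvPolynomial (Fin 1) R →+* Localization.Away f) :=
  pchom_comp _ (evalAway f) _ (chartAway1_eq f) (pchom_equiv (polyEquiv1 (R := R)).toRingEquiv)
    (pchom_evalAway f)

/-- `R_f` is pseudo-coherent relative to `R` -/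
theorem relpcAll_away :
    DerCA.IsRelPseudoCoherentModuleAll R (Localization.Away f) (Localization.Away f) :=
  fun m => (relpcModule_iff_via (chartAway1 f) (chartAway1_surjective f) m
    (ModuleCat.of (Localization.Away f) (Localization.Away f))).2 (pchom_chartAway1 f m)

end away1

section loc
variable {R A : Type u} [CommRing R] [CommRing A] [Algebra R A]

/-- relative pseudo-coherence passes to localisations of the source -/
theorem relpc_away [Algebra.FiniteType R A] (K : DRing.Cx A) (m : ℤ) (g : A)
    (h : DerCA.IsRelPseudoCoherent R A m (DRing.toD K)) :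
    DerCA.IsRelPseudoCoherent R (Localization.Away g) m
      (DRing.toD (((ModuleCat.extendScalars.{u, u, u}
        (algebraMap A (Localization.Away g))).mapHomologicalComplex (ComplexShape.up ℤ)).obj K)) := by
  obtain ⟨n, α, hα⟩ := exists_presentation (R := R) (A := A)
  obtain ⟨p, hp⟩ := hα g
  have h1 := (relpc_iff_via α hα m (DRing.toD K)).1 h
  have h2 := Groth.Agent.S2087.pc_of_iso
    ((ModuleCat.restrictScalars.{u}
      (α : MvPolynomial (Fin n) R →+* A)).mapDerivedCategoryFactors.app K) h1
  exact (pc_away_iff α hα K m p g hp).1 (pc_baseChange (Localization.Away p) _ m h2)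

end loc

section s7008
variable {R A : Type u} [CommRing R] [CommRing A] (f : R) [Algebra R A]
  [Algebra (Localization.Away f) A] [IsScalarTower R (Localization.Away f) A]
  [Algebra.FiniteType (Localization.Away f) A]

theorem relpc_away_base (g : A) (K : DRing.Cx A) (m : ℤ)
    (h : DerCA.IsRelPseudoCoherent (Localization.Away f) A m (DRing.toD K)) :
    DerCA.IsRelPseudoCoherent R (Localization.Away g) m
      (DRing.toD (((ModuleCat.extendScalars.{u, u, u}
        (algebraMap A (Localization.Away g))).mapHomologicalComplex (ComplexShape.up ℤ)).obj K)) := by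
  haveI : Algebra.FinitePresentation R (Localization.Away f) :=
    IsLocalization.Away.finitePresentation f
  haveI : Algebra.FiniteType R (Localization.Away f) := inferInstance
  haveI : Algebra.FinitePresentation A (Localization.Away g) :=
    IsLocalization.Away.finitePresentation g
  haveI : Algebra.FiniteType (Localization.Away f) (Localization.Away g) :=
    Algebra.FiniteType.trans (R := Localization.Away f) (S := A) (A := Localization.Away g)
      inferInstance inferInstance
  exact (relpc_base_iff (R := R) (A := Localization.Away f) (B := Localization.Away g)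
    (relpcAll_away f) _ m).1 (relpc_away K m g h)

/-- **S7008** -/
theorem s7008 (g : A) (K : DRing.Cx A) (m : ℤ) :
    (DerCA.IsRelPseudoCoherent (Localization.Away f) A m (DRing.toD K) →
      DerCA.IsRelPseudoCoherent R (Localization.Away g) m
        (DRing.toD (((ModuleCat.extendScalars.{u, u, u}
          (algebraMap A (Localization.Away g))).mapHomologicalComplex
            (ComplexShape.up ℤ)).obj K))) ∧
    (DerCA.IsRelPseudoCoherentAll (Localization.Away f) A (DRing.toD K) →
      DerCA.IsRelPseudoCoherentAll R (Localization.Away g)
        (DRing.toD (((ModuleCat.extendScalars.{u, u, u}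
          (algebraMap A (Localization.Away g))).mapHomologicalComplex
            (ComplexShape.up ℤ)).obj K))) :=
  ⟨relpc_away_base f g K m, fun h m' => relpc_away_base f g K m' (h m')⟩

end s7008

end Groth.Agent.Helper5.PCHom
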