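import Mathlib
import Groth.Agent.Lib.Helper5.DRing.RelPC7

/-!
# Relative pseudo-coherence: transport along isomorphic localisations (helper5)
-/

set_option autoImplicit false
universe u
open CategoryTheory Limits DerivedCategory Pretriangulated
attribute [local instance] HasDerivedCategory.standard

namespace Groth.Agent.Helper5.PCHom
open Groth.Agent.Helper5.PCRes Groth.Agent.Helper5.PCDev Groth.Agent.Helper5.PCBuild
open Groth.Agent.Helper5.FlatBC Groth.Agent.Helper5.LocSq

section transport
variable {R A A₁ A₂ : Type u} [CommRing R] [CommRing A] [CommRing A₁] [CommRing A₂]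
  [Algebra R A] [Algebra A A₁] [Algebra A A₂] [Algebra R A₁] [Algebra R A₂]
  [IsScalarTower R A A₁] [IsScalarTower R A A₂] (e : A₁ ≃ₐ[A] A₂)

/-- extension of scalars to isomorphic algebras -/
noncomputable def extResIso :
    ModuleCat.extendScalars.{u, u, u} (algebraMap A A₂) ⋙
      ModuleCat.restrictScalars.{u} (e.toRingEquiv.toRingHom) ≅
    ModuleCat.extendScalars.{u, u, u} (algebraMap A A₁) :=
  Adjunction.leftAdjointUniq
    ((ModuleCat.extendRestrictScalarsAdj (algebraMap A A₂)).comp
      (ModuleCat.restrictScalarsEquivalenceOfRingEquiv e.toRingEquiv).toAdjunction)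
    ((ModuleCat.extendRestrictScalarsAdj (algebraMap A A₁)).ofNatIsoRight
      (ModuleCat.restrictScalarsComp'.{u} (algebraMap A A₂) (e.symm.toRingEquiv.toRingHom)
        (algebraMap A A₁) (by
          ext a
          simp)))

include e in
theorem relpc_transport (K : DRing.Cx A) (m : ℤ)
    (h : DerCA.IsRelPseudoCoherent R A₁ m
      (DRing.toD (((ModuleCat.extendScalars.{u, u, u} (algebraMap A A₁)).mapHomologicalComplex
        (ComplexShape.up ℤ)).obj K))) :
    DerCA.IsRelPseudoCoherent R A₂ m
      (DRing.toD (((ModuleCat.extendScalars.{u, u, u} (algebraMap A A₂)).mapHomologicalComplex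
        (ComplexShape.up ℤ)).obj K)) := by
  obtain ⟨n, β, hβ, hpc⟩ := h
  let β₂ : MvPolynomial (Fin n) R →ₐ[R] A₂ := ((e.restrictScalars R).toAlgHom).comp β
  refine ⟨n, β₂, (e.restrictScalars R).surjective.comp hβ, ?_⟩
  let L₂ := DRing.toD (((ModuleCat.extendScalars.{u, u, u}
    (algebraMap A A₂)).mapHomologicalComplex (ComplexShape.up ℤ)).obj K)
  have c := restrictDComp (β : MvPolynomial (Fin n) R →+* A₁) e.toRingEquiv.toRingHom
    (β₂ : MvPolynomial (Fin n) R →+* A₂) rfl L₂
  have i1 : (DRing.restrictD e.toRingEquiv.toRingHom).obj L₂ ≅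
      DRing.toD (((ModuleCat.extendScalars.{u, u, u} (algebraMap A A₁)).mapHomologicalComplex
        (ComplexShape.up ℤ)).obj K) :=
    (ModuleCat.restrictScalars.{u} e.toRingEquiv.toRingHom).mapDerivedCategoryFactors.app
        (((ModuleCat.extendScalars.{u, u, u} (algebraMap A A₂)).mapHomologicalComplex
          (ComplexShape.up ℤ)).obj K) ≪≫
      Q.mapIso ((NatIso.mapHomologicalComplex (extResIso e) (ComplexShape.up ℤ)).app K)
  exact Groth.Agent.S2087.pc_of_iso
    (c ≪≫ (DRing.restrictD (β : MvPolynomial (Fin n) R →+* A₁)).mapIso i1).symm hpc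

end transport

section general
variable {R A : Type u} [CommRing R] [CommRing A] [Algebra R A]

/-- relative pseudo-coherence passes to (abstract) localisations of the source -/
theorem relpc_awayG [Algebra.FiniteType R A] (g : A) (A' : Type u) [CommRing A'] [Algebra A A']
    [IsLocalization.Away g A'] [Algebra R A'] [IsScalarTower R A A'] (K : DRing.Cx A) (m : ℤ)
    (h : DerCA.IsRelPseudoCoherent R A m (DRing.toD K)) :
    DerCA.IsRelPseudoCoherent R A' m
      (DRing.toD (((ModuleCat.extendScalars.{u, u, u} (algebraMap A A')).mapHomologicalComplex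
        (ComplexShape.up ℤ)).obj K)) :=
  relpc_transport (IsLocalization.algEquiv (Submonoid.powers g) (Localization.Away g) A') K m
    (relpc_away K m g h)

/-- relative pseudo-coherence is local on the source, for abstract localisations -/
theorem relpc_of_coverG [Algebra.FiniteType R A] {r : ℕ} (g : Fin r → A)
    (hg : Ideal.span (Set.range g) = ⊤) (A' : Fin r → Type u) [∀ i, CommRing (A' i)]
    [∀ i, Algebra A (A' i)] [∀ i, IsLocalization.Away (g i) (A' i)] [∀ i, Algebra R (A' i)]
    [∀ i, IsScalarTower R A (A' i)] (K : DRing.Cx A) (m : ℤ)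
    (h : ∀ i, DerCA.IsRelPseudoCoherent R (A' i) m
      (DRing.toD (((ModuleCat.extendScalars.{u, u, u}
        (algebraMap A (A' i))).mapHomologicalComplex (ComplexShape.up ℤ)).obj K))) :
    DerCA.IsRelPseudoCoherent R A m (DRing.toD K) :=
  (s6987 K m g hg).2 (fun i =>
    relpc_transport
      (IsLocalization.algEquiv (Submonoid.powers (g i)) (A' i) (Localization.Away (g i))) K m (h i))

end general

section base
variable {R : Type u} [CommRing R] (r : R) (R' : Type u) [CommRing R'] [Algebra R R']
  [IsLocalization.Away r R']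

/-- the chart `R[x] → R'`, `x ↦ 1/r`, for an abstract localisation -/
noncomputable def chartAway1G : MvPolynomial (Fin 1) R →ₐ[R] R' :=
  ((IsLocalization.algEquiv (Submonoid.powers r) (Localization.Away r) R').toAlgHom).comp
    (chartAway1 r)

include r in
theorem relpcAll_awayG : DerCA.IsRelPseudoCoherentModuleAll R R' R' := by
  let e := IsLocalization.algEquiv (Submonoid.powers r) (Localization.Away r) R'
  have hs : Function.Surjective (chartAway1G r R') := e.surjective.comp (chartAway1_surjective r)
  have hpc : PCHom (chartAway1G r R' : MvPolynomial (Fin 1) R →+* R') :=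
    pchom_comp (chartAway1 r : MvPolynomial (Fin 1) R →+* Localization.Away r)
      e.toRingEquiv.toRingHom _ rfl (pchom_chartAway1 r) (pchom_equiv e.toRingEquiv)
  exact fun m => (relpcModule_iff_via (chartAway1G r R') hs m (ModuleCat.of R' R')).2 (hpc m)

include r in
/-- the base of relative pseudo-coherence may be localised -/
theorem relpc_base_iffG {B : Type u} [CommRing B] [Algebra R B] [Algebra R' B]
    [IsScalarTower R R' B] [Algebra.FiniteType R' B] (K : Dual.D B) (m : ℤ) :
    DerCA.IsRelPseudoCoherent R' B m K ↔ DerCA.IsRelPseudoCoherent R B m K := by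
  haveI : Algebra.FinitePresentation R R' := IsLocalization.Away.finitePresentation r
  haveI : Algebra.FiniteType R R' := inferInstance
  exact relpc_base_iff (R := R) (A := R') (B := B) (relpcAll_awayG r R') K m

end base

end Groth.Agent.Helper5.PCHom
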