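import Mathlib
import Groth.Agent.Lib.Helper5.DRing.PCHom
import Groth.Agent.Lib.Helper5.DRing.FlatBC

/-!
# Pseudo-coherent ring maps: base change to polynomial rings (helper5)
-/
set_option autoImplicit false
set_option linter.style.haveILetI false
universe u
open CategoryTheory CategoryTheory.Limits TensorProduct
attribute [local instance] HasDerivedCategory.standard

namespace Groth.Agent.Helper5.PCHom

open Groth.Agent.Helper5.PCRes

variable {R A' : Type u} [CommRing R] [CommRing A']

section
variable [Algebra R A'] (σ : Type*)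

/-- `R[x] ⊗_R A' ≃ A'[x]` as a ring -/
noncomputable def polyTensorRingEquiv :
    (MvPolynomial σ R) ⊗[R] A' ≃+* MvPolynomial σ A' :=
  ((Algebra.TensorProduct.comm R (MvPolynomial σ R) A').toRingEquiv).trans
    (MvPolynomial.algebraTensorAlgEquiv (σ := σ) R A').toRingEquiv

theorem polyTensorRingEquiv_algebraMap (b : MvPolynomial σ R) :
    polyTensorRingEquiv σ (algebraMap (MvPolynomial σ R) ((MvPolynomial σ R) ⊗[R] A') b) =
      MvPolynomial.map (algebraMap R A') b := by
  simp [polyTensorRingEquiv, Algebra.TensorProduct.algebraMap_apply,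
    MvPolynomial.algebraTensorAlgEquiv_tmul]

end

/-- **base change of a pseudo-coherent ring map to polynomial rings** -/
theorem pchom_map (ψ : R →+* A') (hψ : PCHom ψ) (n : ℕ) :
    PCHom (MvPolynomial.map (σ := Fin n) ψ) := by
  letI : Algebra R A' := ψ.toAlgebra
  letI : Algebra (MvPolynomial (Fin n) R) (MvPolynomial (Fin n) A') :=
    (MvPolynomial.map (σ := Fin n) ψ).toAlgebra
  have h0 : AllPC (ModuleCat.of R A') := (pchom_iff_alg (B := R) (C := A')).1 hψ
  show PCHom (algebraMap (MvPolynomial (Fin n) R) (MvPolynomial (Fin n) A'))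
  rw [pchom_iff_alg]
  intro m
  have h1 := (Groth.Agent.Helper5.FlatBC.s7000 (R := R) (MvPolynomial (Fin n) R) m A').1 (h0 m)
  let e : (MvPolynomial (Fin n) R) ⊗[R] A' ≃ₗ[MvPolynomial (Fin n) R] MvPolynomial (Fin n) A' :=
    { (polyTensorRingEquiv (R := R) (A' := A') (Fin n)).toAddEquiv with
      map_smul' := fun b t => by
        show polyTensorRingEquiv (Fin n) (b • t) =
          MvPolynomial.map (algebraMap R A') b * polyTensorRingEquiv (Fin n) t
        rw [show b • t = algebraMap (MvPolynomial (Fin n) R) _ b * t from Algebra.smul_def b t,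
          map_mul, polyTensorRingEquiv_algebraMap] }
  exact Groth.Agent.S2087.pc_of_iso
    ((DerivedCategory.singleFunctor (ModuleCat.{u} (MvPolynomial (Fin n) R)) 0).mapIso
      e.toModuleIso) h1

end Groth.Agent.Helper5.PCHom
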