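import Mathlib
import Groth.Agent.Lib.Helper5.DRing.RelPC5

/-!
# The standard chart of a localisation of a polynomial ring (helper5)
-/

set_option autoImplicit false
set_option linter.style.haveILetI false

universe u

open CategoryTheory

namespace Groth.Agent.Helper5.PCHom

section

variable {B : Type u} [CommRing B] {n : ℕ} (g : MvPolynomial (Fin n) B)
  (P' : Type u) [CommRing P'] [Algebra (MvPolynomial (Fin n) B) P'] [IsLocalization.Away g P']

/-- the chart `B[x_1, …, x_{n+1}] → P'` of a localisation `P'` of `B[x_1, …, x_n]` away from `g`: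
the last variable goes to `1/g` -/
noncomputable def locRho : MvPolynomial (Fin (n + 1)) B →+* P' :=
  ((IsLocalization.algEquiv (Submonoid.powers g) (Localization.Away g) P').toRingEquiv.toRingHom).comp
    ((evalAway g).comp (MvPolynomial.finSuccEquiv B n).toRingEquiv.toRingHom)

theorem locRho_surjective : Function.Surjective (locRho g P') :=
  (IsLocalization.algEquiv (Submonoid.powers g) (Localization.Away g) P').surjective.comp
    ((evalAway_surjective g).comp (MvPolynomial.finSuccEquiv B n).surjective)

theorem pchom_locRho : PCHom (locRho g P') :=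
  pchom_comp _ _ _ rfl
    (pchom_comp _ _ _ rfl (pchom_equiv (MvPolynomial.finSuccEquiv B n).toRingEquiv)
      (pchom_evalAway g))
    (pchom_equiv (IsLocalization.algEquiv (Submonoid.powers g) (Localization.Away g) P').toRingEquiv)

theorem locRho_C (b : B) :
    locRho g P' (MvPolynomial.C b) = algebraMap (MvPolynomial (Fin n) B) P' (MvPolynomial.C b) := by
  show (IsLocalization.algEquiv (Submonoid.powers g) (Localization.Away g) P')
    (evalAway g (MvPolynomial.finSuccEquiv B n (MvPolynomial.C b))) = _
  rw [MvPolynomial.finSuccEquiv_apply]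
  simp only [MvPolynomial.eval₂Hom_C, RingHom.coe_comp, Function.comp_apply, evalAway_C]
  exact (IsLocalization.algEquiv (Submonoid.powers g) (Localization.Away g) P').commutes _

end

section map

variable {P A : Type u} [CommRing P] [CommRing A] (φ : P →+* A) (g : P)
  (P' A' : Type u) [CommRing P'] [CommRing A'] [Algebra P P'] [Algebra A A']
  [IsLocalization.Away g P'] [IsLocalization.Away (φ g) A']

/-- the map induced on localisations -/
noncomputable def awayMap : P' →+* A' := IsLocalization.Away.map P' A' φ g

theorem awayMap_comp :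
    (awayMap φ g P' A').comp (algebraMap P P') = (algebraMap A A').comp φ := by
  unfold awayMap IsLocalization.Away.map
  exact IsLocalization.map_comp (M := Submonoid.powers g) (T := Submonoid.powers (φ g))
    (Q := A') _

theorem awayMap_surjective (hφ : Function.Surjective φ) :
    Function.Surjective (awayMap φ g P' A') := by
  intro y
  obtain ⟨k, a, h⟩ := IsLocalization.Away.surj (φ g) y
  obtain ⟨p, rfl⟩ := hφ a
  have hu : IsUnit (algebraMap P P' g) := IsLocalization.Away.algebraMap_isUnit g
  obtain ⟨u, hu'⟩ := hu
  refine ⟨algebraMap P P' p * ((u⁻¹ : P'ˣ) : P') ^ k, ?_⟩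
  have h1 : awayMap φ g P' A' (algebraMap P P' p) = algebraMap A A' (φ p) :=
    RingHom.congr_fun (awayMap_comp φ g P' A') p
  have h2 : awayMap φ g P' A' (algebraMap P P' g) = algebraMap A A' (φ g) :=
    RingHom.congr_fun (awayMap_comp φ g P' A') g
  have h3 : awayMap φ g P' A' ((u⁻¹ : P'ˣ) : P') * algebraMap A A' (φ g) = 1 := by
    rw [← h2, ← map_mul, ← hu', Units.inv_mul, map_one]
  have hunit : IsUnit (algebraMap A A' (φ g)) := IsLocalization.Away.algebraMap_isUnit (φ g)
  apply (hunit.pow k).mul_left_injective
  simp only
  rw [map_mul, map_pow, h1, mul_assoc, ← mul_pow, h3, one_pow, mul_one, h]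

end map

end Groth.Agent.Helper5.PCHom
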