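import Mathlib
import Groth.Agent.Lib.Helper5.DRing.PerfRes2
import Groth.Agent.Lib.Helper5.DRing.PCRetract
import Groth.Agent.Lib.Helper5.TorAmp.Biprod
import Groth.Agent.Lib.Helper5.TorAmp.Dev
import Groth.Agent.Lib.Helper5.TorAmp.FinTor
import Groth.Agent.Lib.Helper5.TorAmp.TorDim

set_option autoImplicit false
universe u
open CategoryTheory Limits Pretriangulated DerivedCategory ZeroObject
attribute [local instance] HasDerivedCategory.standard

namespace Groth.Agent.Helper5.PerfRes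
open Groth.Agent.Helper5.TorAmp Groth.Agent.Helper5.DRingCone
variable {R A : Type u} [CommRing R] [CommRing A] [Algebra R A]

attribute [local instance] preservesBinaryBiproducts_of_preservesBiproducts

theorem finTor_of_iso {K L : Dual.D R} (e : K ≅ L) (h : DRing.HasFiniteTorDimCx R K) :
    DRing.HasFiniteTorDimCx R L := by
  obtain ⟨a, b, h⟩ := h
  exact ⟨a, b, hasTorAmplitudeIn_of_iso e h⟩

theorem finTor_shift (K : Dual.D R) (n : ℤ) (h : DRing.HasFiniteTorDimCx R K) :
    DRing.HasFiniteTorDimCx R (K⟦n⟧) := by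
  obtain ⟨a, b, h⟩ := h
  exact ⟨a - n, b - n, hasTorAmplitudeIn_shift h n _ _ (by omega) (by omega)⟩

theorem finTor_ext (T : Triangle (Dual.D R)) (hT : T ∈ distTriang _)
    (h1 : DRing.HasFiniteTorDimCx R T.obj₁) (h3 : DRing.HasFiniteTorDimCx R T.obj₃) :
    DRing.HasFiniteTorDimCx R T.obj₂ := by
  obtain ⟨a, b, h1⟩ := h1
  obtain ⟨a', b', h3⟩ := h3
  exact ⟨min a a', max b b', hasTorAmplitudeIn_ext _ _ T hT
    (hasTorAmplitudeIn_mono h1 (min_le_left _ _) (le_max_left _ _))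
    (hasTorAmplitudeIn_mono h3 (min_le_right _ _) (le_max_right _ _))⟩

theorem relPerfect_of_iso {K L : Dual.D A} (e : K ≅ L) (h : Dual2.IsRelPerfect R A K) :
    Dual2.IsRelPerfect R A L :=
  ⟨ObjectProperty.prop_of_iso (fun X : Dual.D A => DRing.IsPseudoCoherent' A X) e h.1,
    finTor_of_iso ((DRing.restrictD (algebraMap R A)).mapIso e) h.2⟩

/-- S7093 -/
theorem s7093 :
    ObjectProperty.IsTriangulated (C := Dual.D A) (fun K => Dual2.IsRelPerfect R A K) ∧
      ObjectProperty.IsClosedUnderIsomorphisms (C := Dual.D A) (fun K => Dual2.IsRelPerfect R A K) ∧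
      ∀ X Y : Dual.D A, Dual2.IsRelPerfect R A (X ⊞ Y) →
        Dual2.IsRelPerfect R A X ∧ Dual2.IsRelPerfect R A Y := by
  let F := DRing.restrictD (algebraMap R A)
  refine ⟨?_, ⟨fun e h => relPerfect_of_iso e h⟩, ?_⟩
  · have hz : ObjectProperty.ContainsZero (C := Dual.D A) (fun K => Dual2.IsRelPerfect R A K) := by
      refine ⟨0, isZero_zero _, ?_, ?_⟩
      · exact Groth.Agent.Helper5.PCBuild.pc'_of_forall_pc _
          (fun m => Groth.Agent.Helper5.PCDev.pc_of_isZero _ (isZero_zero _) m)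
      · exact ⟨0, 0, hasTorAmplitudeIn_of_isZero (F.map_isZero (isZero_zero _)) 0 0⟩
    have hs : ObjectProperty.IsStableUnderShift (C := Dual.D A)
        (fun K => Dual2.IsRelPerfect R A K) ℤ := by
      refine ⟨fun n => ⟨fun K hK => ?_⟩⟩
      exact ⟨Groth.Agent.Helper5.PerRes.pc'_shift K n hK.1,
        finTor_of_iso ((F.commShiftIso n).app K).symm (finTor_shift _ n hK.2)⟩
    have ht : ObjectProperty.IsTriangulatedClosed₂ (C := Dual.D A)
        (fun K => Dual2.IsRelPerfect R A K) := by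
      refine ⟨fun T hT h1 h3 => ObjectProperty.le_isoClosure _ _ ?_⟩
      exact ⟨(pc'_two_of_three T hT).2.1 h1.1 h3.1,
        finTor_ext _ (F.map_distinguished _ hT) h1.2 h3.2⟩
    exact { toContainsZero := hz, toIsStableUnderShift := hs, toIsTriangulatedClosed₂ := ht }
  · intro X Y h
    obtain ⟨a, b, h2⟩ := h.2
    have h2' : DRing.HasTorAmplitudeIn R a b (F.obj X ⊞ F.obj Y) :=
      hasTorAmplitudeIn_of_iso (F.mapBiprod X Y) h2
    obtain ⟨hX, hY⟩ := hasTorAmplitudeIn_of_biprod a b _ _ h2'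
    obtain ⟨hX', hY'⟩ := (Groth.Agent.Helper5.PCRetract.s6937 0 X Y).2 h.1
    exact ⟨⟨hX', a, b, hX⟩, ⟨hY', a, b, hY⟩⟩

end Groth.Agent.Helper5.PerfRes
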