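import Groth.Agent.Lib.Helper5.DRing.Amp
import Mathlib

set_option autoImplicit false
set_option linter.unusedSectionVars false
universe w v u
open CategoryTheory Limits Pretriangulated DerivedCategory

namespace Groth.Agent.Helper5.Summand

variable {C : Type u} [Category.{v} C] [Abelian C] [HasDerivedCategory.{w} C]
variable {P : ObjectProperty C}

/-- Truncating the top term of a complex with terms in `P` when the top cohomology vanishes. -/
theorem Amp.truncTop [P.ContainsZero] [P.IsClosedUnderIsomorphisms]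
    (hker : ∀ (E F : C) (u : E ⟶ F), Epi u → P E → P F → P (kernel u))
    {a b : ℤ} {X : DerivedCategory C} (h : Amp P a b X) (hab : a < b)
    (hb : IsZero ((homologyFunctor C b).obj X)) : Amp P a (b - 1) X := by
  obtain ⟨E, h1, h2, ⟨f⟩⟩ := h
  have hEb : E.ExactAt b := by
    rw [HomologicalComplex.exactAt_iff_isZero_homology]
    exact hb.of_iso (((homologyFunctorFactors C b).app E).symm ≪≫ (homologyFunctor C b).mapIso f)
  have hLE : E.IsLE (b - 1) := by
    rw [CochainComplex.isLE_iff]
    intro i hi
    rcases eq_or_lt_of_le (show b ≤ i by omega) with h | h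
    · subst h; exact hEb
    · exact HomologicalComplex.ExactAt.of_isZero (h2 i (Or.inr h))
  have hq : QuasiIso (E.ιTruncLE (b - 1)) := inferInstance
  have hepi : Epi (E.d (b - 1) b) := by
    have h3 := (E.exactAt_iff' (b - 1) b (b + 1) (by simp) (by simp)).1 hEb
    have h4 : (E.sc' (b - 1) b (b + 1)).g = 0 := (h2 (b + 1) (Or.inr (by omega))).eq_of_tgt _ _
    exact (ShortComplex.exact_iff_epi _ h4).1 h3
  refine ⟨E.truncLE (b - 1), ?_, ?_, ⟨asIso (Q.map (E.ιTruncLE (b - 1))) ≪≫ f⟩⟩
  · intro i
    rcases lt_trichotomy i (b - 1) with hi | hi | hi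
    · exact P.prop_of_iso (E.truncLEXIso (b - 1) i hi).symm (h1 i)
    · subst hi
      have e1 : (E.truncLE (b - 1)).X (b - 1) ≅ E.cycles (b - 1) := E.truncLEXIsoCycles (b - 1)
      have e2 : E.cycles (b - 1) ≅ kernel (E.d (b - 1) b) :=
        (E.cyclesIsKernel (b - 1) b (by simp)).conePointUniqueUpToIso (limit.isLimit _)
      exact P.prop_of_iso (e1 ≪≫ e2).symm (hker _ _ _ hepi (h1 _) (h1 _))
    · exact P.prop_of_isZero ((E.truncLE (b - 1)).isZero_of_isStrictlyLE (b - 1) i hi)
  · intro i hi
    rcases hi with hi | hi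
    · exact (h2 i (Or.inl hi)).of_iso (E.truncLEXIso (b - 1) i (by omega))
    · exact (E.truncLE (b - 1)).isZero_of_isStrictlyLE (b - 1) i hi

end Groth.Agent.Helper5.Summand
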