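import Groth.Agent.Lib.Helper5.DRing.AmpMain
import Groth.Agent.Lib.Helper5.DRing.Dev2
import Groth.Agent.Lib.Helper5.DRing.Classes
import Mathlib

set_option autoImplicit false
set_option linter.unusedSectionVars false
universe w v u
open CategoryTheory Limits Pretriangulated DerivedCategory ZeroObject

namespace Groth.Agent.Helper5.Summand

section General

variable {C : Type u} [Category.{v} C] [Abelian C] [HasDerivedCategory.{w} C]
variable {P : ObjectProperty C} [P.ContainsZero] [P.IsClosedUnderIsomorphisms]

theorem Amp.of_isZero {X : DerivedCategory C} (hX : IsZero X) (a b : ℤ) : Amp P a b X := by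
  refine ⟨0, fun i => P.prop_of_isZero ?_, fun i _ => ?_, ⟨(Functor.map_isZero Q (isZero_zero _)).iso hX⟩⟩
  · exact (HomologicalComplex.eval C (ComplexShape.up ℤ) i).map_isZero (isZero_zero _)
  · exact (HomologicalComplex.eval C (ComplexShape.up ℤ) i).map_isZero (isZero_zero _)

/-- extension closure -/
theorem Amp.ext (hproj : ∀ X, P X → Projective X) (hsum : ∀ X Y : C, P X → P Y → P (X ⊞ Y))
    (T : Triangle (DerivedCategory C)) (hT : T ∈ distTriang _) {a b : ℤ}
    (h₁ : Amp P a b T.obj₁) (h₃ : Amp P a b T.obj₃) : Amp P a b T.obj₂ := by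
  have h := Amp.cone hproj hsum _ (inv_rot_of_distTriang _ hT) (h₃.shift (-1)) h₁
  exact h.mono (le_min (by omega) le_rfl) (max_le (by omega) le_rfl)

instance (a b : ℤ) : ObjectProperty.IsClosedUnderIsomorphisms
    (fun X : DerivedCategory C => Amp P a b X) where
  of_iso e h := Amp.of_iso h e

/-- the projective objects -/
def Pj (C : Type u) [Category.{v} C] : ObjectProperty C := fun M => Projective M

instance : (Pj C).IsClosedUnderIsomorphisms where
  of_iso e h := Projective.of_iso e h

instance : (Pj C).ContainsZero where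
  exists_zero := ⟨0, isZero_zero _, (inferInstance : Projective (0 : C))⟩

theorem amp_single_of_pd [EnoughProjectives C] (d : ℕ) :
    ∀ (M : C) [HasProjectiveDimensionLT M (d + 1)],
      Amp (Pj C) (-(d : ℤ)) 0 ((singleFunctor C 0).obj M) := by
  induction d with
  | zero =>
    intro M hM
    have hM1 : HasProjectiveDimensionLT M 1 := hM
    have : Projective M := projective_iff_hasProjectiveDimensionLT_one.2 hM1
    simpa using Amp.single (P := Pj C) 0 M this
  | succ d ih =>
    intro M hM
    let π := Projective.π M
    let S : ShortComplex C := ShortComplex.mk (kernel.ι π) π (kernel.condition π)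
    have hS : S.ShortExact :=
      ShortComplex.ShortExact.mk' (ShortComplex.exact_kernel π)
        (inferInstanceAs (Mono (kernel.ι π))) (inferInstanceAs (Epi π))
    have h2 : HasProjectiveDimensionLT S.X₂ (d + 1) := by
      have : Projective S.X₂ := inferInstanceAs (Projective (Projective.over M))
      exact hasProjectiveDimensionLT_of_ge S.X₂ 1 (d + 1) (by omega)
    have h3 : HasProjectiveDimensionLT S.X₃ (d + 1 + 1) := hM
    have h1 : HasProjectiveDimensionLT S.X₁ (d + 1) :=
      hS.hasProjectiveDimensionLT_X₁ (d + 1) h2 h3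
    have a1 := ih S.X₁
    have a2 : Amp (Pj C) 0 0 ((singleFunctor C 0).obj S.X₂) :=
      Amp.single (P := Pj C) 0 S.X₂ (inferInstanceAs (Projective (Projective.over M)))
    have a3 := Amp.cone (P := Pj C) (fun X h => h)
      (fun X Y (hX : Projective X) (hY : Projective Y) => (inferInstance : Projective (X ⊞ Y)))
      _ hS.singleTriangle_distinguished a1 a2
    refine Amp.mono a3 (le_min ?_ ?_) (max_le (by omega) le_rfl)
    · push_cast; omega
    · push_cast; omega

end General

end Groth.Agent.Helper5.Summand

namespace Groth.Agent.Helper5.Summand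

open CAlg
attribute [local instance] HasDerivedCategory.standard

variable {R : Type u} [CommRing R]

theorem torAmp_of_ampPj {a b : ℤ} {K : Dual.D R} (h : Amp (Pj (ModuleCat.{u} R)) a b K) :
    DRing.HasTorAmplitudeIn R a b K := by
  obtain ⟨E, h1, h2, h3⟩ := h
  refine ⟨E, h2, fun i => ?_, h3⟩
  have : Projective (E.X i) := h1 i
  have : Module.Projective R (E.X i) := (IsProjective.iff_projective (E.X i)).2 this
  infer_instance

theorem s7034 (d : ℕ)
    (hgl : ∀ (M : Type u) [AddCommGroup M] [Module R M],
      HasProjectiveDimensionLT (ModuleCat.of R M) (d + 1)) :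
    (∀ (M : Type u) [AddCommGroup M] [Module R M],
      DRing.HasTorAmplitudeIn R (-(d : ℤ)) 0 (Dual.inD R M)) ∧
    (∀ (K : Dual.D R) (a b : ℤ), (∀ i : ℤ, (i < a ∨ b < i) → Subsingleton (Dual.HD R K i)) →
        DRing.HasTorAmplitudeIn R (a - d) b K) := by
  have key : ∀ M : ModuleCat.{u} R,
      Amp (Pj (ModuleCat.{u} R)) (-(d : ℤ)) 0 ((singleFunctor (ModuleCat.{u} R) 0).obj M) := by
    intro M
    have := hgl M
    exact amp_single_of_pd d M
  refine ⟨fun M _ _ => torAmp_of_ampPj (key (ModuleCat.of R M)), ?_⟩
  intro K a b hK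
  apply torAmp_of_ampPj
  refine Devissage.of_homology' (fun X : Dual.D R => Amp (Pj (ModuleCat.{u} R)) (a - d) b X)
    (fun T hT h1 h3 => Amp.ext (P := Pj (ModuleCat.{u} R)) (fun X h => h)
      (fun X Y (hX : Projective X) (hY : Projective Y) => (inferInstance : Projective (X ⊞ Y)))
      T hT h1 h3) K a b ?_ ?_
  · intro i hi
    have := hK i hi
    exact ModuleCat.isZero_of_subsingleton _
  · intro i
    by_cases hi : a ≤ i ∧ i ≤ b
    · have h0 := (key ((homologyFunctor (ModuleCat.{u} R) i).obj K)).shift (-i)
      have h1 := h0.of_iso (((singleFunctors (ModuleCat.{u} R)).shiftIso (-i) i 0 (by omega)).app _)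
      exact h1.mono (by omega) (by omega)
    · refine Amp.of_isZero (P := Pj (ModuleCat.{u} R)) ?_ _ _
      apply Functor.map_isZero
      have := hK i (by omega)
      exact ModuleCat.isZero_of_subsingleton _

end Groth.Agent.Helper5.Summand
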