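import Groth.Agent.Lib.Helper5.DRing.Cone
import Mathlib

set_option autoImplicit false
universe u
open CategoryTheory Limits Pretriangulated DerivedCategory
attribute [local instance] HasDerivedCategory.standard
open CAlg

namespace Groth.Agent.Helper5.DRingCone

variable {A : Type u} [CommRing A]

/-- Morphisms in `D(A)` into a K-injective complex are represented by chain maps. -/
theorem exists_chain_map_inj (P R : CochainComplex (ModuleCat.{u} A) ℤ) [R.IsKInjective]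
    (v : Q.obj P ⟶ Q.obj R) : ∃ φ : P ⟶ R, Q.map φ = v := by
  obtain ⟨w, hw⟩ := (CochainComplex.IsKInjective.Qh_map_bijective
    ((HomotopyCategory.quotient _ _).obj P) R).surjective
      ((quotientCompQhIso _).hom.app P ≫ v ≫ (quotientCompQhIso _).inv.app R)
  obtain ⟨φ, rfl⟩ := (HomotopyCategory.quotient _ _).map_surjective w
  refine ⟨φ, ?_⟩
  have := quotientCompQhIso_hom_naturality φ
  have h4 : Q.map φ = (quotientCompQhIso _).inv.app P ≫
      Qh.map ((HomotopyCategory.quotient _ _).map φ) ≫ (quotientCompQhIso _).hom.app R := by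
    rw [this]; simp
  rw [h4, hw]
  simp

/-- Variant of `cone_iso` with an abstract lifting hypothesis. -/
theorem cone_iso' (T : Triangle (Dual.D A)) (hT : T ∈ distTriang _)
    (P R : CochainComplex (ModuleCat.{u} A) ℤ)
    (hl : ∀ v : Q.obj P ⟶ Q.obj R, ∃ φ : P ⟶ R, Q.map φ = v)
    (e₁ : Q.obj P ≅ T.obj₁) (e₂ : Q.obj R ≅ T.obj₂) :
    ∃ φ : P ⟶ R, Nonempty (Q.obj (CochainComplex.mappingCone φ) ≅ T.obj₃) := by
  obtain ⟨φ, hφ⟩ := hl (e₁.hom ≫ T.mor₁ ≫ e₂.inv)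
  have hT₁ := mappingCone_triangle_distinguished φ
  refine ⟨φ, ⟨Triangle.π₃.mapIso (isoTriangleOfIso₁₂ _ _ hT₁ hT e₁ e₂ ?_)⟩⟩
  change Q.map φ ≫ e₂.hom = e₁.hom ≫ T.mor₁
  rw [hφ]
  simp

theorem two_of_three' (C : CochainComplex (ModuleCat.{u} A) ℤ → Prop)
    (hl : ∀ E F, C E → C F → ∀ v : Q.obj E ⟶ Q.obj F, ∃ φ : E ⟶ F, Q.map φ = v)
    (hs : ∀ E (n : ℤ), C E → C (E⟦n⟧))
    (hc : ∀ (E F : CochainComplex (ModuleCat.{u} A) ℤ) (φ : E ⟶ F), C E → C F →
      C (CochainComplex.mappingCone φ))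
    (T : Triangle (Dual.D A)) (hT : T ∈ distTriang _) :
    (Rep C T.obj₁ → Rep C T.obj₂ → Rep C T.obj₃) ∧
    (Rep C T.obj₁ → Rep C T.obj₃ → Rep C T.obj₂) ∧
    (Rep C T.obj₂ → Rep C T.obj₃ → Rep C T.obj₁) := by
  have key : ∀ (T : Triangle (Dual.D A)) (hT : T ∈ distTriang _),
      Rep C T.obj₁ → Rep C T.obj₂ → Rep C T.obj₃ := by
    intro T hT ⟨P, hP, ⟨e₁⟩⟩ ⟨R, hR, ⟨e₂⟩⟩
    obtain ⟨φ, ⟨e⟩⟩ := cone_iso' T hT P R (hl P R hP hR) e₁ e₂
    exact ⟨_, hc P R φ hP hR, ⟨e⟩⟩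
  refine ⟨key T hT, ?_, ?_⟩
  · intro h1 h3
    exact key T.invRotate (inv_rot_of_distTriang T hT) (h3.shift hs (-1)) h1
  · intro h2 h3
    have := key T.rotate (rot_of_distTriang T hT) h2 h3
    exact Rep.of_shift hs 1 this

/-- The class of `Rep C` objects as an `ObjectProperty`. -/
def RepProp (C : CochainComplex (ModuleCat.{u} A) ℤ → Prop) : ObjectProperty (Dual.D A) :=
  fun K => Rep C K

instance (C : CochainComplex (ModuleCat.{u} A) ℤ → Prop) :
    (RepProp C).IsClosedUnderIsomorphisms where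
  of_iso e h := Rep.of_iso h e

end Groth.Agent.Helper5.DRingCone
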