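import Groth.Agent.Lib.Helper5.DRing.Classes
import Groth.Agent.Lib.Helper5.DRing.Cone2
import Groth.Agent.Lib.Helper5.DRing.Dev
import Groth.Agent.Lib.Helper5.DRing.DevT
import Mathlib

set_option autoImplicit false
universe u
open CategoryTheory Limits Pretriangulated DerivedCategory
attribute [local instance] HasDerivedCategory.standard
open CAlg

namespace Groth.Agent.Helper5.DRingCone

variable {A : Type u} [CommRing A]

/-- bounded complexes of injective modules -/
def InjClass (E : CochainComplex (ModuleCat.{u} A) ℤ) : Prop :=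
  ∃ a b : ℤ, DRing.VanishesOutside E a b ∧ DRing.TermwiseInjective E

theorem rep_inj_iff (K : Dual.D A) : Rep InjClass K ↔ DRing.HasFiniteInjDim A K := by
  constructor
  · rintro ⟨E, ⟨a, b, h1, h2⟩, h3⟩
    exact ⟨a, b, E, h1, h2, h3⟩
  · rintro ⟨a, b, E, h1, h2, h3⟩
    exact ⟨E, ⟨a, b, h1, h2⟩, h3⟩

theorem kinj_of_inj (P : CochainComplex (ModuleCat.{u} A) ℤ) (a : ℤ)
    (ha : ∀ i, i < a → IsZero (P.X i)) (hp : ∀ i, Module.Injective A (P.X i)) :
    P.IsKInjective := by
  have : P.IsStrictlyGE a := by
    rw [CochainComplex.isStrictlyGE_iff]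
    exact ha
  have : ∀ n, Injective (P.X n) := fun n => by
    have := hp n
    exact Module.injective_object_of_injective_module A (P.X n)
  exact CochainComplex.isKInjective_of_injective P a

theorem InjClass.kinj (E : CochainComplex (ModuleCat.{u} A) ℤ) (h : InjClass E) :
    E.IsKInjective := by
  obtain ⟨a, b, h1, h2⟩ := h
  exact kinj_of_inj E a (fun i hi => h1 i (Or.inl hi)) h2

theorem InjClass.shift (E : CochainComplex (ModuleCat.{u} A) ℤ) (n : ℤ) (h : InjClass E) :
    InjClass (E⟦n⟧) := by
  obtain ⟨a, b, h1, h2⟩ := h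
  refine ⟨a - n, b - n, ?_, ?_⟩
  · intro i hi
    exact h1 (i + n) (by omega)
  · intro i
    exact h2 (i + n)

theorem cone_injective {P R : CochainComplex (ModuleCat.{u} A) ℤ} (φ : P ⟶ R)
    (hP : DRing.TermwiseInjective P) (hR : DRing.TermwiseInjective R) :
    DRing.TermwiseInjective (CochainComplex.mappingCone φ) := by
  intro i
  have h1 := hP (i+1)
  have h3 := hR i
  have i1 : Injective (P.X (i + 1)) := Module.injective_object_of_injective_module A _
  have i2 : Injective (R.X i) := Module.injective_object_of_injective_module A _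
  let e : (CochainComplex.mappingCone φ).X i ≅ P.X (i+1) ⊞ R.X i :=
    HomologicalComplex.homotopyCofiber.XIsoBiprod φ i (i + 1) rfl
  have : Injective ((CochainComplex.mappingCone φ).X i) := Injective.of_iso e.symm inferInstance
  exact Module.injective_module_of_injective_object A _

theorem InjClass.cone (E F : CochainComplex (ModuleCat.{u} A) ℤ) (φ : E ⟶ F)
    (hE : InjClass E) (hF : InjClass F) : InjClass (CochainComplex.mappingCone φ) := by
  obtain ⟨a, b, h1, h2⟩ := hE
  obtain ⟨a', b', h1', h2'⟩ := hF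
  refine ⟨min (a - 1) a', max b b', ?_, cone_injective φ h2 h2'⟩
  intro i hi
  rw [CochainComplex.mappingCone.isZero_X_iff]
  rcases hi with hi | hi
  · exact ⟨h1 _ (Or.inl (by have := min_le_left (a - 1) a'; omega)),
      h1' _ (Or.inl (by have := min_le_right (a - 1) a'; omega))⟩
  · exact ⟨h1 _ (Or.inr (by have := le_max_left b b'; omega)),
      h1' _ (Or.inr (by have := le_max_right b b'; omega))⟩

theorem inj_two_of_three (T : Triangle (Dual.D A)) (hT : T ∈ distTriang _) :
    (Rep InjClass T.obj₁ → Rep InjClass T.obj₂ → Rep InjClass T.obj₃) ∧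
    (Rep InjClass T.obj₁ → Rep InjClass T.obj₃ → Rep InjClass T.obj₂) ∧
    (Rep InjClass T.obj₂ → Rep InjClass T.obj₃ → Rep InjClass T.obj₁) := by
  refine two_of_three' InjClass ?_ InjClass.shift InjClass.cone T hT
  intro E F _ hF v
  have := InjClass.kinj F hF
  exact exists_chain_map_inj E F v

theorem perf_two_of_three (T : Triangle (Dual.D A)) (hT : T ∈ distTriang _) :
    (Rep PerfClass T.obj₁ → Rep PerfClass T.obj₂ → Rep PerfClass T.obj₃) ∧
    (Rep PerfClass T.obj₁ → Rep PerfClass T.obj₃ → Rep PerfClass T.obj₂) ∧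
    (Rep PerfClass T.obj₂ → Rep PerfClass T.obj₃ → Rep PerfClass T.obj₁) :=
  two_of_three PerfClass PerfClass.kproj PerfClass.shift PerfClass.cone T hT

/-- bounded cohomology with perfect cohomology modules ⇒ perfect -/
theorem perfect_of_homology (K : Dual.D A) (a b : ℤ)
    (hK : ∀ i : ℤ, (i < a ∨ b < i) → Subsingleton (Dual.HD A K i))
    (h : ∀ i : ℤ, DRing.IsPerfectModule A (Dual.HD A K i)) : DRing.IsPerfect A K := by
  rw [← rep_perf_iff]
  refine Devissage.of_homology (RepProp PerfClass) (fun K n hK => Rep.shift PerfClass.shift hK n)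
    (fun T hT h1 h3 => (perf_two_of_three T hT).2.1 h1 h3) K a b ?_ ?_
  · intro i hi
    have := hK i hi
    exact ModuleCat.isZero_of_subsingleton _
  · intro i
    exact (rep_perf_iff _).2 (h i)

/-- bounded complex with perfect terms ⇒ perfect -/
theorem perfect_of_terms (K : DRing.Cx A) (a b : ℤ) (hab : DRing.VanishesOutside K a b)
    (h : ∀ i : ℤ, DRing.IsPerfectModule A (K.X i)) : DRing.IsPerfect A (DRing.toD K) := by
  rw [← rep_perf_iff]
  refine Devissage.of_terms (RepProp PerfClass) (fun K n hK => Rep.shift PerfClass.shift hK n)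
    (fun T hT h1 h3 => (perf_two_of_three T hT).2.1 h1 h3) K a b hab ?_
  intro i
  exact (rep_perf_iff _).2 (h i)

theorem finiteInjDim_of_homology (K : Dual.D A) (a b : ℤ)
    (hK : ∀ i : ℤ, (i < a ∨ b < i) → Subsingleton (Dual.HD A K i))
    (h : ∀ i : ℤ, DRing.HasFiniteInjDim A (Dual.inD A (Dual.HD A K i))) :
    DRing.HasFiniteInjDim A K := by
  rw [← rep_inj_iff]
  refine Devissage.of_homology (RepProp InjClass) (fun K n hK => Rep.shift InjClass.shift hK n)
    (fun T hT h1 h3 => (inj_two_of_three T hT).2.1 h1 h3) K a b ?_ ?_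
  · intro i hi
    have := hK i hi
    exact ModuleCat.isZero_of_subsingleton _
  · intro i
    exact (rep_inj_iff _).2 (h i)

theorem finiteInjDim_of_terms (K : DRing.Cx A) (a b : ℤ) (hab : DRing.VanishesOutside K a b)
    (h : ∀ i : ℤ, DRing.HasFiniteInjDim A (Dual.inD A (K.X i))) :
    DRing.HasFiniteInjDim A (DRing.toD K) := by
  rw [← rep_inj_iff]
  refine Devissage.of_terms (RepProp InjClass) (fun K n hK => Rep.shift InjClass.shift hK n)
    (fun T hT h1 h3 => (inj_two_of_three T hT).2.1 h1 h3) K a b hab ?_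
  intro i
  exact (rep_inj_iff _).2 (h i)

end Groth.Agent.Helper5.DRingCone
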