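import Groth.Agent.Lib.Helper5.DRing.AmpTrunc
import Mathlib

set_option autoImplicit false
set_option linter.unusedSectionVars false
universe w v u
open CategoryTheory Limits Pretriangulated DerivedCategory

namespace Groth.Agent.Helper5.Summand

variable {C : Type u} [Category.{v} C] [Abelian C] [HasDerivedCategory.{w} C]

/-- The inclusion of the top term of a complex. -/
noncomputable def topι (E : CochainComplex C ℤ) (b : ℤ) (hb : IsZero (E.X (b + 1))) :
    (HomologicalComplex.single C (ComplexShape.up ℤ) b).obj (E.X b) ⟶ E :=
  HomologicalComplex.mkHomFromSingle (𝟙 (E.X b)) (by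
    intro k hk
    obtain rfl : b + 1 = k := hk
    exact hb.eq_of_tgt _ _)

theorem topι_homology_epi (E : CochainComplex C ℤ) (b : ℤ) (hb : IsZero (E.X (b + 1))) :
    Epi (HomologicalComplex.homologyMap (topι E b hb) b) := by
  set S := (HomologicalComplex.single C (ComplexShape.up ℤ) b).obj (E.X b) with hS
  have h1 : IsIso (E.iCycles b) :=
    E.isIso_iCycles b (b + 1) (by simp) (hb.eq_of_tgt _ _)
  have h2 : IsIso (S.iCycles b) :=
    S.isIso_iCycles b (b + 1) (by simp) (HomologicalComplex.single_obj_d _ _ _ _ _)
  have h3 : IsIso ((topι E b hb).f b) := by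
    rw [topι, HomologicalComplex.mkHomFromSingle_f]
    infer_instance
  have h4 : IsIso (HomologicalComplex.cyclesMap (topι E b hb) b) := by
    have := HomologicalComplex.cyclesMap_i (topι E b hb) b
    have h5 : HomologicalComplex.cyclesMap (topι E b hb) b =
        (S.iCycles b ≫ (topι E b hb).f b) ≫ inv (E.iCycles b) := by
      rw [← this, Category.assoc, IsIso.hom_inv_id, Category.comp_id]
    rw [h5]
    infer_instance
  have h6 := HomologicalComplex.homologyπ_naturality (topι E b hb) b
  have h7 : Epi (S.homologyπ b ≫ HomologicalComplex.homologyMap (topι E b hb) b) := by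
    rw [h6]
    infer_instance
  exact epi_of_epi (S.homologyπ b) _

theorem epi_map_of_natIso {C D : Type*} [Category C] [Category D] {F G : C ⥤ D} (e : F ≅ G)
    {X Y : C} (f : X ⟶ Y) (h : Epi (G.map f)) : Epi (F.map f) := by
  have : F.map f = e.hom.app X ≫ G.map f ≫ e.inv.app Y := by simp
  rw [this]
  infer_instance

/-- The top term as a morphism in the derived category; it is an epimorphism on `H^b`. -/
theorem Q_topι_homology_epi (E : CochainComplex C ℤ) (b : ℤ) (hb : IsZero (E.X (b + 1))) :
    Epi ((homologyFunctor C b).map (Q.map (topι E b hb))) := by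
  have h := topι_homology_epi E b hb
  have h' : Epi ((HomologicalComplex.homologyFunctor C _ b).map (topι E b hb)) := h
  exact epi_map_of_natIso (homologyFunctorFactors C b) (topι E b hb) h'

end Groth.Agent.Helper5.Summand
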