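import Mathlib
import Groth.Prelude.Def_DTen5
import Groth.Agent.Lib.Helper5.DTenLib.ExtQis
import Groth.Agent.Lib.Helper5.Gen.ProjCx
import Groth.Agent.Lib.Helper5.Gen.ExtKProj
import Groth.Agent.Lib.Helper5.Gen.Sigma
import Groth.Agent.Lib.Helper5.DRing.ConeG

/-!
# Tensoring a K-projective complex with modules over a quotient

For a ring map `φ : R → A`, a K-projective complex `P` over `R` and an `A`-module `N'`, the complex
`P ⊗_R N'|_R` is the restriction of `(P ⊗_R A) ⊗_A N'`; its exactness in a given degree can be read off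
from any K-flat model of `P ⊗_R A`.
-/

set_option autoImplicit false
set_option linter.unusedSectionVars false
set_option linter.unusedVariables false
universe u
open CategoryTheory CategoryTheory.Limits MonoidalCategory
attribute [local instance] HasDerivedCategory.standard

namespace Groth.Agent.Lib.Helper5.NilTor

open DerivedCategory DTen Groth.Agent.Helper5.FlatAcyc Groth.Agent.Lib.Helper5.KFlat
  Groth.Agent.Lib.Helper5.DTenLib

section TMqis

variable {R : Type u} [CommRing R]

/-- a quasi-isomorphism between K-flat complexes stays one after tensoring with a module -/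
theorem quasiIso_TM_map {P K : DRing.Cx R} (p : P ⟶ K) (hP : DRing.IsKFlat R P)
    (hK : DRing.IsKFlat R K) (hp : QuasiIso p) (M : ModuleCat.{u} R) :
    QuasiIso ((TM M).map p) := by
  let Q : DRing.Cx R := (HomologicalComplex.single (ModuleCat.{u} R) (ComplexShape.up ℤ) 0).obj M
  have hz : ∀ n, n ≠ 0 → IsZero (Q.X n) := fun n hn =>
    HomologicalComplex.isZero_single_obj_X (ComplexShape.up ℤ) 0 M n hn
  let e : Q.X 0 ≅ M := HomologicalComplex.singleObjXSelf (ComplexShape.up ℤ) 0 M
  have h1 : QuasiIso (p ▷ Q) := quasiIso_whiskerRight_of_isKFlat p hP hK hp Q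
  have := tensorConcIso_naturality Q hz e p
  have h' : (TM M).map p =
      (tensorConcIso P Q hz e).hom ≫ (p ▷ Q) ≫ (tensorConcIso K Q hz e).inv := by
    rw [← Category.assoc, ← this, Category.assoc, Iso.hom_inv_id, Category.comp_id]
  rw [h']
  infer_instance

theorem exactAt_of_iso {C : Type*} [Category C] [Abelian C] {X Y : CochainComplex C ℤ} (e : X ≅ Y)
    (i : ℤ) (h : Y.ExactAt i) : X.ExactAt i := by
  rw [HomologicalComplex.exactAt_iff_isZero_homology] at h ⊢
  exact h.of_iso ((HomologicalComplex.homologyFunctor C (ComplexShape.up ℤ) i).mapIso e)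

theorem exactAt_of_quasiIso {C : Type*} [Category C] [Abelian C] {X Y : CochainComplex C ℤ}
    (f : X ⟶ Y) [QuasiIso f] (i : ℤ) : X.ExactAt i ↔ Y.ExactAt i := by
  rw [HomologicalComplex.exactAt_iff_isZero_homology, HomologicalComplex.exactAt_iff_isZero_homology]
  have : IsIso (HomologicalComplex.homologyMap f i) :=
    (quasiIsoAt_iff_isIso_homologyMap f i).1 inferInstance
  exact (asIso (HomologicalComplex.homologyMap f i)).isZero_iff

end TMqis

section Res

variable {R A : Type u} [CommRing R] [CommRing A] (φ : R →+* A)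

theorem exactAt_resCx (L : DRing.Cx A) (i : ℤ) (h : L.ExactAt i) :
    ((resCx φ).obj L).ExactAt i :=
  ShortComplex.Exact.map h (ModuleCat.restrictScalars.{u} φ)

/-- `P ⊗_R N'|_R ≅ ((P ⊗_R A) ⊗_A N')|_R` at the chain level -/
noncomputable def tmResIso (P : DRing.Cx R) (N' : ModuleCat.{u} A) :
    (TM ((ModuleCat.restrictScalars.{u} φ).obj N')).obj P ≅
      (resCx φ).obj ((TM N').obj ((extCx φ).obj P)) := by
  let W : DRing.Cx A := (HomologicalComplex.single (ModuleCat.{u} A) (ComplexShape.up ℤ) 0).obj N'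
  have hzW : ∀ n, n ≠ 0 → IsZero (W.X n) := fun n hn =>
    HomologicalComplex.isZero_single_obj_X (ComplexShape.up ℤ) 0 N' n hn
  let eW : W.X 0 ≅ N' := HomologicalComplex.singleObjXSelf (ComplexShape.up ℤ) 0 N'
  have hzR : ∀ n, n ≠ 0 → IsZero (((resCx φ).obj W).X n) := fun n hn =>
    (ModuleCat.restrictScalars.{u} φ).map_isZero (hzW n hn)
  let eR : ((resCx φ).obj W).X 0 ≅ (ModuleCat.restrictScalars.{u} φ).obj N' :=
    (ModuleCat.restrictScalars.{u} φ).mapIso eW
  exact tensorConcIso P ((resCx φ).obj W) hzR eR ≪≫ asIso (Helper5.Gen.pf φ P W) ≪≫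
    (resCx φ).mapIso (tensorConcIso ((extCx φ).obj P) W hzW eW).symm

/-- exactness of `P ⊗_R N'|_R` from a K-flat model of `P ⊗_R A` -/
theorem exactAt_TM_res (P : DRing.Cx R) [P.IsKProjective] (X : DRing.Cx A)
    (hX : DRing.IsKFlat A X) (e : DRing.toD ((extCx φ).obj P) ≅ DRing.toD X)
    (N' : ModuleCat.{u} A) (i : ℤ) (h : ((TM N').obj X).ExactAt i) :
    ((TM ((ModuleCat.restrictScalars.{u} φ).obj N')).obj P).ExactAt i := by
  haveI : ((extCx φ).obj P).IsKProjective := Helper5.Gen.isKProjective_extCx φ P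
  obtain ⟨g, hg⟩ := Groth.Agent.Helper5.ConeG.exists_chain_map ((extCx φ).obj P) X e.hom
  have hgq : QuasiIso g := by
    rw [← isIso_Q_map_iff_quasiIso, hg]
    infer_instance
  have hQ : DRing.IsKFlat A ((extCx φ).obj P) := Helper5.Gen.isKFlat_of_isKProjective _
  haveI := quasiIso_TM_map g hQ hX hgq N'
  have h1 : ((TM N').obj ((extCx φ).obj P)).ExactAt i :=
    (exactAt_of_quasiIso ((TM N').map g) i).2 h
  exact exactAt_of_iso (tmResIso φ P N') i (exactAt_resCx φ _ i h1)

end Res

end Groth.Agent.Lib.Helper5.NilTor
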