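import Mathlib
import Groth.Agent.Lib.Helper5.DRing.NilTorA
import Groth.Agent.Lib.Helper5.Nak.SESTensor

set_option autoImplicit false
set_option linter.unusedSectionVars false
set_option linter.unusedVariables false
universe u
open CategoryTheory CategoryTheory.Limits MonoidalCategory
attribute [local instance] HasDerivedCategory.standard

namespace Groth.Agent.Lib.Helper5.NilTor

open DerivedCategory DTen Groth.Agent.Helper5.FlatAcyc Groth.Agent.Lib.Helper5.KFlat
  Groth.Agent.Lib.Helper5.DTenLib

section Killed

variable {R A : Type u} [CommRing R] [CommRing A] (φ : R →+* A) (hφ : Function.Surjective φ)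
  (N : ModuleCat.{u} R) (hN : ∀ a ∈ RingHom.ker φ, ∀ x : N, a • x = 0)

/-- the `A`-module structure on a module killed by `ker φ` -/
@[reducible] noncomputable def modOfKilled : Module A N :=
  letI : Module (R ⧸ RingHom.ker φ) N := Module.IsTorsionBySet.module (fun x a => hN a.1 a.2 x)
  Module.compHom N ((RingHom.quotientKerEquivOfSurjective hφ).symm : A →+* R ⧸ RingHom.ker φ)

theorem modOfKilled_smul (r : R) (x : N) :
    letI := modOfKilled φ hφ N hN
    (φ r) • x = r • x := by
  letI : Module (R ⧸ RingHom.ker φ) N := Module.IsTorsionBySet.module (fun x a => hN a.1 a.2 x)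
  show ((RingHom.quotientKerEquivOfSurjective hφ).symm (φ r)) • x = r • x
  rw [RingHom.quotientKerEquivOfSurjective_symm_apply]
  exact Module.IsTorsionBySet.mk_smul _ r x

/-- a module killed by `ker φ`, as an `A`-module -/
noncomputable def killedMod : ModuleCat.{u} A :=
  @ModuleCat.of A _ N _ (modOfKilled φ hφ N hN)

/-- a module killed by `ker φ` is restricted from `A` -/
noncomputable def killedIso :
    N ≅ (ModuleCat.restrictScalars.{u} φ).obj (killedMod φ hφ N hN) :=
  LinearEquiv.toModuleIso
    (show N ≃ₗ[R] ((ModuleCat.restrictScalars.{u} φ).obj (killedMod φ hφ N hN)) from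
      { AddEquiv.refl N with
        map_smul' := fun r x => by
          letI := modOfKilled φ hφ N hN
          exact (modOfKilled_smul φ hφ N hN r x).symm })

/-- tensoring with isomorphic modules -/
noncomputable def tmObjIso {M M' : ModuleCat.{u} R} (e : M ≅ M') (P : DRing.Cx R) :
    (TM M).obj P ≅ (TM M').obj P where
  hom := _root_.Helper5.Nak.tmMap e.hom P
  inv := _root_.Helper5.Nak.tmMap e.inv P
  hom_inv_id := by
    rw [← _root_.Helper5.Nak.tmMap_comp, e.hom_inv_id]
    ext i : 1
    exact MonoidalCategory.whiskerLeft_id _ _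
  inv_hom_id := by
    rw [← _root_.Helper5.Nak.tmMap_comp, e.inv_hom_id]
    ext i : 1
    exact MonoidalCategory.whiskerLeft_id _ _

include hφ hN in
/-- exactness of `P ⊗_R N` for `N` killed by `ker φ`, from a K-flat model of `P ⊗_R A` -/
theorem exactAt_TM_of_killed (P : DRing.Cx R) [P.IsKProjective] (X : DRing.Cx A)
    (hX : DRing.IsKFlat A X) (e : DRing.toD ((extCx φ).obj P) ≅ DRing.toD X) (i : ℤ)
    (h : ∀ N' : ModuleCat.{u} A, ((TM N').obj X).ExactAt i) :
    ((TM N).obj P).ExactAt i :=
  exactAt_of_iso (tmObjIso (killedIso φ hφ N hN) P) i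
    (exactAt_TM_res φ P X hX e (killedMod φ hφ N hN) i (h _))

end Killed

end Groth.Agent.Lib.Helper5.NilTor
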