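import Mathlib
import Groth.Agent.Lib.Helper5.DRing.NilTorA2

/-!
# Filtration arguments: vanishing of `P ⊗ N` for `N` killed by `I * J` or by a power of `I`
-/

set_option autoImplicit false
set_option linter.unusedSectionVars false
set_option linter.unusedVariables false
universe u
open CategoryTheory CategoryTheory.Limits MonoidalCategory
attribute [local instance] HasDerivedCategory.standard

namespace Groth.Agent.Lib.Helper5.NilTor

open DerivedCategory Groth.Agent.Helper5.FlatAcyc

variable {R : Type u} [CommRing R]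

/-- the module `N` is killed by the ideal `I` -/
def KilledBy (I : Ideal R) (N : ModuleCat.{u} R) : Prop := ∀ a ∈ I, ∀ x : N, a • x = 0

/-- exactness of `P ⊗ -` in a given degree passes to extensions -/
theorem exactAt_TM_of_ses (P : DRing.Cx R) (hP : DRing.TermwiseFlat P)
    (S : ShortComplex (ModuleCat.{u} R)) (hS : S.ShortExact) (i : ℤ)
    (h1 : ((TM S.X₁).obj P).ExactAt i) (h3 : ((TM S.X₃).obj P).ExactAt i) :
    ((TM S.X₂).obj P).ExactAt i := by
  have hSES := _root_.Helper5.Nak.shortExact_tmMap P hP S hS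
  have hex := hSES.homology_exact₂ i
  rw [HomologicalComplex.exactAt_iff_isZero_homology] at h1 h3 ⊢
  exact hex.isZero_of_both_zeros (h1.eq_of_src _ _) (h3.eq_of_tgt _ _)

section SES

variable (N : ModuleCat.{u} R) (I : Ideal R)

/-- `0 → IN → N → N/IN → 0` -/
noncomputable abbrev SI : ShortComplex (ModuleCat.{u} R) :=
  ShortComplex.mk (ModuleCat.ofHom (I • (⊤ : Submodule R N)).subtype)
    (ModuleCat.ofHom (I • (⊤ : Submodule R N)).mkQ) (by
      ext x
      exact (Submodule.Quotient.mk_eq_zero _).2 x.2)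

lemma SI_shortExact : (SI N I).ShortExact := by
  refine { exact := ?_, mono_f := ?_, epi_g := ?_ }
  · rw [ShortComplex.ShortExact.moduleCat_exact_iff_function_exact]
    intro x
    constructor
    · intro hx
      have : x ∈ I • (⊤ : Submodule R N) := (Submodule.Quotient.mk_eq_zero _).1 hx
      exact ⟨⟨x, this⟩, rfl⟩
    · rintro ⟨y, rfl⟩
      exact (Submodule.Quotient.mk_eq_zero _).2 y.2
  · rw [ModuleCat.mono_iff_injective]
    exact Subtype.val_injective
  · rw [ModuleCat.epi_iff_surjective]
    exact Submodule.mkQ_surjective _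

lemma killedBy_quot : KilledBy I (SI N I).X₃ := by
  intro a ha x
  obtain ⟨y, rfl⟩ := Submodule.mkQ_surjective _ x
  show a • (I • (⊤ : Submodule R N)).mkQ y = 0
  rw [← map_smul]
  exact (Submodule.Quotient.mk_eq_zero _).2 (Submodule.smul_mem_smul ha Submodule.mem_top)

lemma killedBy_sub (J : Ideal R) (hN : KilledBy (I * J) N) : KilledBy J (SI N I).X₁ := by
  intro a ha x
  apply Subtype.ext
  show a • (x.1 : N) = 0
  have hx : (x.1 : N) ∈ I • (⊤ : Submodule R N) := x.2
  refine Submodule.smul_induction_on hx ?_ ?_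
  · intro r hr n _
    rw [smul_smul]
    exact hN _ (Ideal.mul_mem_mul_rev hr ha) n
  · intro y z hy hz
    rw [smul_add, hy, hz, add_zero]

end SES

/-- two ideals: vanishing for modules killed by `I` and by `J` gives vanishing for modules killed
by `I * J` -/
theorem exactAt_TM_mul (P : DRing.Cx R) (hP : DRing.TermwiseFlat P) (I J : Ideal R) (i : ℤ)
    (hI : ∀ N : ModuleCat.{u} R, KilledBy I N → ((TM N).obj P).ExactAt i)
    (hJ : ∀ N : ModuleCat.{u} R, KilledBy J N → ((TM N).obj P).ExactAt i)
    (N : ModuleCat.{u} R) (hN : KilledBy (I * J) N) : ((TM N).obj P).ExactAt i :=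
  exactAt_TM_of_ses P hP (SI N I) (SI_shortExact N I) i
    (hJ _ (killedBy_sub N I J hN)) (hI _ (killedBy_quot N I))

/-- powers of an ideal -/
theorem exactAt_TM_pow (P : DRing.Cx R) (hP : DRing.TermwiseFlat P) (I : Ideal R) (i : ℤ)
    (hI : ∀ N : ModuleCat.{u} R, KilledBy I N → ((TM N).obj P).ExactAt i) :
    ∀ (n : ℕ) (N : ModuleCat.{u} R), KilledBy (I ^ n) N → ((TM N).obj P).ExactAt i := by
  intro n
  induction n with
  | zero =>
    intro N hN
    have hz : IsZero N := by
      rw [ModuleCat.isZero_iff_subsingleton]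
      refine ⟨fun x y => ?_⟩
      have h1 := hN 1 (by rw [pow_zero, Ideal.one_eq_top]; exact Submodule.mem_top) x
      have h2 := hN 1 (by rw [pow_zero, Ideal.one_eq_top]; exact Submodule.mem_top) y
      rw [one_smul] at h1 h2
      rw [h1, h2]
    apply HomologicalComplex.ExactAt.of_isZero
    exact (tensorLeft (P.X i)).map_isZero hz
  | succ n ih =>
    intro N hN
    exact exactAt_TM_mul P hP I (I ^ n) i hI ih N (by rwa [← pow_succ'])

/-- nilpotent ideals -/
theorem exactAt_TM_nilpotent (P : DRing.Cx R) (hP : DRing.TermwiseFlat P) (I : Ideal R)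
    (hnil : IsNilpotent I) (i : ℤ)
    (hI : ∀ N : ModuleCat.{u} R, KilledBy I N → ((TM N).obj P).ExactAt i)
    (N : ModuleCat.{u} R) : ((TM N).obj P).ExactAt i := by
  obtain ⟨n, hn⟩ := hnil
  refine exactAt_TM_pow P hP I i hI n N ?_
  intro a ha x
  rw [hn] at ha
  have : a = 0 := ha
  rw [this, zero_smul]

/-- two ideals with zero product -/
theorem exactAt_TM_mul_bot (P : DRing.Cx R) (hP : DRing.TermwiseFlat P) (I J : Ideal R)
    (hIJ : I * J = ⊥) (i : ℤ)
    (hI : ∀ N : ModuleCat.{u} R, KilledBy I N → ((TM N).obj P).ExactAt i)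
    (hJ : ∀ N : ModuleCat.{u} R, KilledBy J N → ((TM N).obj P).ExactAt i)
    (N : ModuleCat.{u} R) : ((TM N).obj P).ExactAt i := by
  refine exactAt_TM_mul P hP I J i hI hJ N ?_
  intro a ha x
  rw [hIJ] at ha
  have : a = 0 := ha
  rw [this, zero_smul]

end Groth.Agent.Lib.Helper5.NilTor
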