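import Mathlib
import Groth.Agent.Lib.Helper5.DRing.NilTorB
import Groth.Agent.Lib.Helper5.KProj.LBC
import Groth.Agent.Lib.Helper5.KProj.Tri
import Groth.Agent.Lib.Helper5.TorAmp.Rep
import Groth.Agent.Lib.Helper5.TorAmp.Char
import Groth.Agent.Lib.Helper5.TorAmp.Tri
import Groth.Agent.Lib.Helper5.KFlat.Bdd
import Groth.Agent.Lib.Helper5.Nak.FlatRes

/-!
# Tor amplitude descends along surjections with nilpotent kernel / two kernels of product zero
-/

set_option autoImplicit false
set_option linter.unusedSectionVars false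
set_option linter.unusedVariables false
universe u
open CategoryTheory CategoryTheory.Limits MonoidalCategory
attribute [local instance] HasDerivedCategory.standard

namespace Groth.Agent.Lib.Helper5.NilTor

open DerivedCategory DTen Groth.Agent.Helper5.FlatAcyc Groth.Agent.Lib.Helper5.KFlat
  Groth.Agent.Lib.Helper5.KProj Groth.Agent.Helper5.TorAmp

section One

variable {R A : Type u} [CommRing R] [CommRing A] (φ : R →+* A) (hφ : Function.Surjective φ)
  [DRing.HasLBaseChange φ]

include hφ in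
/-- tor amplitude of the derived base change controls `P ⊗ N` for `N` killed by `ker φ` -/
theorem exactAt_killed_of_torAmp (P : DRing.Cx R) [P.IsKProjective] (a b : ℤ)
    (h : DRing.HasTorAmplitudeIn A a b ((DRing.LBaseChange φ).obj (DRing.toD P)))
    (N : ModuleCat.{u} R) (hN : KilledBy (RingHom.ker φ) N) (i : ℤ) (hi : i < a ∨ b < i) :
    ((TM N).obj P).ExactAt i := by
  obtain ⟨E, hE1, hE2, ⟨e⟩⟩ := h
  have hX : DRing.IsKFlat A E :=
    isKFlat_of_bounded_above E b (fun j hj => hE1 j (Or.inr hj)) hE2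
  refine exactAt_TM_of_killed φ hφ N hN P E hX ((lbcIso φ P).symm ≪≫ e.symm) i ?_
  intro N'
  apply HomologicalComplex.ExactAt.of_isZero
  exact (tensorRight N').map_isZero (hE1 i hi)

include hφ in
/-- an upper bound for the derived base change controls `P ⊗ N` for `N` killed by `ker φ` -/
theorem exactAt_killed_of_isLE (P : DRing.Cx R) [P.IsKProjective] (b : ℤ)
    [((DRing.LBaseChange φ).obj (DRing.toD P)).IsLE b]
    (N : ModuleCat.{u} R) (hN : KilledBy (RingHom.ker φ) N) (i : ℤ) (hi : b < i) :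
    ((TM N).obj P).ExactAt i := by
  obtain ⟨X, hX1, hX2, hX3, ⟨e⟩⟩ := exists_proj_rep ((DRing.LBaseChange φ).obj (DRing.toD P)) b
  have hX : DRing.IsKFlat A X :=
    isKFlat_of_bounded_above X b hX1 (termwiseFlat_of_projective X hX2)
  refine exactAt_TM_of_killed φ hφ N hN P X hX ((lbcIso φ P).symm ≪≫ e.symm) i ?_
  intro N'
  apply HomologicalComplex.ExactAt.of_isZero
  exact (tensorRight N').map_isZero (hX1 i hi)

end One

section Rep

variable {R : Type u} [CommRing R]

/-- every object of `D(R)` has a K-projective representative with flat terms -/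
theorem exists_kproj_flat_rep (L : Dual.D R) :
    ∃ P : DRing.Cx R, P.IsKProjective ∧ DRing.TermwiseFlat P ∧ Nonempty (DRing.toD P ≅ L) := by
  obtain ⟨P, f, hP, hfl, hf⟩ := _root_.Helper5.Nak.exists_kprojective_flat_resolution
    (Q.objPreimage L)
  exact ⟨P, hP, hfl, ⟨asIso (Q.map f) ≪≫ Q.objObjPreimageIso L⟩⟩

/-- universal vanishing of `P ⊗ N` outside `[a, b]` gives tor amplitude in `[a, b]`, for
K-projective complexes with flat terms (no boundedness assumed) -/
theorem hasTorAmplitudeIn_of_torVan_kproj (P : DRing.Cx R) [P.IsKProjective]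
    (hP : DRing.TermwiseFlat P) (a b : ℤ) (h : TorVan a b P) :
    DRing.HasTorAmplitudeIn R a b (DRing.toD P) := by
  haveI : (DRing.toD P).IsLE b := by
    rw [isLE_iff]
    intro i hi
    exact (exactAt_iff_isZero_H P i).1 (h.exactAt i (Or.inr hi))
  obtain ⟨P', hP'1, hP'2, hP'3, ⟨e⟩⟩ := exists_proj_rep (DRing.toD P) b
  obtain ⟨g, hg⟩ := Groth.Agent.Helper5.ConeG.exists_chain_map P' P e.hom
  have hgq : QuasiIso g := by
    rw [← isIso_Q_map_iff_quasiIso, hg]
    infer_instance
  have hfl' := termwiseFlat_of_projective P' hP'2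
  have hK' : DRing.IsKFlat R P' := isKFlat_of_bounded_above P' b hP'1 hfl'
  have hK : DRing.IsKFlat R P := _root_.Helper5.Gen.isKFlat_of_isKProjective P
  have hv : TorVan a b P' := by
    intro M i hi
    haveI := quasiIso_TM_map g hK' hK hgq M
    exact (exactAt_of_quasiIso ((TM M).map g) i).2 (h M i hi)
  exact hasTorAmplitudeIn_of_iso e ((hasTorAmplitudeIn_iff P' hfl' b hP'1 a b).2 hv)

end Rep

section Two

variable {R A₁ A₂ : Type u} [CommRing R] [CommRing A₁] [CommRing A₂]
  (φ₁ : R →+* A₁) (φ₂ : R →+* A₂) (h₁ : Function.Surjective φ₁) (h₂ : Function.Surjective φ₂)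
  (hk : RingHom.ker φ₁ * RingHom.ker φ₂ = ⊥)
  [DRing.HasLBaseChange φ₁] [DRing.HasLBaseChange φ₂]

include h₁ h₂ hk in
/-- **Tor amplitude and two ideals of product zero.** -/
theorem hasTorAmplitudeIn_of_two (L : Dual.D R) (a b : ℤ)
    (t₁ : DRing.HasTorAmplitudeIn A₁ a b ((DRing.LBaseChange φ₁).obj L))
    (t₂ : DRing.HasTorAmplitudeIn A₂ a b ((DRing.LBaseChange φ₂).obj L)) :
    DRing.HasTorAmplitudeIn R a b L := by
  obtain ⟨P, hP, hfl, ⟨e⟩⟩ := exists_kproj_flat_rep L
  have t₁' := hasTorAmplitudeIn_of_iso ((DRing.LBaseChange φ₁).mapIso e.symm) t₁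
  have t₂' := hasTorAmplitudeIn_of_iso ((DRing.LBaseChange φ₂).mapIso e.symm) t₂
  refine hasTorAmplitudeIn_of_iso e (hasTorAmplitudeIn_of_torVan_kproj P hfl a b ?_)
  intro M i hi
  exact exactAt_TM_mul_bot P hfl _ _ hk i
    (fun N hN => exactAt_killed_of_torAmp φ₁ h₁ P a b t₁' N hN i hi)
    (fun N hN => exactAt_killed_of_torAmp φ₂ h₂ P a b t₂' N hN i hi) M

include h₁ h₂ hk in
/-- upper bounds and two ideals of product zero -/
theorem isLE_of_two (L : Dual.D R) (b : ℤ)
    [((DRing.LBaseChange φ₁).obj L).IsLE b] [((DRing.LBaseChange φ₂).obj L).IsLE b] :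
    L.IsLE b := by
  obtain ⟨P, hP, hfl, ⟨e⟩⟩ := exists_kproj_flat_rep L
  haveI : ((DRing.LBaseChange φ₁).obj (DRing.toD P)).IsLE b :=
    TStructure.t.isLE_of_iso ((DRing.LBaseChange φ₁).mapIso e.symm) b
  haveI : ((DRing.LBaseChange φ₂).obj (DRing.toD P)).IsLE b :=
    TStructure.t.isLE_of_iso ((DRing.LBaseChange φ₂).mapIso e.symm) b
  have : (DRing.toD P).IsLE b := by
    rw [isLE_iff]
    intro i hi
    refine (exactAt_iff_isZero_H P i).1 ?_
    exact (exactAt_TM_mul_bot P hfl _ _ hk i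
      (fun N hN => exactAt_killed_of_isLE φ₁ h₁ P b N hN i hi)
      (fun N hN => exactAt_killed_of_isLE φ₂ h₂ P b N hN i hi) _).of_iso (tmUnitIso P)
  exact TStructure.t.isLE_of_iso e b

end Two

section Nil

variable {R A : Type u} [CommRing R] [CommRing A] (φ : R →+* A) (hφ : Function.Surjective φ)
  (hnil : IsNilpotent (RingHom.ker φ)) [DRing.HasLBaseChange φ]

include hφ hnil in
/-- **Tor amplitude descends along a nilpotent thickening.** -/
theorem hasTorAmplitudeIn_of_nilpotent (L : Dual.D R) (a b : ℤ)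
    (t : DRing.HasTorAmplitudeIn A a b ((DRing.LBaseChange φ).obj L)) :
    DRing.HasTorAmplitudeIn R a b L := by
  obtain ⟨P, hP, hfl, ⟨e⟩⟩ := exists_kproj_flat_rep L
  have t' := hasTorAmplitudeIn_of_iso ((DRing.LBaseChange φ).mapIso e.symm) t
  refine hasTorAmplitudeIn_of_iso e (hasTorAmplitudeIn_of_torVan_kproj P hfl a b ?_)
  intro M i hi
  exact exactAt_TM_nilpotent P hfl _ hnil i
    (fun N hN => exactAt_killed_of_torAmp φ hφ P a b t' N hN i hi) M

include hφ hnil in
theorem isLE_of_nilpotent (L : Dual.D R) (b : ℤ) [((DRing.LBaseChange φ).obj L).IsLE b] :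
    L.IsLE b := by
  obtain ⟨P, hP, hfl, ⟨e⟩⟩ := exists_kproj_flat_rep L
  haveI : ((DRing.LBaseChange φ).obj (DRing.toD P)).IsLE b :=
    TStructure.t.isLE_of_iso ((DRing.LBaseChange φ).mapIso e.symm) b
  have : (DRing.toD P).IsLE b := by
    rw [isLE_iff]
    intro i hi
    refine (exactAt_iff_isZero_H P i).1 ?_
    exact (exactAt_TM_nilpotent P hfl _ hnil i
      (fun N hN => exactAt_killed_of_isLE φ hφ P b N hN i hi) _).of_iso (tmUnitIso P)
  exact TStructure.t.isLE_of_iso e b

end Nil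

end Groth.Agent.Lib.Helper5.NilTor
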