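import Groth.Agent.Lib.Helper5.DRing.ConeG
import Mathlib

set_option autoImplicit false
set_option linter.unusedSectionVars false
universe w v u
open CategoryTheory Limits Pretriangulated DerivedCategory

namespace Groth.Agent.Helper5.Summand

variable {C : Type u} [Category.{v} C] [Abelian C] [HasDerivedCategory.{w} C]

/-- `X` is represented by a complex with terms in `P` vanishing outside `[a, b]`. -/
def Amp (P : ObjectProperty C) (a b : ℤ) (X : DerivedCategory C) : Prop :=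
  ∃ E : CochainComplex C ℤ, (∀ i : ℤ, P (E.X i)) ∧ (∀ i : ℤ, i < a ∨ b < i → IsZero (E.X i)) ∧
    Nonempty (Q.obj E ≅ X)

variable {P : ObjectProperty C}

theorem Amp.of_iso {a b : ℤ} {X Y : DerivedCategory C} (h : Amp P a b X) (e : X ≅ Y) :
    Amp P a b Y := by
  obtain ⟨E, h1, h2, ⟨f⟩⟩ := h
  exact ⟨E, h1, h2, ⟨f ≪≫ e⟩⟩

theorem Amp.mono {a b a' b' : ℤ} {X : DerivedCategory C} (h : Amp P a b X) (ha : a' ≤ a)
    (hb : b ≤ b') : Amp P a' b' X := by
  obtain ⟨E, h1, h2, h3⟩ := h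
  exact ⟨E, h1, fun i hi => h2 i (by omega), h3⟩

theorem Amp.shift {a b : ℤ} {X : DerivedCategory C} (h : Amp P a b X) (n : ℤ) :
    Amp P (a - n) (b - n) (X⟦n⟧) := by
  obtain ⟨E, h1, h2, ⟨f⟩⟩ := h
  refine ⟨E⟦n⟧, fun i => h1 (i + n), fun i hi => h2 (i + n) (by omega),
    ⟨(Q.commShiftIso n).app E ≪≫ (shiftFunctor _ n).mapIso f⟩⟩

theorem Amp.isLE {a b : ℤ} {X : DerivedCategory C} (h : Amp P a b X) : X.IsLE b := by
  obtain ⟨E, h1, h2, ⟨f⟩⟩ := h
  have : E.IsStrictlyLE b := by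
    rw [CochainComplex.isStrictlyLE_iff]
    exact fun i hi => h2 i (Or.inr hi)
  exact TStructure.t.isLE_of_iso f b

theorem Amp.isGE {a b : ℤ} {X : DerivedCategory C} (h : Amp P a b X) : X.IsGE a := by
  obtain ⟨E, h1, h2, ⟨f⟩⟩ := h
  have : E.IsStrictlyGE a := by
    rw [CochainComplex.isStrictlyGE_iff]
    exact fun i hi => h2 i (Or.inl hi)
  exact TStructure.t.isGE_of_iso f a

/-- cone of a morphism between objects with amplitude -/
theorem Amp.cone [P.IsClosedUnderIsomorphisms] (hproj : ∀ X, P X → Projective X)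
    (hsum : ∀ X Y : C, P X → P Y → P (X ⊞ Y))
    (T : Triangle (DerivedCategory C)) (hT : T ∈ distTriang _) {a₁ b₁ a₂ b₂ : ℤ}
    (h₁ : Amp P a₁ b₁ T.obj₁) (h₂ : Amp P a₂ b₂ T.obj₂) :
    Amp P (min (a₁ - 1) a₂) (max (b₁ - 1) b₂) T.obj₃ := by
  obtain ⟨E, hE1, hE2, ⟨e₁⟩⟩ := h₁
  obtain ⟨F, hF1, hF2, ⟨e₂⟩⟩ := h₂
  have : E.IsKProjective := by
    have : E.IsStrictlyLE b₁ := by
      rw [CochainComplex.isStrictlyLE_iff]
      exact fun i hi => hE2 i (Or.inr hi)
    have : ∀ n, Projective (E.X n) := fun n => hproj _ (hE1 n)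
    exact CochainComplex.isKProjective_of_projective E b₁
  obtain ⟨φ, ⟨e⟩⟩ := ConeG.cone_iso T hT E F (ConeG.exists_chain_map E F) e₁ e₂
  refine ⟨CochainComplex.mappingCone φ, ?_, ?_, ⟨e⟩⟩
  · intro i
    let e' : (CochainComplex.mappingCone φ).X i ≅ E.X (i+1) ⊞ F.X i :=
      HomologicalComplex.homotopyCofiber.XIsoBiprod φ i (i + 1) rfl
    exact P.prop_of_iso e'.symm (hsum _ _ (hE1 _) (hF1 _))
  · intro i hi
    rw [CochainComplex.mappingCone.isZero_X_iff]
    rcases hi with hi | hi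
    · exact ⟨hE2 _ (Or.inl (by have := min_le_left (a₁ - 1) a₂; omega)),
        hF2 _ (Or.inl (by have := min_le_right (a₁ - 1) a₂; omega))⟩
    · exact ⟨hE2 _ (Or.inr (by have := le_max_left (b₁ - 1) b₂; omega)),
        hF2 _ (Or.inr (by have := le_max_right (b₁ - 1) b₂; omega))⟩

/-- single objects -/
theorem Amp.single [P.ContainsZero] [P.IsClosedUnderIsomorphisms] (b : ℤ) (Y : C) (hY : P Y) :
    Amp P b b ((singleFunctor C b).obj Y) := by
  refine ⟨(HomologicalComplex.single C (ComplexShape.up ℤ) b).obj Y, ?_, ?_,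
    ⟨((singleFunctorIsoCompQ C b).app Y).symm⟩⟩
  · intro i
    by_cases hi : i = b
    · subst hi
      exact P.prop_of_iso (HomologicalComplex.singleObjXSelf (ComplexShape.up ℤ) i Y).symm hY
    · exact P.prop_of_isZero (HomologicalComplex.isZero_single_obj_X (ComplexShape.up ℤ) b Y i hi)
  · intro i hi
    exact HomologicalComplex.isZero_single_obj_X (ComplexShape.up ℤ) b Y i (by omega)

end Groth.Agent.Helper5.Summand
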