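import Groth.Agent.Lib.Helper5.DRing.AmpStep
import Mathlib

set_option autoImplicit false
set_option linter.unusedSectionVars false
universe w v u
open CategoryTheory Limits Pretriangulated DerivedCategory

namespace Groth.Agent.Helper5.Summand

variable {C : Type u} [Category.{v} C] [Abelian C] [HasDerivedCategory.{w} C]
variable {P : ObjectProperty C} [P.ContainsZero] [P.IsClosedUnderIsomorphisms]

theorem Amp.retract_nat (H : Hyp P) (n : ℕ) : ∀ (a : ℤ) {X K : DerivedCategory C} (i : K ⟶ X)
    (r : X ⟶ K), i ≫ r = 𝟙 K → Amp P a (a + n) X → Amp P a (a + n) K := by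
  induction n with
  | zero =>
    intro a X K i r hir hX
    have h0 : a + ((0 : ℕ) : ℤ) = a := by simp
    rw [h0] at hX ⊢
    exact Amp.retract_base H i r hir hX
  | succ n ih =>
    intro a X K i r hir hX
    have hab : a < a + ((n + 1 : ℕ) : ℤ) := by push_cast; omega
    refine Amp.retract_step H hab ?_ i r hir hX
    intro X K i r hir hX
    have h1 : a + ((n + 1 : ℕ) : ℤ) - 1 = a + n := by push_cast; omega
    rw [h1] at hX ⊢
    exact ih a i r hir hX

/-- Retracts of objects of perfect amplitude in `[a, b]` have perfect amplitude in `[a, b]`. -/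
theorem Amp.retract (H : Hyp P) {a b : ℤ} (hab : a ≤ b) {X K : DerivedCategory C} (i : K ⟶ X)
    (r : X ⟶ K) (hir : i ≫ r = 𝟙 K) (hX : Amp P a b X) : Amp P a b K := by
  obtain ⟨n, hn⟩ := Int.eq_ofNat_of_zero_le (show 0 ≤ b - a by omega)
  have hb : b = a + n := by omega
  rw [hb] at hX ⊢
  exact Amp.retract_nat H n a i r hir hX

theorem Amp.summand (H : Hyp P) {a b : ℤ} (hab : a ≤ b) {K L : DerivedCategory C}
    [HasBinaryBiproduct K L] (h : Amp P a b (K ⊞ L)) : Amp P a b K ∧ Amp P a b L :=
  ⟨Amp.retract H hab biprod.inl biprod.fst biprod.inl_fst h,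
    Amp.retract H hab biprod.inr biprod.snd biprod.inr_snd h⟩

end Groth.Agent.Helper5.Summand
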