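import Groth.Agent.Lib.Helper5.DRing.AmpTop
import Mathlib

set_option autoImplicit false
set_option linter.unusedSectionVars false
universe w v u
open CategoryTheory Limits Pretriangulated DerivedCategory

namespace Groth.Agent.Helper5.Summand

variable {C : Type u} [Category.{v} C] [Abelian C] [HasDerivedCategory.{w} C]

/-- Hypotheses on the class `P` ("liftable, stable under kernels of epis and direct factors"). -/
structure Hyp (P : ObjectProperty C) : Prop where
  proj : ∀ X, P X → Projective X
  sum : ∀ X Y : C, P X → P Y → P (X ⊞ Y)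
  ker : ∀ (E F : C) (u : E ⟶ F), Epi u → P E → P F → P (kernel u)
  fac : ∀ (X Y : C), P (X ⊞ Y) → P X

variable {P : ObjectProperty C} [P.ContainsZero] [P.IsClosedUnderIsomorphisms]

theorem isZero_of_retract {D : Type*} [Category D] [HasZeroMorphisms D] {K X : D} (i : K ⟶ X)
    (r : X ⟶ K) (hir : i ≫ r = 𝟙 K) (hX : IsZero X) : IsZero K := by
  rw [IsZero.iff_id_eq_zero, ← hir, hX.eq_of_tgt i 0, zero_comp]

/-- A retract (in `C`) of an object of `P` is in `P`. -/
theorem Hyp.retract (H : Hyp P) {K M : C} (j : K ⟶ M) (q : M ⟶ K) (hjq : j ≫ q = 𝟙 K)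
    (hM : P M) : P K := by
  have : Mono j := mono_of_mono_fac hjq
  let S : ShortComplex C := ShortComplex.mk j (cokernel.π j) (cokernel.condition j)
  have hS : S.Exact := ShortComplex.exact_cokernel j
  have hg : Epi S.g := inferInstanceAs (Epi (cokernel.π j))
  let spl : S.Splitting := ShortComplex.Splitting.ofExactOfRetraction S hS q hjq hg
  have e : M ≅ K ⊞ cokernel j := spl.isoBinaryBiproduct
  exact H.fac _ _ (P.prop_of_iso e hM)

theorem Amp.retract_base (H : Hyp P) {a : ℤ} {X K : DerivedCategory C} (i : K ⟶ X) (r : X ⟶ K)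
    (hir : i ≫ r = 𝟙 K) (hX : Amp P a a X) : Amp P a a K := by
  have hXge := hX.isGE
  have hXle := hX.isLE
  obtain ⟨E, h1, h2, ⟨f⟩⟩ := hX
  have : E.IsStrictlyGE a := by
    rw [CochainComplex.isStrictlyGE_iff]
    exact fun i hi => h2 i (Or.inl hi)
  have : E.IsStrictlyLE a := by
    rw [CochainComplex.isStrictlyLE_iff]
    exact fun i hi => h2 i (Or.inr hi)
  obtain ⟨M, ⟨eM⟩⟩ := CochainComplex.exists_iso_single E a
  have hM : P M := P.prop_of_iso ((HomologicalComplex.eval _ _ a).mapIso eM ≪≫
    HomologicalComplex.singleObjXSelf (ComplexShape.up ℤ) a M) (h1 a)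
  have eX : X ≅ (singleFunctor C a).obj M :=
    f.symm ≪≫ Q.mapIso eM ≪≫ ((singleFunctorIsoCompQ C a).app M).symm
  have hHir : ∀ n : ℤ, (homologyFunctor C n).map i ≫ (homologyFunctor C n).map r = 𝟙 _ := by
    intro n
    rw [← Functor.map_comp, hir, CategoryTheory.Functor.map_id]
  have hKge : K.IsGE a := by
    rw [isGE_iff]
    intro n hn
    exact isZero_of_retract _ _ (hHir n) (isZero_of_isGE X a n hn)
  have hKle : K.IsLE a := by
    rw [isLE_iff]
    intro n hn
    exact isZero_of_retract _ _ (hHir n) (isZero_of_isLE X a n hn)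
  obtain ⟨Y, ⟨eY⟩⟩ := exists_iso_singleFunctor_obj_of_isGE_of_isLE K a
  have e1 : (homologyFunctor C a).obj X ≅ M :=
    (homologyFunctor C a).mapIso eX ≪≫ (singleFunctorCompHomologyFunctorIso C a).app M
  have e2 : (homologyFunctor C a).obj K ≅ Y :=
    (homologyFunctor C a).mapIso eY ≪≫ (singleFunctorCompHomologyFunctorIso C a).app Y
  have hHK : P ((homologyFunctor C a).obj K) :=
    H.retract ((homologyFunctor C a).map i ≫ e1.hom) (e1.inv ≫ (homologyFunctor C a).map r)
      (by simp [hHir a]) hM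
  exact (Amp.single a Y (P.prop_of_iso e2 hHK)).of_iso eY.symm

end Groth.Agent.Helper5.Summand
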