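import Groth.Agent.Lib.Helper5.DRing.AmpRetract
import Mathlib

set_option autoImplicit false
set_option linter.unusedSectionVars false
universe w v u
open CategoryTheory Limits Pretriangulated DerivedCategory

namespace Groth.Agent.Helper5.Summand

variable {C : Type u} [Category.{v} C] [Abelian C] [HasDerivedCategory.{w} C]
variable {P : ObjectProperty C} [P.ContainsZero] [P.IsClosedUnderIsomorphisms]

attribute [local instance] preservesBinaryBiproducts_of_preservesBiproducts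

/-- biproducts of objects with amplitude -/
theorem Amp.biprod (hsum : ∀ X Y : C, P X → P Y → P (X ⊞ Y)) {a b : ℤ}
    {X Y : DerivedCategory C} [HasBinaryBiproduct X Y] (hX : Amp P a b X) (hY : Amp P a b Y) :
    Amp P a b (X ⊞ Y) := by
  obtain ⟨E, h1, h2, ⟨f⟩⟩ := hX
  obtain ⟨F, h1', h2', ⟨f'⟩⟩ := hY
  refine ⟨E ⊞ F, ?_, ?_, ⟨Q.mapBiprod E F ≪≫ biprod.mapIso f f'⟩⟩
  · intro i
    exact P.prop_of_iso ((HomologicalComplex.eval C (ComplexShape.up ℤ) i).mapBiprod E F).symm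
      (hsum _ _ (h1 i) (h1' i))
  · intro i hi
    refine IsZero.of_iso ?_ ((HomologicalComplex.eval C (ComplexShape.up ℤ) i).mapBiprod E F)
    have hE := h2 i hi
    have hF := h2' i hi
    rw [IsZero.iff_id_eq_zero]
    apply biprod.hom_ext
    · exact hE.eq_of_tgt _ _
    · exact hF.eq_of_tgt _ _


theorem Amp.retract_step (H : Hyp P) {a b : ℤ} (hab : a < b)
    (ih : ∀ {X K : DerivedCategory C} (i : K ⟶ X) (r : X ⟶ K), i ≫ r = 𝟙 K →
      Amp P a (b - 1) X → Amp P a (b - 1) K)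
    {X K : DerivedCategory C} (i : K ⟶ X) (r : X ⟶ K) (hir : i ≫ r = 𝟙 K)
    (hX : Amp P a b X) : Amp P a b K := by
  have hX0 := hX
  obtain ⟨E, h1, h2, ⟨f⟩⟩ := hX
  have hb1 : IsZero (E.X (b + 1)) := h2 _ (Or.inr (by omega))
  let S : DerivedCategory C := Q.obj ((HomologicalComplex.single C (ComplexShape.up ℤ) b).obj (E.X b))
  have hS : Amp P b b S := (Amp.single b (E.X b) (h1 b)).of_iso ((singleFunctorIsoCompQ C b).app _)
  have hSS : Amp P b b (S ⊞ S) := Amp.biprod H.sum hS hS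
  let ι : S ⟶ X := Q.map (topι E b hb1) ≫ f.hom
  have hι : Epi ((homologyFunctor C b).map ι) := by
    have := Q_topι_homology_epi E b hb1
    rw [Functor.map_comp]
    infer_instance
  let e : X ⟶ X := r ≫ i
  let ψ : S ⊞ S ⟶ X := biprod.desc (ι ≫ e) (ι ≫ (𝟙 X - e))
  let φ : S ⟶ K := ι ≫ r
  obtain ⟨K', g₁, k₁, hT₁⟩ := distinguished_cocone_triangle φ
  obtain ⟨X', g₂, k₂, hT₂⟩ := distinguished_cocone_triangle ψ
  have c1 : φ ≫ i = biprod.inl ≫ ψ := by simp [φ, ψ, e]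
  have c2 : ψ ≫ r = biprod.fst ≫ φ := by
    apply biprod.hom_ext'
    · simp [ψ, φ, e, hir]
    · simp [ψ, φ, e, hir, Preadditive.sub_comp, Preadditive.comp_sub]
  obtain ⟨u, hu1, hu2⟩ : ∃ u : K' ⟶ X', g₁ ≫ u = i ≫ g₂ ∧
      k₁ ≫ (shiftFunctor (DerivedCategory C) (1 : ℤ)).map biprod.inl = u ≫ k₂ :=
    complete_distinguished_triangle_morphism _ _ hT₁ hT₂ biprod.inl i c1
  obtain ⟨v, hv1, hv2⟩ : ∃ v : X' ⟶ K', g₂ ≫ v = r ≫ g₁ ∧
      k₂ ≫ (shiftFunctor (DerivedCategory C) (1 : ℤ)).map biprod.fst = v ≫ k₁ :=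
    complete_distinguished_triangle_morphism _ _ hT₂ hT₁ biprod.fst r c2
  have cm1 : φ ≫ (i ≫ r) = ((biprod.inl : S ⟶ S ⊞ S) ≫ biprod.fst) ≫ φ := by
    rw [biprod.inl_fst, hir, Category.id_comp, Category.comp_id]
  have cm2 : g₁ ≫ (u ≫ v) = (i ≫ r) ≫ g₁ := by
    rw [reassoc_of% hu1, hv1, Category.assoc]
  have cm3 : k₁ ≫ (shiftFunctor (DerivedCategory C) (1 : ℤ)).map
      ((biprod.inl : S ⟶ S ⊞ S) ≫ biprod.fst) =
      (u ≫ v) ≫ k₁ := by
    rw [Category.assoc, ← hv2, ← reassoc_of% hu2, ← Functor.map_comp]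
  let Φ : Triangle.mk φ g₁ k₁ ⟶ Triangle.mk φ g₁ k₁ :=
    { hom₁ := (biprod.inl : S ⟶ S ⊞ S) ≫ biprod.fst
      hom₂ := i ≫ r
      hom₃ := u ≫ v
      comm₁ := cm1
      comm₂ := cm2
      comm₃ := cm3 }
  have huv : IsIso (u ≫ v) := by
    refine isIso₃_of_isIso₁₂ Φ hT₁ hT₁ ?_ ?_
    · have : Φ.hom₁ = 𝟙 S := biprod.inl_fst
      change IsIso Φ.hom₁
      rw [this]; exact IsIso.id _
    · have : Φ.hom₂ = 𝟙 K := hir
      change IsIso Φ.hom₂
      rw [this]; exact IsIso.id _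
  -- `X'` has amplitude in `[a, b - 1]`
  have hX'0 : Amp P (min (b - 1) a) (max (b - 1) b) X' := Amp.cone H.proj H.sum _ hT₂ hSS hX0
  have hX'1 : Amp P a b X' := hX'0.mono (le_min (by omega) le_rfl) (max_le (by omega) le_rfl)
  have hψ : Epi ((homologyFunctor C b).map ψ) := by
    apply Preadditive.epi_of_cancel_zero
    intro Z g hg
    have e1 : (homologyFunctor C b).map (ι ≫ e) ≫ g = 0 := by
      have : ι ≫ e = biprod.inl ≫ ψ := by simp [ψ]
      rw [this, Functor.map_comp, Category.assoc, hg, comp_zero]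
    have e2 : (homologyFunctor C b).map (ι ≫ (𝟙 X - e)) ≫ g = 0 := by
      have : ι ≫ (𝟙 X - e) = biprod.inr ≫ ψ := by simp [ψ]
      rw [this, Functor.map_comp, Category.assoc, hg, comp_zero]
    have e3 : ι = ι ≫ e + ι ≫ (𝟙 X - e) := by
      rw [← Preadditive.comp_add]; simp
    have e4 : (homologyFunctor C b).map ι ≫ g = 0 := by
      rw [e3, Functor.map_add, Preadditive.add_comp, e1, e2, add_zero]
    exact (cancel_epi _).1 (e4.trans comp_zero.symm)
  have hX'b : IsZero ((homologyFunctor C b).obj X') := by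
    have z1 : (homologyFunctor C b).map g₂ = 0 :=
      (HomologySequence.epi_homologyMap_mor₁_iff _ hT₂ b).1 hψ
    have hle := hSS.isLE
    have z2 : Epi ((homologyFunctor C b).map g₂) :=
      (HomologySequence.epi_homologyMap_mor₂_iff _ hT₂ b (b + 1) rfl).2
        ((isZero_of_isLE (S ⊞ S) b (b + 1) (by omega)).eq_of_tgt _ _)
    exact IsZero.of_epi_eq_zero _ z1
  have hX' : Amp P a (b - 1) X' := hX'1.truncTop H.ker hab hX'b
  have hK' : Amp P a (b - 1) K' :=
    ih u (v ≫ inv (u ≫ v)) (by rw [← Category.assoc, IsIso.hom_inv_id]) hX'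
  -- conclude by the rotated triangle
  have hrot := inv_rot_of_distTriang _ hT₁
  have h3 := Amp.cone H.proj H.sum _ hrot (hK'.shift (-1)) hS
  exact h3.mono (le_min (by omega) (by omega)) (max_le (by omega) le_rfl)

end Groth.Agent.Helper5.Summand
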