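import Mathlib
import Groth.Agent.Lib.Helper5.DRing.ToInj

set_option autoImplicit false
universe w v u
open CategoryTheory Limits Pretriangulated DerivedCategory ZeroObject

namespace Groth.Agent.Helper5.InjAmpGen

variable {C : Type u} [Category.{v} C] [Abelian C] [HasDerivedCategory.{w} C]

/-- an object placed in degree `i` -/
noncomputable abbrev S (i : ℤ) (N : C) : CochainComplex C ℤ :=
  (HomologicalComplex.single C (ComplexShape.up ℤ) i).obj N

/-- the natural identification `M[0][-a] ≅ Q (M placed in degree a)` -/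
noncomputable def θ (a : ℤ) (M : C) :
    (shiftFunctor (DerivedCategory C) (-a)).obj ((singleFunctor C 0).obj M) ≅ Q.obj (S a M) :=
  ((singleFunctors C).shiftIso (-a) a 0 (by omega)).app M ≪≫
    (singleFunctorIsoCompQ C a).app M

/-- `Hom(N[0], K[i]) ≃ Hom(N[-i], K)` -/
noncomputable def extEquiv (N : C) (K : DerivedCategory C) (i : ℤ) :
    ((singleFunctor C 0).obj N ⟶ K⟦i⟧) ≃ (Q.obj (S i N) ⟶ K) :=
  ((shiftEquiv' (DerivedCategory C) (-i) i (by omega)).toAdjunction.homEquiv _ _).symm.trans
    ((θ i N).homFromEquiv)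

theorem subsingleton_ext_iff (N : C) (K : DerivedCategory C) (i : ℤ) :
    (∀ φ : (singleFunctor C 0).obj N ⟶ K⟦i⟧, φ = 0) ↔ ∀ ψ : Q.obj (S i N) ⟶ K, ψ = 0 := by
  have h := (extEquiv N K i).subsingleton_congr
  constructor
  · intro h1 ψ
    have : Subsingleton ((singleFunctor C 0).obj N ⟶ K⟦i⟧) :=
      ⟨fun x y => by rw [h1 x, h1 y]⟩
    have := h.1 this
    exact Subsingleton.elim _ _
  · intro h1 φ
    have : Subsingleton (Q.obj (S i N) ⟶ K) := ⟨fun x y => by rw [h1 x, h1 y]⟩
    have := h.2 this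
    exact Subsingleton.elim _ _

/-- the chain map `N[-i] ⟶ P` attached to `l : N ⟶ P^i` with `d ∘ l = 0` -/
noncomputable abbrev fromSingle (P : CochainComplex C ℤ) (i : ℤ) {N : C} (l : N ⟶ P.X i)
    (hl : l ≫ P.d i (i + 1) = 0) : S i N ⟶ P :=
  HomologicalComplex.mkHomFromSingle l (fun j hj => by
    obtain rfl : j = i + 1 := by simp at hj; omega
    exact hl)

omit [HasDerivedCategory.{w} C] in
theorem exists_lift_of_homotopy (P : CochainComplex C ℤ) (i : ℤ) {N : C} (l : N ⟶ P.X i)
    (hl : l ≫ P.d i (i + 1) = 0) (H : Homotopy (fromSingle P i l hl) 0) (j : ℤ) (hj : j + 1 = i) :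
    ∃ s : N ⟶ P.X j, l = s ≫ P.d j i := by
  have h1 := H.comm i
  rw [HomologicalComplex.mkHomFromSingle_f,
    dNext_eq _ (show (ComplexShape.up ℤ).Rel i (i + 1) from rfl),
    prevD_eq _ (show (ComplexShape.up ℤ).Rel j i from hj), HomologicalComplex.zero_f,
    add_zero, HomologicalComplex.single_obj_d, zero_comp, zero_add] at h1
  refine ⟨(HomologicalComplex.singleObjXSelf (ComplexShape.up ℤ) i N).inv ≫ H.hom i j, ?_⟩
  rw [Category.assoc, ← h1, Iso.inv_hom_id_assoc]

/-- `Hom(F[-i], P) = 0` for all `F` implies `H^i(P) = 0` -/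
theorem exactAt_of_hom_eq_zero (P : CochainComplex C ℤ) (i : ℤ)
    (h : ∀ (F : C) (ψ : Q.obj (S i F) ⟶ Q.obj P), ψ = 0) : P.ExactAt i := by
  have hl : P.iCycles i ≫ P.d i (i + 1) = 0 := by simp
  let ψ := fromSingle P i (P.iCycles i) hl
  have h0 : Q.map ψ = 0 := h _ _
  have h1 : HomologicalComplex.homologyMap ψ i = 0 := by
    have nat := (homologyFunctorFactors C i).hom.naturality ψ
    have h5 : (Q ⋙ homologyFunctor C i).map ψ = 0 := by
      rw [Functor.comp_map, h0, Functor.map_zero]
    rw [h5, zero_comp] at nat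
    exact (cancel_epi ((homologyFunctorFactors C i).hom.app _)).1
      (nat.symm.trans comp_zero.symm)
  have h2 : HomologicalComplex.cyclesMap ψ i =
      (HomologicalComplex.singleObjCyclesSelfIso (ComplexShape.up ℤ) i (P.cycles i)).hom := by
    rw [← cancel_mono (P.iCycles i), HomologicalComplex.cyclesMap_i,
      HomologicalComplex.singleObjCyclesSelfIso_hom, HomologicalComplex.mkHomFromSingle_f,
      Category.assoc]
  have h3 : P.homologyπ i = 0 := by
    have := HomologicalComplex.homologyπ_naturality ψ i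
    rw [h1, comp_zero, h2] at this
    rw [← cancel_epi (HomologicalComplex.singleObjCyclesSelfIso (ComplexShape.up ℤ) i
      (P.cycles i)).hom, ← this, comp_zero]
  rw [HomologicalComplex.exactAt_iff_isZero_homology]
  exact IsZero.of_epi_eq_zero _ h3

/-- top cycles of a K-injective complex are injective under Ext-vanishing -/
theorem injective_cycles (J : CochainComplex C ℤ) [J.IsKInjective] (b : ℤ) [Injective (J.X b)]
    (h : ∀ (F : C) (ψ : Q.obj (S (b + 1) F) ⟶ Q.obj J), ψ = 0) : Injective (J.cycles b) := by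
  constructor
  intro X Y g f _
  let g₁ : Y ⟶ J.X b := Injective.factorThru (g ≫ J.iCycles b) f
  have hg₁ : f ≫ g₁ = g ≫ J.iCycles b := Injective.comp_factorThru _ _
  have hz : f ≫ g₁ ≫ J.d b (b + 1) = 0 := by rw [reassoc_of% hg₁]; simp
  let hh : cokernel f ⟶ J.X (b + 1) := cokernel.desc f (g₁ ≫ J.d b (b + 1)) hz
  have hhπ : cokernel.π f ≫ hh = g₁ ≫ J.d b (b + 1) := cokernel.π_desc _ _ _
  have hl : hh ≫ J.d (b + 1) (b + 1 + 1) = 0 := by
    rw [← cancel_epi (cokernel.π f), reassoc_of% hhπ, J.d_comp_d, comp_zero, comp_zero]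
  have h0 : Q.map (fromSingle J (b + 1) hh hl) = Q.map 0 := by
    rw [h _ (Q.map _), Functor.map_zero]
  obtain ⟨H⟩ := ToInj.nonempty_homotopy_of_Q_map_eq _ _ h0
  obtain ⟨s, hs⟩ := exists_lift_of_homotopy J (b + 1) _ hl H b rfl
  let g' : Y ⟶ J.X b := g₁ - cokernel.π f ≫ s
  have hg' : g' ≫ J.d b (b + 1) = 0 := by
    simp only [g', Preadditive.sub_comp, Category.assoc, ← hs, hhπ, sub_self]
  refine ⟨J.liftCycles g' (b + 1) (by simp) hg', ?_⟩
  rw [← cancel_mono (J.iCycles b), Category.assoc, J.liftCycles_i]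
  simp only [g', Preadditive.comp_sub, cokernel.condition_assoc, zero_comp, sub_zero, hg₁]

theorem s12537 [EnoughInjectives C] (X : DerivedCategory C) (a b : ℤ) :
    (∀ (F : C) (i : ℤ), (i < a ∨ b < i) →
        ∀ φ : (singleFunctor C 0).obj F ⟶ (shiftFunctor (DerivedCategory C) i).obj X, φ = 0) ↔
      ∃ I : CochainComplex C ℤ, (∀ i, Injective (I.X i)) ∧
        (∀ i, (i < a ∨ b < i) → IsZero (I.X i)) ∧ Nonempty (Q.obj I ≅ X) := by
  constructor
  · intro h
    have h' : ∀ (F : C) (i : ℤ), (i < a ∨ b < i) → ∀ ψ : Q.obj (S i F) ⟶ X, ψ = 0 :=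
      fun F i hi => (subsingleton_ext_iff F X i).1 (h F i hi)
    have hH : ∀ i, (i < a ∨ b < i) → IsZero ((homologyFunctor C i).obj X) := by
      intro i hi
      let P : CochainComplex C ℤ := Q.objPreimage X
      let eP : Q.obj P ≅ X := Q.objObjPreimageIso X
      have hex := exactAt_of_hom_eq_zero P i (fun F ψ => by
        have := h' F i hi (ψ ≫ eP.hom)
        rw [← cancel_mono eP.hom, this, zero_comp])
      rw [HomologicalComplex.exactAt_iff_isZero_homology] at hex
      exact (hex.of_iso ((homologyFunctorFactors C i).app P)).of_iso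
        ((homologyFunctor C i).mapIso eP.symm)
    have hGE : X.IsGE a := by
      rw [isGE_iff]
      exact fun i hi => hH i (Or.inl hi)
    obtain ⟨P, hP, ⟨eP⟩⟩ := exists_iso_Q_obj_of_isGE X a
    obtain ⟨J, ι, hι, hJ, hJa⟩ :=
      CochainComplex.Plus.modelCategoryQuillen.exists_quasiIso_injective P a
    let eJ : Q.obj J ≅ X := (asIso (Q.map ι)).symm ≪≫ eP.symm
    have : J.IsKInjective := CochainComplex.isKInjective_of_injective J a
    have hex : ∀ i, b < i → J.ExactAt i := by
      intro i hi
      rw [HomologicalComplex.exactAt_iff_isZero_homology]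
      exact ((hH i (Or.inr hi)).of_iso ((homologyFunctor C i).mapIso eJ)).of_iso
        ((homologyFunctorFactors C i).app J).symm
    have hLE : J.IsLE b := by
      rw [CochainComplex.isLE_iff]
      exact hex
    have hq : QuasiIso (J.ιTruncLE b) := inferInstance
    refine ⟨J.truncLE b, ?_, ?_, ⟨asIso (Q.map (J.ιTruncLE b)) ≪≫ eJ⟩⟩
    · intro i
      rcases lt_trichotomy i b with h3 | h3 | h3
      · exact Injective.of_iso (J.truncLEXIso b i h3).symm (hJ i)
      · subst h3
        have := hJ i
        have h4 : Injective (J.cycles i) := by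
          apply injective_cycles J i
          intro F ψ
          have := h' F (i + 1) (Or.inr (by omega)) (ψ ≫ eJ.hom)
          rw [← cancel_mono eJ.hom, this, zero_comp]
        exact Injective.of_iso (J.truncLEXIsoCycles i).symm h4
      · exact ((J.truncLE b).isZero_of_isStrictlyLE b i h3).injective
    · intro i hi
      rcases hi with hi | hi
      · rcases lt_trichotomy i b with h3 | h3 | h3
        · exact (J.isZero_of_isStrictlyGE a i hi).of_iso (J.truncLEXIso b i h3)
        · subst h3
          refine IsZero.of_iso ?_ (J.truncLEXIsoCycles i)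
          exact IsZero.of_mono (J.iCycles i) (J.isZero_of_isStrictlyGE a i hi)
        · exact (J.truncLE b).isZero_of_isStrictlyLE b i h3
      · exact (J.truncLE b).isZero_of_isStrictlyLE b i hi
  · rintro ⟨I, h1, h2, ⟨e⟩⟩ F i hi
    refine (subsingleton_ext_iff F X i).2 (fun ψ => ?_)
    have : I.IsStrictlyGE a := by
      rw [CochainComplex.isStrictlyGE_iff]
      exact fun j hj => h2 j (Or.inl hj)
    have := CochainComplex.isKInjective_of_injective I a
    have h3 : ψ ≫ e.inv = 0 := by
      apply ToInj.hom_eq_zero_of_disjoint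
      intro j
      by_cases hj : j = i
      · subst hj; exact Or.inr (h2 j hi)
      · exact Or.inl (HomologicalComplex.isZero_single_obj_X (ComplexShape.up ℤ) i _ j hj)
    rw [← cancel_mono e.inv, h3, zero_comp]

end Groth.Agent.Helper5.InjAmpGen
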