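import Mathlib
import Groth.Prelude.Def_DRing2

set_option autoImplicit false
universe u
open CategoryTheory CategoryTheory.Limits TensorProduct

namespace Groth.Agent.Helper5.KInjEpi

section alg
variable {R S : Type u} [CommRing R] [CommRing S] [Algebra R S] [Algebra.IsEpi R S]
  {M N : Type u} [AddCommGroup M] [Module R M] [Module S M] [IsScalarTower R S M]
  [AddCommGroup N] [Module R N] [Module S N] [IsScalarTower R S N]

/-- over a ring epimorphism, `R`-linear maps between `S`-modules are `S`-linear -/
theorem map_smul_of_epi (f : M →ₗ[R] N) (s : S) (m : M) : f (s • m) = s • f m := by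
  have h1 : (1 : S) ⊗ₜ[R] (s • m) = s ⊗ₜ[R] m := by
    apply (TensorProduct.lid' R S M).injective
    simp
  let g : S ⊗[R] M →ₗ[R] N :=
    TensorProduct.lift (LinearMap.mk₂ R (fun (a : S) (x : M) => a • f x)
      (fun a b x => add_smul a b (f x))
      (fun r a x => smul_assoc r a (f x))
      (fun a x y => by simp only [map_add, smul_add])
      (fun r a x => by simp only [map_smul]; exact smul_comm a r (f x)))
  have hg : ∀ (a : S) (x : M), g (a ⊗ₜ x) = a • f x := fun a x => by
    simp [g]
  have := congrArg g h1
  rw [hg, hg, one_smul] at this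
  exact this

end alg

section cx
variable {R S : Type u} [CommRing R] [CommRing S] [Algebra R S]

instance instTower (N : ModuleCat.{u} S) :
    IsScalarTower R S ((ModuleCat.restrictScalars.{u} (algebraMap R S)).obj N) :=
  IsScalarTower.of_algebraMap_smul (fun _ _ => rfl)

variable [Algebra.IsEpi R S]

/-- fullness of restriction of scalars along a ring epimorphism -/
noncomputable def liftHom {X Y : ModuleCat.{u} S}
    (g : (ModuleCat.restrictScalars.{u} (algebraMap R S)).obj X ⟶
      (ModuleCat.restrictScalars.{u} (algebraMap R S)).obj Y) : X ⟶ Y :=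
  ModuleCat.ofHom
    { toFun := fun x => g.hom x
      map_add' := fun x y => map_add g.hom x y
      map_smul' := fun s x =>
        map_smul_of_epi (R := R) (S := S)
          (M := ↑((ModuleCat.restrictScalars.{u} (algebraMap R S)).obj X))
          (N := ↑((ModuleCat.restrictScalars.{u} (algebraMap R S)).obj Y)) g.hom s x }

theorem restrict_liftHom {X Y : ModuleCat.{u} S}
    (g : (ModuleCat.restrictScalars.{u} (algebraMap R S)).obj X ⟶
      (ModuleCat.restrictScalars.{u} (algebraMap R S)).obj Y) :
    (ModuleCat.restrictScalars.{u} (algebraMap R S)).map (liftHom g) = g := by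
  ext x; rfl

theorem kinj_of_restrict (I : DRing.Cx S)
    [CochainComplex.IsKInjective ((DRing.restrictCx (algebraMap R S)).obj I)] :
    CochainComplex.IsKInjective I := by
  constructor
  intro L f hL
  have hL' : ((DRing.restrictCx (algebraMap R S)).obj L).Acyclic := by
    intro i
    have := hL i
    rw [HomologicalComplex.exactAt_iff] at this ⊢
    exact this.map (ModuleCat.restrictScalars.{u} (algebraMap R S))
  obtain ⟨h⟩ := CochainComplex.IsKInjective.nonempty_homotopy_zero
    ((DRing.restrictCx (algebraMap R S)).map f) hL'
  let g : ∀ i j : ℤ, (ModuleCat.restrictScalars.{u} (algebraMap R S)).obj (L.X i) ⟶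
      (ModuleCat.restrictScalars.{u} (algebraMap R S)).obj (I.X j) := fun i j => h.hom i j
  have key : ∀ i j, (ModuleCat.restrictScalars.{u} (algebraMap R S)).map (liftHom (g i j)) = g i j :=
    fun i j => restrict_liftHom (g i j)
  refine ⟨{ hom := fun i j => liftHom (g i j), zero := ?_, comm := ?_ }⟩
  · intro i j hij
    apply (ModuleCat.restrictScalars.{u} (algebraMap R S)).map_injective
    have hz : g i j = 0 := h.zero i j hij
    rw [key, hz, Functor.map_zero]
  · intro i
    apply (ModuleCat.restrictScalars.{u} (algebraMap R S)).map_injective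
    have := h.comm i
    rw [dNext_eq _ (show (ComplexShape.up ℤ).Rel i (i + 1) from rfl),
      prevD_eq _ (show (ComplexShape.up ℤ).Rel (i - 1) i by simp)] at this ⊢
    simp only [HomologicalComplex.zero_f, add_zero] at this ⊢
    rw [Functor.map_add, Functor.map_comp, Functor.map_comp, key, key]
    exact this

end cx

/-- S6920 -/
theorem s6920 (R S : Type u) [CommRing R] [CommRing S] (φ : R →+* S)
    (hφ : Epi (CommRingCat.ofHom φ)) (I : DRing.Cx S)
    [hI : CochainComplex.IsKInjective ((DRing.restrictCx φ).obj I)] : CochainComplex.IsKInjective I := by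
  letI := φ.toAlgebra
  have hepi : Algebra.IsEpi R S := CommRingCat.epi_iff_epi.1 hφ
  have : CochainComplex.IsKInjective ((DRing.restrictCx (algebraMap R S)).obj I) := hI
  exact kinj_of_restrict (R := R) I

end Groth.Agent.Helper5.KInjEpi
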