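import Mathlib
import Groth.Agent.Lib.Helper5.DRing.NilTorC
import Groth.Agent.Lib.Helper5.DRing.FlatBC
import Groth.Agent.Lib.Helper5.DRing.PCDev

/-!
# Top cohomology of a derived base change along a surjection, and finiteness lemmas
-/

set_option autoImplicit false
set_option linter.unusedSectionVars false
set_option linter.unusedVariables false
universe u
open CategoryTheory CategoryTheory.Limits MonoidalCategory TensorProduct
attribute [local instance] HasDerivedCategory.standard

namespace Groth.Agent.Lib.Helper5.NilTor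

open DerivedCategory DTen Groth.Agent.Lib.Helper5.KProj Groth.Agent.Helper5.TorAmp
  Groth.Agent.Helper5.PCDev

section Alg

variable {R : Type u} [CommRing R] {M : Type u} [AddCommGroup M] [Module R M]

/-- two ideals of product zero: finite generation modulo each gives finite generation -/
theorem fg_top_of_two (I J : Ideal R) (hIJ : I * J = ⊥) (M₁ M₂ : Submodule R M)
    (h₁ : M₁.FG) (h₂ : M₂.FG) (e₁ : M₁ ⊔ I • (⊤ : Submodule R M) = ⊤)
    (e₂ : M₂ ⊔ J • (⊤ : Submodule R M) = ⊤) : (⊤ : Submodule R M).FG := by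
  have key : (⊤ : Submodule R M) = M₁ ⊔ M₂ := by
    apply le_antisymm _ le_top
    calc (⊤ : Submodule R M) = M₁ ⊔ I • (⊤ : Submodule R M) := e₁.symm
      _ = M₁ ⊔ I • (M₂ ⊔ J • (⊤ : Submodule R M)) := by rw [e₂]
      _ = M₁ ⊔ (I • M₂ ⊔ (I * J) • (⊤ : Submodule R M)) := by
          rw [Submodule.smul_sup, Submodule.mul_smul]
      _ = M₁ ⊔ I • M₂ := by rw [hIJ, Submodule.bot_smul, sup_bot_eq]
      _ ≤ M₁ ⊔ M₂ := sup_le_sup_left Submodule.smul_le_right _
  rw [key]
  exact h₁.sup h₂

/-- nilpotent ideal: finite generation modulo the ideal gives finite generation -/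
theorem fg_top_of_nilpotent (I : Ideal R) (hI : IsNilpotent I) (M₁ : Submodule R M)
    (h₁ : M₁.FG) (e₁ : M₁ ⊔ I • (⊤ : Submodule R M) = ⊤) : (⊤ : Submodule R M).FG := by
  obtain ⟨n, hn⟩ := hI
  have key : ∀ k : ℕ, (⊤ : Submodule R M) = M₁ ⊔ (I ^ k) • (⊤ : Submodule R M) := by
    intro k
    induction k with
    | zero =>
      rw [pow_zero, Ideal.one_eq_top, Submodule.top_smul, sup_top_eq]
    | succ k ih =>
      apply le_antisymm _ le_top
      calc (⊤ : Submodule R M) = M₁ ⊔ I • (⊤ : Submodule R M) := e₁.symm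
        _ = M₁ ⊔ I • (M₁ ⊔ (I ^ k) • (⊤ : Submodule R M)) := by rw [← ih]
        _ = M₁ ⊔ (I • M₁ ⊔ (I * I ^ k) • (⊤ : Submodule R M)) := by
            rw [Submodule.smul_sup, Submodule.mul_smul]
        _ = (M₁ ⊔ I • M₁) ⊔ (I ^ (k + 1)) • (⊤ : Submodule R M) := by
            rw [← pow_succ', sup_assoc]
        _ ≤ M₁ ⊔ (I ^ (k + 1)) • (⊤ : Submodule R M) :=
            sup_le_sup_right (sup_le le_rfl Submodule.smul_le_right) _
  have h := key n
  rw [hn, Ideal.zero_eq_bot, Submodule.bot_smul, sup_bot_eq] at h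
  rw [h]
  exact h₁

end Alg

section Ext

variable {R A : Type u} [CommRing R] [CommRing A] (φ : R →+* A) (hφ : Function.Surjective φ)

include hφ in
/-- if `A ⊗_R M` is a finite `A`-module, `M` is finitely generated modulo `ker φ` -/
theorem exists_fg_sup (M : ModuleCat.{u} R)
    (h : Module.Finite A ((ModuleCat.extendScalars.{u, u, u} φ).obj M)) :
    ∃ M₁ : Submodule R M, M₁.FG ∧ M₁ ⊔ (RingHom.ker φ) • (⊤ : Submodule R M) = ⊤ := by
  letI := φ.toAlgebra
  let Kq : Submodule R M := (RingHom.ker φ) • (⊤ : Submodule R M)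
  let Nq : ModuleCat.{u} R := ModuleCat.of R (M ⧸ Kq)
  have hNq : ∀ a ∈ RingHom.ker φ, ∀ x : Nq, a • x = 0 := by
    intro a ha x
    obtain ⟨y, rfl⟩ := Kq.mkQ_surjective x
    show a • Kq.mkQ y = 0
    rw [← map_smul]
    exact (Submodule.Quotient.mk_eq_zero _).2 (Submodule.smul_mem_smul ha Submodule.mem_top)
  letI : Module A (M ⧸ Kq) := modOfKilled φ hφ Nq hNq
  haveI : IsScalarTower R A (M ⧸ Kq) :=
    IsScalarTower.of_algebraMap_smul (fun r x => modOfKilled_smul φ hφ Nq hNq r x)
  let l : A ⊗[R] M →ₗ[A] (M ⧸ Kq) := LinearMap.liftBaseChange A Kq.mkQ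
  have hl : Function.Surjective l := by
    intro x
    obtain ⟨m, rfl⟩ := Kq.mkQ_surjective x
    exact ⟨1 ⊗ₜ m, by simp [l]⟩
  have h1 : Module.Finite A (A ⊗[R] M) :=
    Module.Finite.equiv (Groth.Agent.Helper5.FlatBC.eqvT (R := R) A M).symm
  have h2 : Module.Finite A (M ⧸ Kq) := Module.Finite.of_surjective l hl
  have h3 : Module.Finite R A := Module.Finite.of_surjective (Algebra.linearMap R A) hφ
  have h4 : Module.Finite R (M ⧸ Kq) := Module.Finite.trans A _
  obtain ⟨n, g, hg⟩ := Module.Finite.exists_fin (R := R) (M := M ⧸ Kq)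
  choose m hm using fun i => Kq.mkQ_surjective (g i)
  refine ⟨Submodule.span R (Set.range m), Submodule.fg_span (Set.finite_range m), ?_⟩
  have hmap : Submodule.map Kq.mkQ (Submodule.span R (Set.range m)) = ⊤ := by
    rw [Submodule.map_span, ← Set.range_comp]
    have : (Kq.mkQ ∘ m) = g := funext hm
    rw [this, hg]
  have := Submodule.comap_map_eq Kq.mkQ (Submodule.span R (Set.range m))
  rw [hmap, Submodule.comap_top, Submodule.ker_mkQ] at this
  exact this.symm

end Ext

end Groth.Agent.Lib.Helper5.NilTor
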