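import Mathlib
import Groth.Agent.Lib.Helper5.DRing.NilTorD

set_option autoImplicit false
set_option linter.unusedSectionVars false
set_option linter.unusedVariables false
universe u
open CategoryTheory CategoryTheory.Limits MonoidalCategory TensorProduct
attribute [local instance] HasDerivedCategory.standard

namespace Groth.Agent.Lib.Helper5.NilTor

open DerivedCategory DTen Groth.Agent.Lib.Helper5.KProj Groth.Agent.Helper5.TorAmp
  Groth.Agent.Helper5.PCDev

section Top

variable {R A : Type u} [CommRing R] [CommRing A] (φ : R →+* A)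

/-- the top cohomology of `P ⊗_R A`, for `P` vanishing in degree `b + 1` -/
theorem nonempty_topIso (P : DRing.Cx R) (b : ℤ) (hb : IsZero (P.X (b + 1))) :
    Nonempty (((extCx φ).obj P).homology b ≅
      (ModuleCat.extendScalars.{u, u, u} φ).obj (P.homology b)) := by
  let F := ModuleCat.extendScalars.{u, u, u} φ
  let X := (extCx φ).obj P
  have hbX : IsZero (X.X (b + 1)) := F.map_isZero hb
  haveI : PreservesColimits F :=
    (ModuleCat.extendRestrictScalarsAdj.{u, u, u} φ).leftAdjoint_preservesColimits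
  let c₁ := CokernelCofork.ofπ (P.pOpcycles b) (P.d_pOpcycles (b - 1) b)
  have hc₁ : IsColimit c₁ := P.opcyclesIsCokernel (b - 1) b (by simp)
  let c₂ := CokernelCofork.ofπ (X.pOpcycles b) (X.d_pOpcycles (b - 1) b)
  have hc₂ : IsColimit c₂ := X.opcyclesIsCokernel (b - 1) b (by simp)
  have hc₁' : IsColimit (c₁.map F) := CokernelCofork.mapIsColimit c₁ hc₁ F
  let e₂ : X.opcycles b ≅ F.obj (P.opcycles b) := IsColimit.coconePointUniqueUpToIso hc₂ hc₁'
  exact ⟨X.isoHomologyι b (b + 1) (by simp) (hbX.eq_of_tgt _ _) ≪≫ e₂ ≪≫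
    F.mapIso (P.isoHomologyι b (b + 1) (by simp) (hb.eq_of_tgt _ _)).symm⟩

variable (hφ : Function.Surjective φ) [DRing.HasLBaseChange φ]

include hφ in
/-- top cohomology: finiteness after derived base change along a surjection gives finite generation
modulo the kernel -/
theorem exists_fg_sup_Hn (L : Dual.D R) (b : ℤ) [L.IsLE b]
    (h : Module.Finite A (Hn b ((DRing.LBaseChange φ).obj L))) :
    ∃ M₁ : Submodule R (Hn b L), M₁.FG ∧
      M₁ ⊔ (RingHom.ker φ) • (⊤ : Submodule R (Hn b L)) = ⊤ := by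
  obtain ⟨P, hP1, hP2, hP3, ⟨e⟩⟩ := exists_proj_rep L b
  obtain ⟨t⟩ := nonempty_topIso φ P b (hP1 (b + 1) (by omega))
  let e1 : Hn b ((DRing.LBaseChange φ).obj L) ≅ ((extCx φ).obj P).homology b :=
    (homologyFunctor (ModuleCat.{u} A) b).mapIso
      ((DRing.LBaseChange φ).mapIso e.symm ≪≫ lbcIso φ P) ≪≫
      (homologyFunctorFactors (ModuleCat.{u} A) b).app ((extCx φ).obj P)
  let e2 : P.homology b ≅ Hn b L :=
    ((homologyFunctorFactors (ModuleCat.{u} R) b).app P).symm ≪≫
      (homologyFunctor (ModuleCat.{u} R) b).mapIso e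
  let e3 : Hn b ((DRing.LBaseChange φ).obj L) ≅
      (ModuleCat.extendScalars.{u, u, u} φ).obj (Hn b L) :=
    e1 ≪≫ t ≪≫ (ModuleCat.extendScalars.{u, u, u} φ).mapIso e2
  have h' : Module.Finite A ((ModuleCat.extendScalars.{u, u, u} φ).obj (Hn b L)) :=
    Module.Finite.equiv e3.toLinearEquiv
  exact exists_fg_sup φ hφ (Hn b L) h'

end Top

end Groth.Agent.Lib.Helper5.NilTor
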