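import Mathlib
import Groth.Agent.Lib.Helper5.DRing.NilTorD2
import Groth.Agent.Lib.Helper5.DRing.Cone
import Groth.Agent.Lib.Helper5.DRing.PCBuild
import Groth.Agent.Lib.Helper5.TorAmp.PerfAmp
import Groth.Agent.S2067
import Groth.Agent.S2068
import Groth.Agent.S2087

/-!
# Pseudo-coherence descends along surjections with nilpotent kernel / two kernels of product zero
-/

set_option autoImplicit false
set_option linter.unusedSectionVars false
set_option linter.unusedVariables false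
universe u
open CategoryTheory CategoryTheory.Limits Pretriangulated
attribute [local instance] HasDerivedCategory.standard

namespace Groth.Agent.Lib.Helper5.NilTor

open DerivedCategory DTen Groth.Agent.Lib.Helper5.KProj Groth.Agent.Helper5.TorAmp
  Groth.Agent.Helper5.PCDev

section One

variable {R A : Type u} [CommRing R] [CommRing A] (φ : R →+* A) [DRing.HasLBaseChange φ]

/-- the derived base change is `m`-pseudo-coherent for every `m` -/
def PCAll (K : Dual.D R) : Prop :=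
  ∀ m : ℤ, DRing.IsPseudoCoherent A m ((DRing.LBaseChange φ).obj K)

theorem isKProjective_Sb (b : ℤ) (k : ℕ) : (Sb (R := R) b k).IsKProjective :=
  Groth.Agent.S2067.kproj_of _ b
    (fun i hi => HomologicalComplex.isZero_single_obj_X (ComplexShape.up ℤ) b _ i (ne_of_gt hi))
    (Groth.Agent.Helper5.PCBuild.finiteFree_single b k)

/-- the dévissage step -/
theorem pcAll_step (b : ℤ) (k : ℕ) (K K' : Dual.D R) (f : DRing.toD (Sb b k) ⟶ K) (g : K ⟶ K')
    (h : K' ⟶ (DRing.toD (Sb (R := R) b k))⟦(1 : ℤ)⟧)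
    (hT : Triangle.mk f g h ∈ distTriang _) (hK : PCAll φ K) : PCAll φ K' := by
  intro m
  obtain ⟨P, hP, ⟨e⟩⟩ := exists_kproj_rep K
  have hff : DRing.TermwiseFiniteFree (Sb (R := R) b k) :=
    Groth.Agent.Helper5.PCBuild.finiteFree_single b k
  haveI hS : (Sb (R := R) b k).IsKProjective := isKProjective_Sb b k
  obtain ⟨ψ, ⟨eC⟩⟩ := Groth.Agent.Helper5.DRingCone.cone_iso (Triangle.mk f g h) hT
    (Sb (R := R) b k) P (Iso.refl _) e
  haveI : (CochainComplex.mappingCone ψ).IsKProjective := isKProjective_mappingCone ψ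
  let i1 : (DRing.LBaseChange φ).obj K' ≅
      DRing.toD (CochainComplex.mappingCone ((bcCx φ).map ψ)) :=
    (DRing.LBaseChange φ).mapIso eC.symm ≪≫ lbcIso φ (CochainComplex.mappingCone ψ) ≪≫
      Q.mapIso (CochainComplex.mappingCone.mapHomologicalComplexIso ψ
        (ModuleCat.extendScalars.{u, u, u} φ))
  have hT' := mappingCone_triangle_distinguished ((bcCx φ).map ψ)
  have h1 : DRing.IsPseudoCoherent A (m + 1) (DRing.toD ((bcCx φ).obj (Sb (R := R) b k))) :=
    pc_of_pc' ⟨_, b, vanishesAbove_bcCx φ _ b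
      (fun i hi => HomologicalComplex.isZero_single_obj_X (ComplexShape.up ℤ) b _ i (ne_of_gt hi)),
      termwiseFiniteFree_bcCx φ _ hff, ⟨Iso.refl _⟩⟩ (m + 1)
  have h2 : DRing.IsPseudoCoherent A m (DRing.toD ((bcCx φ).obj P)) :=
    Groth.Agent.S2087.pc_of_iso ((DRing.LBaseChange φ).mapIso e.symm ≪≫ lbcIso φ P) (hK m)
  exact Groth.Agent.S2087.pc_of_iso i1.symm ((Groth.Agent.S2067.main _ hT' m).1 h1 h2)

variable (hφ : Function.Surjective φ)

include hφ in
/-- the finiteness datum for the dévissage -/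
theorem exists_fg_sup_of_pcAll (K : Dual.D R) (b : ℤ) (hv : ∀ j, b < j → IsZero (Hn j K))
    (hK : PCAll φ K) :
    ∃ M₁ : Submodule R (Hn b K), M₁.FG ∧
      M₁ ⊔ (RingHom.ker φ) • (⊤ : Submodule R (Hn b K)) = ⊤ := by
  haveI : K.IsLE b := by
    rw [isLE_iff]
    exact hv
  haveI := isLE_LBaseChange φ K b
  have hfin : Module.Finite A (Hn b ((DRing.LBaseChange φ).obj K)) :=
    (Groth.Agent.S2068.result _ b (hK b)).1
      (fun i hi => (isLE_iff ((DRing.LBaseChange φ).obj K) b).1 inferInstance i hi)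
  exact exists_fg_sup_Hn φ hφ K b hfin

theorem exists_isLE_of_pcAll (K : Dual.D R) (hK : PCAll φ K) :
    ∃ b : ℤ, ((DRing.LBaseChange φ).obj K).IsLE b := by
  obtain ⟨B, hB⟩ := Groth.Agent.S2087.pc_bound _ 0 (hK 0)
  exact ⟨B, by rw [isLE_iff]; exact hB⟩

end One

section Two

variable {R A₁ A₂ : Type u} [CommRing R] [CommRing A₁] [CommRing A₂]
  (φ₁ : R →+* A₁) (φ₂ : R →+* A₂) (h₁ : Function.Surjective φ₁) (h₂ : Function.Surjective φ₂)
  (hk : RingHom.ker φ₁ * RingHom.ker φ₂ = ⊥)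
  [DRing.HasLBaseChange φ₁] [DRing.HasLBaseChange φ₂]

include h₁ h₂ hk in
/-- **Pseudo-coherence and two ideals of product zero.** -/
theorem pc_of_two (L : Dual.D R) (p₁ : PCAll φ₁ L) (p₂ : PCAll φ₂ L) (m : ℤ) :
    DRing.IsPseudoCoherent R m L := by
  obtain ⟨b₁, hb₁⟩ := exists_isLE_of_pcAll φ₁ L p₁
  obtain ⟨b₂, hb₂⟩ := exists_isLE_of_pcAll φ₂ L p₂
  haveI : ((DRing.LBaseChange φ₁).obj L).IsLE (max b₁ b₂) :=
    TStructure.t.isLE_of_le _ b₁ _ (le_max_left _ _)
  haveI : ((DRing.LBaseChange φ₂).obj L).IsLE (max b₁ b₂) :=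
    TStructure.t.isLE_of_le _ b₂ _ (le_max_right _ _)
  have hL : L.IsLE (max b₁ b₂) := isLE_of_two φ₁ φ₂ h₁ h₂ hk L (max b₁ b₂)
  refine devissage m (fun K => PCAll φ₁ K ∧ PCAll φ₂ K) ?_ ?_ L ⟨p₁, p₂⟩
    ⟨max b₁ b₂, (isLE_iff L _).1 hL⟩
  · intro K b hK _ hv
    obtain ⟨M₁, f₁, e₁⟩ := exists_fg_sup_of_pcAll φ₁ h₁ K b hv hK.1
    obtain ⟨M₂, f₂, e₂⟩ := exists_fg_sup_of_pcAll φ₂ h₂ K b hv hK.2
    exact ⟨fg_top_of_two _ _ hk M₁ M₂ f₁ f₂ e₁ e₂⟩
  · intro b k K K' f g h hT _ _ _ hK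
    exact ⟨pcAll_step φ₁ b k K K' f g h hT hK.1, pcAll_step φ₂ b k K K' f g h hT hK.2⟩

end Two

section Nil

variable {R A : Type u} [CommRing R] [CommRing A] (φ : R →+* A) (hφ : Function.Surjective φ)
  (hnil : IsNilpotent (RingHom.ker φ)) [DRing.HasLBaseChange φ]

include hφ hnil in
/-- **Pseudo-coherence descends along a nilpotent thickening.** -/
theorem pc_of_nilpotent (L : Dual.D R) (p : PCAll φ L) (m : ℤ) :
    DRing.IsPseudoCoherent R m L := by
  obtain ⟨b, hb⟩ := exists_isLE_of_pcAll φ L p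
  have hL : L.IsLE b := isLE_of_nilpotent φ hφ hnil L b
  refine devissage m (fun K => PCAll φ K) ?_ ?_ L p ⟨b, (isLE_iff L _).1 hL⟩
  · intro K b hK _ hv
    obtain ⟨M₁, f₁, e₁⟩ := exists_fg_sup_of_pcAll φ hφ K b hv hK
    exact ⟨fg_top_of_nilpotent _ hnil M₁ f₁ e₁⟩
  · intro b k K K' f g h hT _ _ _ hK
    exact pcAll_step φ b k K K' f g h hT hK

end Nil

end Groth.Agent.Lib.Helper5.NilTor
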