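import Mathlib
import Groth.Prelude.Def_DualSh
import Groth.Agent.Lib.Helper5.TBC.Cmp
import Groth.Agent.Lib.Helper5.TBC.Pushout
import Groth.Agent.Lib.Helper5.KProj.Tri
import Groth.Agent.Lib.Helper5.KFlat.LBCFlat

/-!
# Base change of relatively perfect complexes along a flat ring map (helper5)
-/

set_option autoImplicit false
universe u
open CategoryTheory CategoryTheory.Limits DerivedCategory MonoidalCategory TensorProduct
attribute [local instance] HasDerivedCategory.standard

namespace Groth.Agent.Lib.Helper5.RelPerfBC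

open Groth.Agent.Lib.Helper5.DTenLib _root_.Helper5.Gen Groth.Agent.Lib.Helper5.KProj
  Groth.Agent.Helper1.TorL Groth.Agent.Lib.Helper5.TBC _root_.Helper5.Shriek

section LBC

variable {A B : Type u} [CommRing A] [CommRing B] (φ : A →+* B)

/-- derived base change preserves pseudo-coherence -/
theorem isPseudoCoherent'_LBaseChange [DRing.HasLBaseChange φ] (K : Dual.D A)
    (hK : DRing.IsPseudoCoherent' A K) :
    DRing.IsPseudoCoherent' B ((DRing.LBaseChange φ).obj K) := by
  obtain ⟨E, b, h1, h2, ⟨e⟩⟩ := hK
  haveI hE : E.IsKProjective := Groth.Agent.S2067.kproj_of E b h1 h2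
  exact ⟨(bcCx φ).obj E, b, vanishesAbove_bcCx φ E b h1, termwiseFiniteFree_bcCx φ E h2,
    ⟨(lbcIso φ E).symm ≪≫ (DRing.LBaseChange φ).mapIso e⟩⟩

end LBC

section main

variable (R A R' A' : Type u) [CommRing R] [CommRing A] [CommRing R'] [CommRing A']
  [Algebra R A] [Algebra R R'] [Algebra A A'] [Algebra R' A'] [Algebra R A']
  [IsScalarTower R A A'] [IsScalarTower R R' A'] [Algebra.IsPushout R A R' A']

/-- base change of relatively perfect complexes along a flat ring map -/
theorem isRelPerfect_baseChange [Module.Flat R A] (K : Dual.D A)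
    (hK : Dual2.IsRelPerfect R A K) :
    Dual2.IsRelPerfect R' A' ((DRing.LBaseChange (algebraMap A A')).obj K) := by
  obtain ⟨h1, a, b, h2⟩ := hK
  refine ⟨isPseudoCoherent'_LBaseChange (algebraMap A A') K h1, a, b, ?_⟩
  have hsq : (algebraMap A A').comp (algebraMap R A) =
      (algebraMap R' A').comp (algebraMap R R') := by
    refine RingHom.ext fun r => ?_
    show algebraMap A A' (algebraMap R A r) = algebraMap R' A' (algebraMap R R' r)
    rw [← IsScalarTower.algebraMap_apply R A A', ← IsScalarTower.algebraMap_apply R R' A']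
  haveI : Module.Flat R ((ModuleCat.restrictScalars.{u} (algebraMap R A)).obj (ModuleCat.of A A)) :=
    Module.Flat.of_linearEquiv (resUnitLin R A)
  have hta : TorIndep (algebraMap R A) (algebraMap R R') := TA.of_flat _ _
  have hcmp : IsIso (TrivBC.cmp (myAdj (algebraMap R R')) (myAdj (algebraMap A A')) hsq K) :=
    isIso_cmp_myAdj hsq (isCocart_of_isPushout R A R' A' hsq) hta K
  have h3 : DRing.HasTorAmplitudeIn R' a b ((DRing.LBaseChange (algebraMap R R')).obj
      ((DRing.restrictD (algebraMap R A)).obj K)) :=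
    Groth.Agent.Lib.Helper5.KFlat.hasTorAmplitudeIn_LBaseChange (algebraMap R R') _ a b h2
  exact Groth.Agent.Helper5.TorAmp.hasTorAmplitudeIn_of_iso
    (@asIso _ _ _ _ (TrivBC.cmp (myAdj (algebraMap R R')) (myAdj (algebraMap A A')) hsq K) hcmp) h3

end main

end Groth.Agent.Lib.Helper5.RelPerfBC
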