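import Mathlib
import Groth.Prelude.Def_DualSh
import Groth.Agent.Lib.Helper5.DRing.NilTorE
import Groth.Agent.Lib.Helper5.TorAmp.Perf2
import Groth.Agent.Lib.Helper5.DRing.RelPerfBC

/-!
# Perfect complexes and ideals of product zero / nilpotent ideals
-/

set_option autoImplicit false
set_option linter.unusedSectionVars false
set_option linter.unusedVariables false
universe u
open CategoryTheory CategoryTheory.Limits Pretriangulated TensorProduct
attribute [local instance] HasDerivedCategory.standard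

namespace Groth.Agent.Lib.Helper5.NilTor

open DerivedCategory DTen Groth.Agent.Lib.Helper5.KProj Groth.Agent.Helper5.TorAmp
  Groth.Agent.Helper5.PCDev

section Basic

variable {R : Type u} [CommRing R]

theorem hasTorAmplitudeIn_mono {a b a' b' : ℤ} (ha : a' ≤ a) (hb : b ≤ b') {K : Dual.D R}
    (h : DRing.HasTorAmplitudeIn R a b K) : DRing.HasTorAmplitudeIn R a' b' K := by
  obtain ⟨E, h1, h2, h3⟩ := h
  exact ⟨E, fun i hi => h1 i (by omega), h2, h3⟩

theorem isPerfect_of_iso {K K' : Dual.D R} (e : K ≅ K') (h : DRing.IsPerfect R K) :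
    DRing.IsPerfect R K' := by
  obtain ⟨E, a, b, h1, h2, ⟨e'⟩⟩ := h
  exact ⟨E, a, b, h1, h2, ⟨e' ≪≫ e⟩⟩

theorem pcAll_of_isPerfect {A : Type u} [CommRing A] (φ : R →+* A) [DRing.HasLBaseChange φ]
    (L : Dual.D R) (h : DRing.IsPerfect A ((DRing.LBaseChange φ).obj L)) : PCAll φ L :=
  fun m => pc_of_pc' ((s6954 _).1 h).1 m

theorem pcAll_of_pc' {A : Type u} [CommRing A] (φ : R →+* A) [DRing.HasLBaseChange φ]
    (L : Dual.D R) (h : DRing.IsPseudoCoherent' A ((DRing.LBaseChange φ).obj L)) : PCAll φ L :=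
  fun m => pc_of_pc' h m

end Basic

section Two

variable {R A₁ A₂ : Type u} [CommRing R] [CommRing A₁] [CommRing A₂]
  (φ₁ : R →+* A₁) (φ₂ : R →+* A₂) (h₁ : Function.Surjective φ₁) (h₂ : Function.Surjective φ₂)
  (hk : RingHom.ker φ₁ * RingHom.ker φ₂ = ⊥)
  [DRing.HasLBaseChange φ₁] [DRing.HasLBaseChange φ₂]

include h₁ h₂ hk in
/-- **Perfectness and two ideals of product zero.** -/
theorem isPerfect_of_two (L : Dual.D R)
    (p₁ : DRing.IsPerfect A₁ ((DRing.LBaseChange φ₁).obj L))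
    (p₂ : DRing.IsPerfect A₂ ((DRing.LBaseChange φ₂).obj L)) : DRing.IsPerfect R L := by
  obtain ⟨a₁, b₁, t₁⟩ := ((s6954 _).1 p₁).2
  obtain ⟨a₂, b₂, t₂⟩ := ((s6954 _).1 p₂).2
  refine (s6954 L).2 ⟨?_, min a₁ a₂, max b₁ b₂, ?_⟩
  · exact Groth.Agent.Helper5.PCBuild.pc'_of_forall_pc L
      (pc_of_two φ₁ φ₂ h₁ h₂ hk L (pcAll_of_isPerfect φ₁ L p₁) (pcAll_of_isPerfect φ₂ L p₂))
  · exact hasTorAmplitudeIn_of_two φ₁ φ₂ h₁ h₂ hk L _ _
      (hasTorAmplitudeIn_mono (min_le_left _ _) (le_max_left _ _) t₁)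
      (hasTorAmplitudeIn_mono (min_le_right _ _) (le_max_right _ _) t₂)

end Two

section Nil

variable {R A : Type u} [CommRing R] [CommRing A] (φ : R →+* A) (hφ : Function.Surjective φ)
  (hnil : IsNilpotent (RingHom.ker φ)) [DRing.HasLBaseChange φ]

include hφ hnil in
/-- **Perfectness descends along a nilpotent thickening.** -/
theorem isPerfect_of_nilpotent (L : Dual.D R)
    (p : DRing.IsPerfect A ((DRing.LBaseChange φ).obj L)) : DRing.IsPerfect R L := by
  obtain ⟨a, b, t⟩ := ((s6954 _).1 p).2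
  refine (s6954 L).2 ⟨?_, a, b, hasTorAmplitudeIn_of_nilpotent φ hφ hnil L a b t⟩
  exact Groth.Agent.Helper5.PCBuild.pc'_of_forall_pc L
    (pc_of_nilpotent φ hφ hnil L (pcAll_of_isPerfect φ L p))

include hφ hnil in
theorem pc'_of_nilpotent (L : Dual.D R)
    (p : DRing.IsPseudoCoherent' A ((DRing.LBaseChange φ).obj L)) :
    DRing.IsPseudoCoherent' R L :=
  Groth.Agent.Helper5.PCBuild.pc'_of_forall_pc L
    (pc_of_nilpotent φ hφ hnil L (pcAll_of_pc' φ L p))

end Nil

section Ker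

variable {R A : Type u} [CommRing R] [CommRing A] [Algebra R A]
  (hφ : Function.Surjective (algebraMap R A))

include hφ in
/-- the kernel of `M → A ⊗_R M` for a surjection `R → A` -/
theorem mem_smul_top_of_tmul_eq_zero (M : Type u) [AddCommGroup M] [Module R M] (m : M)
    (h : (1 : A) ⊗ₜ[R] m = 0) :
    m ∈ (RingHom.ker (algebraMap R A)) • (⊤ : Submodule R M) := by
  let Kq : Submodule R M := (RingHom.ker (algebraMap R A)) • (⊤ : Submodule R M)
  let Nq : ModuleCat.{u} R := ModuleCat.of R (M ⧸ Kq)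
  have hNq : ∀ a ∈ RingHom.ker (algebraMap R A), ∀ x : Nq, a • x = 0 := by
    intro a ha x
    obtain ⟨y, rfl⟩ := Kq.mkQ_surjective x
    show a • Kq.mkQ y = 0
    rw [← map_smul]
    exact (Submodule.Quotient.mk_eq_zero _).2 (Submodule.smul_mem_smul ha Submodule.mem_top)
  letI : Module A (M ⧸ Kq) := modOfKilled (algebraMap R A) hφ Nq hNq
  haveI : IsScalarTower R A (M ⧸ Kq) :=
    IsScalarTower.of_algebraMap_smul (fun r x => modOfKilled_smul (algebraMap R A) hφ Nq hNq r x)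
  let l : A ⊗[R] M →ₗ[A] (M ⧸ Kq) := LinearMap.liftBaseChange A Kq.mkQ
  have h1 : l ((1 : A) ⊗ₜ[R] m) = Kq.mkQ m := by simp [l]
  rw [h, map_zero] at h1
  exact (Submodule.Quotient.mk_eq_zero _).1 h1.symm

end Ker

end Groth.Agent.Lib.Helper5.NilTor
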