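import Mathlib
import Groth.Prelude.Def_DualSh
import Groth.Agent.Lib.Helper5.DRing.NilTorF

/-!
# Relative perfectness descends along nilpotent thickenings of the base
-/

set_option autoImplicit false
set_option linter.unusedSectionVars false
set_option linter.unusedVariables false
universe u
open CategoryTheory CategoryTheory.Limits DerivedCategory MonoidalCategory TensorProduct
attribute [local instance] HasDerivedCategory.standard

namespace Groth.Agent.Lib.Helper5.NilTor

open Groth.Agent.Lib.Helper5.DTenLib _root_.Helper5.Gen Groth.Agent.Lib.Helper5.KProj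
  Groth.Agent.Helper1.TorL Groth.Agent.Lib.Helper5.TBC _root_.Helper5.Shriek

section main

variable (R A R' A' : Type u) [CommRing R] [CommRing A] [CommRing R'] [CommRing A']
  [Algebra R A] [Algebra R R'] [Algebra A A'] [Algebra R' A'] [Algebra R A']
  [IsScalarTower R A A'] [IsScalarTower R R' A'] [Algebra.IsPushout R A R' A']

theorem pushout_surjective (hs : Function.Surjective (algebraMap R R')) :
    Function.Surjective (algebraMap A A') := by
  have hbc : IsBaseChange R' (IsScalarTower.toAlgHom R A A').toLinearMap :=
    (Algebra.IsPushout.symm (inferInstance : Algebra.IsPushout R A R' A')).out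
  intro a'
  obtain ⟨t, ht⟩ := hbc.equiv.surjective a'
  obtain ⟨a, rfl⟩ := TensorProduct.mk_surjective R A R' hs t
  refine ⟨a, ?_⟩
  rw [← ht]
  have := hbc.equiv_tmul (1 : R') a
  rw [one_smul] at this
  exact this.symm

theorem pushout_ker_le (hs : Function.Surjective (algebraMap R R')) :
    RingHom.ker (algebraMap A A') ≤ (RingHom.ker (algebraMap R R')).map (algebraMap R A) := by
  have hbc : IsBaseChange R' (IsScalarTower.toAlgHom R A A').toLinearMap :=
    (Algebra.IsPushout.symm (inferInstance : Algebra.IsPushout R A R' A')).out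
  intro a ha
  have h0 : algebraMap A A' a = 0 := ha
  have h1 : hbc.equiv ((1 : R') ⊗ₜ[R] a) = 0 := by
    have := hbc.equiv_tmul (1 : R') a
    rw [one_smul] at this
    rw [this]
    exact h0
  have h2 : (1 : R') ⊗ₜ[R] a = 0 := by
    apply hbc.equiv.injective
    rw [h1, map_zero]
  have h3 := mem_smul_top_of_tmul_eq_zero hs A a h2
  refine Submodule.smul_induction_on h3 ?_ ?_
  · intro r hr n _
    rw [Algebra.smul_def]
    exact Ideal.mul_mem_right _ _ (Ideal.mem_map_of_mem _ hr)
  · intro x y hx hy
    exact Ideal.add_mem _ hx hy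

theorem pushout_ker_nilpotent (hs : Function.Surjective (algebraMap R R'))
    (hn : IsNilpotent (RingHom.ker (algebraMap R R'))) :
    IsNilpotent (RingHom.ker (algebraMap A A')) := by
  obtain ⟨n, hn'⟩ := hn
  refine ⟨n, ?_⟩
  have h1 := Ideal.pow_right_mono (pushout_ker_le R A R' A' hs) n
  rw [← Ideal.map_pow, hn', Ideal.zero_eq_bot, Ideal.map_bot] at h1
  rw [Ideal.zero_eq_bot]
  exact le_bot_iff.1 h1

/-- relative perfectness descends along a nilpotent thickening of the base -/
theorem isRelPerfect_of_nilpotent [Module.Flat R A] (hs : Function.Surjective (algebraMap R R'))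
    (hn : IsNilpotent (RingHom.ker (algebraMap R R'))) [DRing.HasLBaseChange (algebraMap A A')]
    (K : Dual.D A)
    (hK : Dual2.IsRelPerfect R' A' ((DRing.LBaseChange (algebraMap A A')).obj K)) :
    Dual2.IsRelPerfect R A K := by
  obtain ⟨h1, a, b, h2⟩ := hK
  refine ⟨pc'_of_nilpotent (algebraMap A A') (pushout_surjective R A R' A' hs)
    (pushout_ker_nilpotent R A R' A' hs hn) K h1, a, b, ?_⟩
  have hsq : (algebraMap A A').comp (algebraMap R A) =
      (algebraMap R' A').comp (algebraMap R R') := by
    refine RingHom.ext fun r => ?_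
    show algebraMap A A' (algebraMap R A r) = algebraMap R' A' (algebraMap R R' r)
    rw [← IsScalarTower.algebraMap_apply R A A', ← IsScalarTower.algebraMap_apply R R' A']
  haveI : Module.Flat R ((ModuleCat.restrictScalars.{u} (algebraMap R A)).obj (ModuleCat.of A A)) :=
    Module.Flat.of_linearEquiv (resUnitLin R A)
  have hta : TorIndep (algebraMap R A) (algebraMap R R') := TA.of_flat _ _
  have hcmp : IsIso (TrivBC.cmp (myAdj (algebraMap R R')) (myAdj (algebraMap A A')) hsq K) :=
    isIso_cmp_myAdj hsq (isCocart_of_isPushout R A R' A' hsq) hta K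
  have h3 : DRing.HasTorAmplitudeIn R' a b ((DRing.LBaseChange (algebraMap R R')).obj
      ((DRing.restrictD (algebraMap R A)).obj K)) :=
    Groth.Agent.Helper5.TorAmp.hasTorAmplitudeIn_of_iso
      (@asIso _ _ _ _ (TrivBC.cmp (myAdj (algebraMap R R')) (myAdj (algebraMap A A')) hsq K)
        hcmp).symm h2
  exact hasTorAmplitudeIn_of_nilpotent (algebraMap R R') hs hn _ a b h3

end main

end Groth.Agent.Lib.Helper5.NilTor
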