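import Mathlib
import Groth.Prelude.Def_DRing2
import Groth.Agent.Lib.Helper8.ABS15
import Groth.Agent.Lib.Helper9.GlDim
import Groth.Agent.Lib.Helper5.ProjAmp.TFAE
import Groth.Agent.Lib.Helper5.TorAmp.TorDim
import Groth.Agent.Lib.Helper5.TorAmp.Char

/-!
# Modules over a regular local ring have finite tor dimension (helper5)
-/

set_option autoImplicit false
universe u
open CategoryTheory CategoryTheory.Limits Abelian

attribute [local instance] HasDerivedCategory.standard

namespace Groth.Agent.Lib.Helper5.RegTorDim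

open Groth.Agent.Helper5.ProjAmp Groth.Agent.Helper5.TorAmp

variable (A : Type u) [CommRing A] [IsRegularLocalRing A]

/-- every module over a regular local ring of dimension `d` has projective dimension `≤ d` -/
theorem exists_pdLT : ∃ d : ℕ, ∀ M : ModuleCat.{u} A, HasProjectiveDimensionLT M (d + 1) := by
  obtain ⟨d, hd, -⟩ := Groth.Agent.Helper8.ABS.exists_hasProjectiveDimensionLT_of_regular A A
  refine ⟨d, fun M => Groth.Agent.Helper9.GlDim.main5804 d (fun I => ?_) M⟩
  obtain ⟨d', hd', h⟩ := Groth.Agent.Helper8.ABS.exists_hasProjectiveDimensionLT_of_regular A (A ⧸ I)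
  have : d' = d := by
    have h1 : ((d' : ℕ) : WithBot ℕ∞) = ((d : ℕ) : WithBot ℕ∞) := by rw [← hd', ← hd]
    exact_mod_cast h1
  subst this
  exact h

/-- every module over a regular local ring has finite tor dimension -/
theorem hasFiniteTorDim (M : Type u) [AddCommGroup M] [Module A M] :
    DRing.HasFiniteTorDim A M := by
  obtain ⟨d, hd⟩ := exists_pdLT A
  refine ⟨d, ?_⟩
  rw [(s6946 (R := A) M d).1]
  have h3 : (∀ n : ℤ, (0 : ℤ) < n → Subsingleton (Dual.HD A (Dual.inD A M) n)) ∧
      ∀ (N : Type u) [AddCommGroup N] [Module A N] (i : ℤ), -(-(d : ℤ)) < i →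
        Subsingleton (DRing.ExtD A (Dual.inD A M) (Dual.inD A N) i) := by
    refine ⟨fun n hn => ?_, fun N _ _ i hi => ?_⟩
    · exact ModuleCat.subsingleton_of_isZero
        (DerivedCategory.isZero_of_isLE (Dual.inD A M) 0 n hn)
    · obtain ⟨k, rfl⟩ : ∃ k : ℕ, i = (k : ℤ) := ⟨i.toNat, by omega⟩
      haveI := hd (ModuleCat.of A M)
      have hs : Subsingleton (Ext (ModuleCat.of A M) (ModuleCat.of A N) k) :=
        HasProjectiveDimensionLT.subsingleton (ModuleCat.of A M) (d + 1) k (by omega) _
      exact (Ext.homEquiv (X := ModuleCat.of A M) (Y := ModuleCat.of A N) (n := k)).symm.subsingleton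
  obtain ⟨P, h1, h2, ⟨e⟩⟩ := ((s6964 (Dual.inD A M) (-(d : ℤ)) 0).out 2 0).1 h3
  refine ⟨P, h1, termwiseFlat_of_projective P (fun i => ?_), ⟨e⟩⟩
  haveI := h2 i
  exact (IsProjective.iff_projective (R := A) (P.X i)).1 inferInstance

end Groth.Agent.Lib.Helper5.RegTorDim
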