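import Mathlib
import Groth.Prelude.Def_DerCA
import Groth.Agent.Lib.Helper5.DRing.RelPC2
import Groth.Agent.Lib.Helper5.DRing.RelPC3
import Groth.Agent.Lib.Helper5.DRing.RelPC4
import Groth.Agent.Lib.Helper5.DRing.RelPCBC
import Groth.Agent.Lib.Helper5.DRing.PCRes
import Groth.Agent.Lib.Helper5.DRing.PCNoeth
import Groth.Agent.Lib.Helper5.KProj.Tri
import Groth.Agent.Lib.Helper1.TorL
import Groth.Agent.S2068

/-!
# Relative pseudo-coherence and tensoring with a pseudo-coherent module (helper5)
-/
set_option autoImplicit false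
set_option linter.unusedSectionVars false
set_option linter.unusedVariables false
universe u
open CategoryTheory CategoryTheory.Limits MonoidalCategory DerivedCategory
attribute [local instance] HasDerivedCategory.standard

namespace Groth.Agent.Lib.Helper5.RelPCTen

open Groth.Agent.Helper5.PCRes Groth.Agent.Helper5.PCHom Groth.Agent.Helper5.PCDev

variable {C : Type u} [CommRing C]

/-- the complex `M ⊗ F` -/
noncomputable abbrev TL (M : ModuleCat.{u} C) : DRing.Cx C ⥤ DRing.Cx C :=
  (tensorLeft M).mapHomologicalComplex (ComplexShape.up ℤ)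

/-- functoriality in the module -/
noncomputable def tmap {M M' : ModuleCat.{u} C} (g : M ⟶ M') (F : DRing.Cx C) :
    (TL M).obj F ⟶ (TL M').obj F where
  f i := g ▷ F.X i
  comm' i j _ := by
    show (g ▷ F.X i) ≫ (M' ◁ F.d i j) = (M ◁ F.d i j) ≫ (g ▷ F.X j)
    exact (whisker_exchange g (F.d i j)).symm

/-- the short complex of complexes attached to a short complex of modules -/
noncomputable def tSC (S : ShortComplex (ModuleCat.{u} C)) (F : DRing.Cx C) :
    ShortComplex (DRing.Cx C) :=
  ShortComplex.mk (tmap S.f F) (tmap S.g F) (by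
    ext i : 1
    show S.f ▷ F.X i ≫ S.g ▷ F.X i = 0
    rw [← comp_whiskerRight, S.zero, MonoidalPreadditive.zero_whiskerRight])

theorem tSC_shortExact (S : ShortComplex (ModuleCat.{u} C)) (hS : S.ShortExact) (F : DRing.Cx C)
    (hF : ∀ i, Module.Flat C (F.X i)) : (tSC S F).ShortExact := by
  apply HomologicalComplex.shortExact_of_degreewise_shortExact
  intro i
  have := hF i
  exact hS.map_of_exact (tensorRight (F.X i))

/-- the object `M ⊗ F` of the derived category -/
noncomputable abbrev TD (F : DRing.Cx C) (M : ModuleCat.{u} C) : Dual.D C :=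
  DRing.toD ((TL M).obj F)

/-- `TD` is functorial for isomorphisms -/
noncomputable def tdIso (F : DRing.Cx C) {M M' : ModuleCat.{u} C} (e : M ≅ M') :
    TD F M ≅ TD F M' :=
  Q.mapIso (HomologicalComplex.Hom.isoOfComponents (fun i => whiskerRightIso e (F.X i))
    (fun i j _ => (whisker_exchange e.hom (F.d i j)).symm))

/-- `C ⊗ F ≅ F` -/
noncomputable def tdUnitIso (F : DRing.Cx C) : TD F (𝟙_ (ModuleCat.{u} C)) ≅ DRing.toD F :=
  Q.mapIso (HomologicalComplex.Hom.isoOfComponents (fun i => λ_ (F.X i))
    (fun i j _ => (leftUnitor_naturality (F.d i j)).symm))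

section Rel

variable {R : Type u} [CommRing R] [Algebra R C]

theorem relpc_of_iso {K K' : Dual.D C} (e : K ≅ K') (m : ℤ)
    (h : DerCA.IsRelPseudoCoherent R C m K) : DerCA.IsRelPseudoCoherent R C m K' := by
  obtain ⟨n, α, hα, h⟩ := h
  exact ⟨n, α, hα, Groth.Agent.S2087.pc_of_iso
    ((DRing.restrictD (α : MvPolynomial (Fin n) R →+* C)).mapIso e) h⟩

theorem relpc_mono {K : Dual.D C} {m m' : ℤ} (hmm : m ≤ m')
    (h : DerCA.IsRelPseudoCoherent R C m K) : DerCA.IsRelPseudoCoherent R C m' K := by
  obtain ⟨n, α, hα, h⟩ := h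
  exact ⟨n, α, hα, Groth.Agent.S2087.pc_mono _ hmm h⟩

variable [Algebra.FiniteType R C]

/-- vanishing from degree `k` on gives relative `k`-pseudo-coherence -/
theorem relpc_of_vanish (K : Dual.D C) (k : ℤ) (h : ∀ j, k ≤ j → IsZero (Hn j K)) :
    DerCA.IsRelPseudoCoherent R C k K := by
  obtain ⟨n, α, hα⟩ := exists_presentation (R := R) (A := C)
  rw [relpc_iff_via α hα]
  apply pc_of_vanishD
  intro j hj
  haveI : Subsingleton (Hn j K) := ModuleCat.subsingleton_of_isZero (h j hj)
  haveI := (subsingleton_Hn_restrict_iff (α : MvPolynomial (Fin n) R →+* C) K j).2 inferInstance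
  exact ModuleCat.isZero_of_subsingleton _

/-- `M ⊗ F` vanishes above `c` when `F` does -/
theorem isZero_Hn_TD (F : DRing.Cx C) (c : ℤ) (hb : DRing.VanishesAbove F c)
    (M : ModuleCat.{u} C) (j : ℤ) (hj : c < j) : IsZero (Hn j (TD F M)) := by
  have h1 : IsZero (((TL M).obj F).X j) := (tensorLeft M).map_isZero (hb j hj)
  have h2 : IsZero (((TL M).obj F).homology j) := by
    rw [← HomologicalComplex.exactAt_iff_isZero_homology]
    exact ShortComplex.exact_of_isZero_X₂ _ h1
  exact h2.of_iso ((homologyFunctorFactors (ModuleCat.{u} C) j).app ((TL M).obj F))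

/-- all-pc modules are finite -/
theorem finite_of_allPC (M : ModuleCat.{u} C) (h : AllPC M) : Module.Finite C M := by
  have h1 := (Groth.Agent.S2068.result _ 0 (h 0)).1 (fun i hi => isZero_Hn_inD M i (by omega))
  exact Module.Finite.equiv (HnInD M).toLinearEquiv

/-- the kernel in a short exact sequence of all-pc modules -/
theorem allPC_ker (S : ShortComplex (ModuleCat.{u} C)) (hS : S.ShortExact) (h2 : AllPC S.X₂)
    (h3 : AllPC S.X₃) : AllPC S.X₁ := fun m => by
  have := (Groth.Agent.S2067.main _ hS.singleTriangle_distinguished (m - 1)).2.2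
    (by simpa using h2 m) (h3 (m - 1))
  simpa using this

/-- the triangle attached to a short exact sequence of modules -/
theorem relpc_TD_ses (F : DRing.Cx C) (hF : ∀ i, Module.Flat C (F.X i))
    (S : ShortComplex (ModuleCat.{u} C)) (hS : S.ShortExact) (k : ℤ) :
    (DerCA.IsRelPseudoCoherent R C (k + 1) (TD F S.X₁) → DerCA.IsRelPseudoCoherent R C k (TD F S.X₂) →
        DerCA.IsRelPseudoCoherent R C k (TD F S.X₃)) ∧
      (DerCA.IsRelPseudoCoherent R C k (TD F S.X₁) → DerCA.IsRelPseudoCoherent R C k (TD F S.X₃) →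
        DerCA.IsRelPseudoCoherent R C k (TD F S.X₂)) := by
  have hT := triangleOfSES_distinguished (tSC_shortExact S hS F hF)
  have := s7020 (R := R) k _ hT
  exact ⟨this.1, this.2.1⟩

theorem relpc_TD_prod (F : DRing.Cx C) (hF : ∀ i, Module.Flat C (F.X i)) (k : ℤ)
    (M N : Type u) [AddCommGroup M] [Module C M] [AddCommGroup N] [Module C N]
    (hM : DerCA.IsRelPseudoCoherent R C k (TD F (ModuleCat.of C M)))
    (hN : DerCA.IsRelPseudoCoherent R C k (TD F (ModuleCat.of C N))) :
    DerCA.IsRelPseudoCoherent R C k (TD F (ModuleCat.of C (M × N))) := by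
  let S : ShortComplex (ModuleCat.{u} C) :=
    ShortComplex.mk (ModuleCat.ofHom (LinearMap.inl C M N)) (ModuleCat.ofHom (LinearMap.snd C M N))
      (by ext x; simp)
  have hS : S.ShortExact := by
    refine ShortComplex.ShortExact.mk' ?_ ?_ ?_
    · rw [ShortComplex.moduleCat_exact_iff_range_eq_ker]
      exact LinearMap.range_inl C M N
    · rw [ModuleCat.mono_iff_injective]
      exact LinearMap.inl_injective
    · rw [ModuleCat.epi_iff_surjective]
      exact LinearMap.snd_surjective
  exact (relpc_TD_ses F hF S hS k).2 hM hN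

theorem relpc_TD_of_isZero (F : DRing.Cx C) (k : ℤ) (M : ModuleCat.{u} C) (hM : IsZero M) :
    DerCA.IsRelPseudoCoherent R C k (TD F M) := by
  apply relpc_of_vanish
  intro j _
  have h1 : IsZero (((TL M).obj F).X j) := (tensorRight (F.X j)).map_isZero hM
  have h2 : IsZero (((TL M).obj F).homology j) := by
    rw [← HomologicalComplex.exactAt_iff_isZero_homology]
    exact ShortComplex.exact_of_isZero_X₂ _ h1
  exact h2.of_iso ((homologyFunctorFactors (ModuleCat.{u} C) j).app ((TL M).obj F))

theorem relpc_TD_pi (F : DRing.Cx C) (hF : ∀ i, Module.Flat C (F.X i)) (k : ℤ)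
    (h : DerCA.IsRelPseudoCoherent R C k (TD F (ModuleCat.of C C))) (n : ℕ) :
    DerCA.IsRelPseudoCoherent R C k (TD F (ModuleCat.of C (Fin n → C))) := by
  induction n with
  | zero => exact relpc_TD_of_isZero F k _ (ModuleCat.isZero_of_subsingleton _)
  | succ n ih =>
    exact relpc_of_iso (tdIso F (Fin.consLinearEquiv C (fun _ : Fin (n+1) => C)).toModuleIso) k
      (relpc_TD_prod F hF k C (Fin n → C) h ih)

/-- **tensoring with an all-pc module preserves relative pseudo-coherence** -/
theorem relpc_TD_of_allPC (F : DRing.Cx C) (c : ℤ) (hb : DRing.VanishesAbove F c)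
    (hF : ∀ i, Module.Flat C (F.X i)) (m : ℤ)
    (h0 : DerCA.IsRelPseudoCoherent R C m (DRing.toD F)) (M : ModuleCat.{u} C) (hM : AllPC M) :
    DerCA.IsRelPseudoCoherent R C m (TD F M) := by
  have hunit : ∀ k, m ≤ k → DerCA.IsRelPseudoCoherent R C k (TD F (ModuleCat.of C C)) :=
    fun k hk => relpc_mono hk (relpc_of_iso (tdUnitIso F).symm m h0)
  have key : ∀ n : ℕ, ∀ k : ℤ, m ≤ k → c + 1 ≤ k + n → ∀ M : ModuleCat.{u} C, AllPC M →
      DerCA.IsRelPseudoCoherent R C k (TD F M) := by
    intro n
    induction n with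
    | zero =>
      intro k _ hk M _
      exact relpc_of_vanish _ k (fun j hj => isZero_Hn_TD F c hb M j (by omega))
    | succ n ih =>
      intro k hmk hk M hM
      haveI := finite_of_allPC M hM
      obtain ⟨r, π, hπ⟩ := Module.Finite.exists_fin' C M
      let S : ShortComplex (ModuleCat.{u} C) :=
        ShortComplex.mk (ModuleCat.ofHom (LinearMap.ker π).subtype)
          (ModuleCat.ofHom (X := ModuleCat.of C (Fin r → C)) (Y := M) π) (by
            ext x
            exact x.2)
      have hS : S.ShortExact := by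
        refine ShortComplex.ShortExact.mk' ?_ ?_ ?_
        · rw [ShortComplex.moduleCat_exact_iff_range_eq_ker]
          exact Submodule.range_subtype _
        · rw [ModuleCat.mono_iff_injective]
          exact Submodule.subtype_injective _
        · rw [ModuleCat.epi_iff_surjective]
          exact hπ
      have hK : AllPC S.X₁ := allPC_ker S hS (allPC_pi C allPC_self r) hM
      have h1 := ih (k + 1) (by omega) (by push_cast at hk ⊢; omega) S.X₁ hK
      have h2 := relpc_TD_pi F hF k (hunit k hmk) r
      exact (relpc_TD_ses F hF S hS k).1 h1 h2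
  exact key (c + 1 - m).toNat m le_rfl (by omega) M hM

end Rel

end Groth.Agent.Lib.Helper5.RelPCTen
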