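import Mathlib
import Groth.Prelude.Def_DerCA
import Groth.Agent.Lib.Helper5.DRing.RelPCTen
import Groth.Agent.Lib.Helper5.DTenLib.Base

/-!
# Base change of relative pseudo-coherence along a pseudo-coherent ring map (helper5)
-/
set_option autoImplicit false
set_option linter.unusedSectionVars false
set_option linter.unusedVariables false
universe u
open CategoryTheory CategoryTheory.Limits MonoidalCategory DerivedCategory
attribute [local instance] HasDerivedCategory.standard

namespace Groth.Agent.Lib.Helper5.RelPCTen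

open Groth.Agent.Helper5.PCRes Groth.Agent.Helper5.PCHom Groth.Agent.Helper5.PCDev
open TensorProduct

section Iso
variable {A A' B : Type u} [CommRing A] [CommRing A'] [CommRing B] (β : A' →+* B)

/-- `B` as an `A'`-module -/
noncomputable abbrev MB : ModuleCat.{u} A' :=
  (ModuleCat.restrictScalars.{u} β).obj (ModuleCat.of B B)

/-- `B ⊗_{A'} X` with its two `A'`-module structures -/
noncomputable def tlEquiv (X : ModuleCat.{u} A') :
    ↑((tensorLeft (MB β)).obj X) ≃ₗ[A']
      ↑((ModuleCat.restrictScalars.{u} β).obj ((ModuleCat.extendScalars.{u, u, u} β).obj X)) where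
  toFun t := t
  invFun t := t
  left_inv _ := rfl
  right_inv _ := rfl
  map_add' _ _ := rfl
  map_smul' a t := by
    let f : ↑((tensorLeft (MB β)).obj X) →+
        ↑((ModuleCat.restrictScalars.{u} β).obj ((ModuleCat.extendScalars.{u, u, u} β).obj X)) :=
      AddMonoidHom.id _
    show f (a • t) = a • f t
    refine TensorProduct.induction_on (motive := fun t =>
      f (a • (show ↑((tensorLeft (MB β)).obj X) from t)) = a • f t) t ?_ ?_ ?_
    · show f (a • (0 : ↑((tensorLeft (MB β)).obj X))) = a • f 0
      rw [smul_zero, map_zero, smul_zero]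
    · intro b x
      rfl
    · intro x y hx hy
      show f (a • ((show ↑((tensorLeft (MB β)).obj X) from x) +
        (show ↑((tensorLeft (MB β)).obj X) from y))) = a • f (x + y)
      rw [smul_add, map_add, map_add, smul_add]
      exact congrArg₂ (· + ·) hx hy

/-- `B ⊗_{A'} - ≅` extension followed by restriction of scalars -/
noncomputable def tensorLeftIso :
    tensorLeft (MB β) ≅
      ModuleCat.extendScalars.{u, u, u} β ⋙ ModuleCat.restrictScalars.{u} β :=
  NatIso.ofComponents (fun X => (tlEquiv β X).toModuleIso) (by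
    intro X X' g
    ext t
    induction t using TensorProduct.induction_on with
    | zero => rw [map_zero, map_zero]
    | tmul b x => rfl
    | add x y hx hy => rw [map_add, map_add, hx, hy])

variable (φ' : A →+* A')

/-- the two ways of computing `B ⊗_A -` as an `A'`-module -/
noncomputable def bcIso :
    ModuleCat.extendScalars.{u, u, u} φ' ⋙ tensorLeft (MB β) ≅
      ModuleCat.extendScalars.{u, u, u} (β.comp φ') ⋙ ModuleCat.restrictScalars.{u} β :=
  Functor.isoWhiskerLeft _ (tensorLeftIso β) ≪≫ (Functor.associator _ _ _).symm ≪≫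
    Functor.isoWhiskerRight (ModuleCat.extendScalarsComp φ' β).symm _

/-- complex level -/
noncomputable def bcCxIso (P : DRing.Cx A) :
    (TL (MB β)).obj ((Groth.Agent.Lib.Helper5.KProj.bcCx φ').obj P) ≅
      ((ModuleCat.restrictScalars.{u} β).mapHomologicalComplex (ComplexShape.up ℤ)).obj
        ((Groth.Agent.Lib.Helper5.KProj.bcCx (β.comp φ')).obj P) :=
  HomologicalComplex.Hom.isoOfComponents (fun i => (bcIso β φ').app (P.X i))
    (fun i j _ => ((bcIso β φ').hom.naturality (P.d i j)).symm)

/-- derived level -/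
noncomputable def bcDIso (P : DRing.Cx A) :
    TD ((Groth.Agent.Lib.Helper5.KProj.bcCx φ').obj P) (MB β) ≅
      (DRing.restrictD β).obj (DRing.toD ((Groth.Agent.Lib.Helper5.KProj.bcCx (β.comp φ')).obj P)) :=
  Q.mapIso (bcCxIso β φ' P) ≪≫
    ((ModuleCat.restrictScalars.{u} β).mapDerivedCategoryFactors.app _).symm

end Iso

section H

open Groth.Agent.Lib.Helper5.KProj Groth.Agent.Helper5.TorAmp

theorem flat_extendScalars {A A' : Type u} [CommRing A] [CommRing A'] (φ : A →+* A')
    (N : ModuleCat.{u} A) [Module.Flat A N] :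
    Module.Flat A' ((ModuleCat.extendScalars.{u, u, u} φ).obj N) := by
  letI := φ.toAlgebra
  have h1 : Module.Flat A' (A' ⊗[A] N) := inferInstance
  have h3 : Module.Flat A' (Groth.Agent.Helper5.FlatBC.N' (R := A) A' N) :=
    Module.Flat.of_linearEquiv (Groth.Agent.Helper5.FlatBC.eqv (R := A) A' N).symm
  exact h3

variable {R A A' B : Type u} [CommRing R] [CommRing A] [CommRing A'] [CommRing B]
  [Algebra R A'] [Algebra.FiniteType R A']

/-- **the key lemma**: derived base change to a pseudo-coherent `A'`-algebra `B`, viewed over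
`A'`, preserves pseudo-coherence relative to `R` -/
theorem relpc_restrict_lbc (φ' : A →+* A') (β : A' →+* B) (ψ : A →+* B) (hψ : ψ = β.comp φ')
    (hpβ : PCHom β) (K : Dual.D A) (c : ℤ) [K.IsLE c] (m : ℤ)
    (h' : DerCA.IsRelPseudoCoherent R A' m ((DRing.LBaseChange φ').obj K)) :
    DerCA.IsRelPseudoCoherent R A' m
      ((DRing.restrictD β).obj ((DRing.LBaseChange ψ).obj K)) := by
  subst hψ
  obtain ⟨P, hP, hproj, hPk, ⟨e⟩⟩ := exists_proj_rep K c
  haveI := hPk
  have hb : DRing.VanishesAbove ((bcCx φ').obj P) c := vanishesAbove_bcCx φ' P c hP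
  have hF : ∀ i, Module.Flat A' (((bcCx φ').obj P).X i) := fun i => by
    haveI := termwiseFlat_of_projective P hproj i
    exact flat_extendScalars φ' (P.X i)
  have h0 : DerCA.IsRelPseudoCoherent R A' m (DRing.toD ((bcCx φ').obj P)) :=
    relpc_of_iso ((DRing.LBaseChange φ').mapIso e.symm ≪≫ lbcIso φ' P) m h'
  have h3 := relpc_TD_of_allPC ((bcCx φ').obj P) c hb hF m h0 (MB β) hpβ
  exact relpc_of_iso (bcDIso β φ' P ≪≫ (DRing.restrictD β).mapIso
    ((lbcIso (β.comp φ') P).symm ≪≫ (DRing.LBaseChange (β.comp φ')).mapIso e)) m h3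

end H

section Main

attribute [local instance] MvPolynomial.algebraMvPolynomial

variable {R A B : Type u} [CommRing R] [CommRing A] [CommRing B] [Algebra R A] [Algebra A B]
  [Algebra R B] [IsScalarTower R A B]

/-- a polynomial ring is pseudo-coherent over its base -/
theorem relpcAll_mvPolynomial (k : ℕ) :
    DerCA.IsRelPseudoCoherentModuleAll R (MvPolynomial (Fin k) R) (MvPolynomial (Fin k) R) := by
  intro m
  refine (relpcModule_iff_via (AlgHom.id R (MvPolynomial (Fin k) R)) Function.surjective_id m
    (ModuleCat.of _ (MvPolynomial (Fin k) R))).2 ?_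
  exact pchom_equiv (RingEquiv.refl (MvPolynomial (Fin k) R)) m

variable [Algebra.FiniteType R A] [Algebra.FiniteType A B]

/-- boundedness above of relatively pseudo-coherent objects -/
theorem exists_isLE_of_relpc (K : Dual.D A) (m : ℤ) (h : DerCA.IsRelPseudoCoherent R A m K) :
    ∃ c : ℤ, K.IsLE c := by
  obtain ⟨n, α, hα, hpc⟩ := h
  obtain ⟨B0, hB0⟩ := Groth.Agent.S2087.pc_bound _ m hpc
  refine ⟨B0, ?_⟩
  rw [DerivedCategory.isLE_iff]
  intro j hj
  haveI : Subsingleton (Hn j ((DRing.restrictD (α : MvPolynomial (Fin n) R →+* A)).obj K)) :=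
    ModuleCat.subsingleton_of_isZero (hB0 j hj)
  haveI := (subsingleton_Hn_restrict_iff (α : MvPolynomial (Fin n) R →+* A) K j).1 inferInstance
  exact ModuleCat.isZero_of_subsingleton _

/-- **S6986, the main statement** -/
theorem relpc_lbc (hB : DerCA.IsRelPseudoCoherentModuleAll A B B) (K : Dual.D A) (m : ℤ)
    (h : DerCA.IsRelPseudoCoherent R A m K) :
    DerCA.IsRelPseudoCoherent R B m ((DRing.LBaseChange (algebraMap A B)).obj K) := by
  obtain ⟨k, β, hβ⟩ := exists_presentation (R := A) (A := B)
  have hpβ : PCHom (β : MvPolynomial (Fin k) A →+* B) := pchom_of_relpcAll β hβ hB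
  obtain ⟨c, hc⟩ := exists_isLE_of_relpc K m h
  haveI := hc
  have h1 : DerCA.IsRelPseudoCoherent (MvPolynomial (Fin k) R) (MvPolynomial (Fin k) A) m
      ((DRing.LBaseChange (algebraMap A (MvPolynomial (Fin k) A))).obj K) :=
    Groth.Agent.Helper5.RelPCBC.relpc_baseChange m K h
  haveI : Algebra.FiniteType (MvPolynomial (Fin k) R) (MvPolynomial (Fin k) A) :=
    Algebra.FiniteType.equiv (inferInstance : Algebra.FiniteType (MvPolynomial (Fin k) R)
      (MvPolynomial (Fin k) R ⊗[R] A))
      (Algebra.IsPushout.equiv R (MvPolynomial (Fin k) R) A (MvPolynomial (Fin k) A))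
  have h2 : DerCA.IsRelPseudoCoherent R (MvPolynomial (Fin k) A) m
      ((DRing.LBaseChange (algebraMap A (MvPolynomial (Fin k) A))).obj K) :=
    (relpc_base_iff (R := R) (A := MvPolynomial (Fin k) R) (B := MvPolynomial (Fin k) A)
      (relpcAll_mvPolynomial k) _ m).1 h1
  have h3 := relpc_restrict_lbc (R := R) (algebraMap A (MvPolynomial (Fin k) A))
    (β : MvPolynomial (Fin k) A →+* B) (algebraMap A B) (β.comp_algebraMap).symm hpβ K c m h2
  letI algA'B : Algebra (MvPolynomial (Fin k) A) B := (β : MvPolynomial (Fin k) A →+* B).toAlgebra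
  haveI : IsScalarTower R (MvPolynomial (Fin k) A) B := by
    apply IsScalarTower.of_algebraMap_eq'
    ext r
    show algebraMap R B r = β (algebraMap R (MvPolynomial (Fin k) A) r)
    rw [IsScalarTower.algebraMap_apply R A (MvPolynomial (Fin k) A), β.commutes,
      ← IsScalarTower.algebraMap_apply]
  haveI : Module.Finite (MvPolynomial (Fin k) A) B :=
    Module.Finite.of_surjective (Algebra.linearMap (MvPolynomial (Fin k) A) B) hβ
  exact (relpc_finite_iff (R := R) (A := MvPolynomial (Fin k) A) (B := B) _ m).2 h3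

end Main

end Groth.Agent.Lib.Helper5.RelPCTen
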