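import Mathlib
import Groth.Prelude.Def_DerCA
import Groth.Agent.Lib.Helper5.DRing.RelPCBC
import Groth.Agent.Lib.Helper5.TBC.CmpQi
import Groth.Agent.Lib.Helper5.TBC.PolySq
import Groth.Agent.Lib.Helper5.TBC.Pushout
import Groth.Agent.Lib.Helper5.TBC.ShriekBC
import Groth.Agent.Lib.Helper5.KProj.Tri

/-!
# Tor independent base change of relative pseudo-coherence (helper5)
-/

set_option autoImplicit false
universe u
open CategoryTheory CategoryTheory.Limits DerivedCategory MonoidalCategory TensorProduct
attribute [local instance] HasDerivedCategory.standard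
attribute [local instance] MvPolynomial.algebraMvPolynomial

namespace Groth.Agent.Lib.Helper5.RelPCTorBC

open Groth.Agent.Lib.Helper5.DTenLib _root_.Helper5.Gen Groth.Agent.Lib.Helper5.KProj
  Groth.Agent.Helper1.TorL Groth.Agent.Lib.Helper5.TBC Groth.Agent.Helper5.RelPCBC _root_.Helper5.Shriek

section TA

variable {R P A R' P' : Type u} [CommRing R] [CommRing P] [CommRing A] [CommRing R']
  [CommRing P'] {β : R →+* P} {ρ₀ : R →+* R'} {ρ : P →+* P'} {β' : R' →+* P'} (φ : P →+* A)
  (h' : ρ.comp β = β'.comp ρ₀)

/-- the hypothesis of `isIso_cmp_myAdj_of_qi` when `P` is flat over `R` and `A` is Tor-acyclic -/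
theorem quasiIso_bcCx_resolution_of_ta (hc' : IsCocart h')
    (hP : ∀ M : ModuleCat.{u} P, Module.Flat P M →
      Module.Flat R ((ModuleCat.restrictScalars.{u} β).obj M))
    (hA : TA (SR ρ₀) ((ModuleCat.restrictScalars.{u} β).obj
      ((ModuleCat.restrictScalars.{u} φ).obj (ModuleCat.of A A))))
    (n : ℤ) (G : DRing.Cx P) (r : G ⟶ (rsCx φ).obj (Un (R := A) n)) (hr : QuasiIso r)
    (hproj : ∀ i, Projective (G.X i)) (hGb : DRing.VanishesAbove G (-n)) :
    QuasiIso ((bcCx ρ).map r) := by
  have hb : DRing.VanishesAbove ((rsCx φ).obj (Un (R := A) n)) (-n) := by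
    intro i hi
    exact Functor.map_isZero (ModuleCat.restrictScalars.{u} φ)
      (HomologicalComplex.isZero_single_obj_X (ComplexShape.up ℤ) 0 (ModuleCat.of A A) (i + n)
        (by omega))
  refine quasiIso_bcCx_of_cocart h' hc' r hr (fun i => ?_) (fun i => ?_) (-n) hGb hb
  · haveI := hproj i
    haveI : Module.Flat P (G.X i) := flat_of_projective (G.X i)
    haveI := hP (G.X i) inferInstance
    exact TA.of_flat _ _
  · by_cases hi : i + n = 0
    · refine TA.of_iso _ ?_ hA
      exact (ModuleCat.restrictScalars.{u} β).mapIso ((ModuleCat.restrictScalars.{u} φ).mapIso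
        (HomologicalComplex.singleObjXIsoOfEq (ComplexShape.up ℤ) 0 (ModuleCat.of A A) (i + n)
          hi).symm)
    · apply TA.of_isZero
      exact Functor.map_isZero (ModuleCat.restrictScalars.{u} β)
        (Functor.map_isZero (ModuleCat.restrictScalars.{u} φ)
          (HomologicalComplex.isZero_single_obj_X (ComplexShape.up ℤ) 0 (ModuleCat.of A A)
            (i + n) hi))

end TA

section TA2

/-- Tor-acyclicity of `A` over `R`, seen through an intermediate ring `P` -/
theorem ta_restrict₂ {R P A R' : Type u} [CommRing R] [CommRing P] [CommRing A] [CommRing R']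
    [Algebra R P] [Algebra R A] [Algebra P A] [IsScalarTower R P A] [Algebra R R']
    (htor : ∀ p : ℕ, 1 ≤ p → Subsingleton (DRing.Tor R p A R')) :
    TA (SR (algebraMap R R')) ((ModuleCat.restrictScalars.{u} (algebraMap R P)).obj
      ((ModuleCat.restrictScalars.{u} (algebraMap P A)).obj (ModuleCat.of A A))) := by
  have h0 : TorIndep (algebraMap R A) (algebraMap R R') := torIndep_of_tor R A R' htor
  refine TA.of_iso _ ?_ h0
  let e : ((ModuleCat.restrictScalars.{u} (algebraMap R A)).obj (ModuleCat.of A A)) ≃ₗ[R]
      ((ModuleCat.restrictScalars.{u} (algebraMap R P)).obj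
      ((ModuleCat.restrictScalars.{u} (algebraMap P A)).obj (ModuleCat.of A A))) :=
    { toFun := fun a => a
      invFun := fun a => a
      left_inv := fun _ => rfl
      right_inv := fun _ => rfl
      map_add' := fun _ _ => rfl
      map_smul' := fun r a => by
        show algebraMap R A r * (show A from a) =
          algebraMap P A (algebraMap R P r) * (show A from a)
        rw [← IsScalarTower.algebraMap_apply] }
  exact e.toModuleIso

end TA2

section main

variable {R A R' A' : Type u} [CommRing R] [CommRing A] [CommRing R'] [CommRing A']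
  [Algebra R A] [Algebra R R'] [Algebra A A'] [Algebra R' A'] [Algebra R A']
  [IsScalarTower R A A'] [IsScalarTower R R' A'] [Algebra.IsPushout R A R' A']

/-- **Tor independent base change of relative pseudo-coherence**, for a fixed presentation -/
theorem relpcVia_torBC (htor : ∀ p : ℕ, 1 ≤ p → Subsingleton (DRing.Tor R p A R'))
    {n : ℕ} (α : MvPolynomial (Fin n) R →ₐ[R] A) (m : ℤ) (K : Dual.D A)
    (h : DerCA.IsRelPseudoCoherentVia α m K) :
    DerCA.IsRelPseudoCoherentVia (presBC R' A' α) m
      ((DRing.LBaseChange (algebraMap A A')).obj K) := by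
  letI i1 : Algebra (MvPolynomial (Fin n) R) A := (α : MvPolynomial (Fin n) R →+* A).toAlgebra
  letI i2 : Algebra (MvPolynomial (Fin n) R') A' :=
    (presBC R' A' α : MvPolynomial (Fin n) R' →+* A').toAlgebra
  letI i3 : Algebra (MvPolynomial (Fin n) R) A' :=
    ((algebraMap A A').comp (α : MvPolynomial (Fin n) R →+* A)).toAlgebra
  haveI t1 : IsScalarTower (MvPolynomial (Fin n) R) A A' := .of_algebraMap_eq (fun _ => rfl)
  haveI t2 : IsScalarTower (MvPolynomial (Fin n) R) (MvPolynomial (Fin n) R') A' :=
    .of_algebraMap_eq (fun x => (RingHom.congr_fun (presBC_comp_map (R' := R') (A' := A') α) x).symm)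
  haveI t3 : IsScalarTower R (MvPolynomial (Fin n) R) A :=
    .of_algebraMap_eq (fun r => (α.commutes r).symm)
  haveI t4 : IsScalarTower R' (MvPolynomial (Fin n) R') A' :=
    .of_algebraMap_eq (fun r => ((presBC R' A' α).commutes r).symm)
  haveI t5 : IsScalarTower R (MvPolynomial (Fin n) R') A' := .of_algebraMap_eq (fun r => by
    rw [IsScalarTower.algebraMap_apply R R' A', IsScalarTower.algebraMap_apply R R' (MvPolynomial (Fin n) R'),
      ← IsScalarTower.algebraMap_apply R' (MvPolynomial (Fin n) R') A'])
  haveI p1 : Algebra.IsPushout (MvPolynomial (Fin n) R) A (MvPolynomial (Fin n) R') A' :=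
    (Algebra.IsPushout.comp_iff R (MvPolynomial (Fin n) R) R' (MvPolynomial (Fin n) R')).1 inferInstance
  -- abbreviations
  let P := MvPolynomial (Fin n) R
  let P' := MvPolynomial (Fin n) R'
  have hsq : (algebraMap A A').comp (algebraMap P A) =
      (algebraMap P' A').comp (algebraMap P P') := by
    refine RingHom.ext fun p => ?_
    show algebraMap A A' (algebraMap P A p) = algebraMap P' A' (algebraMap P P' p)
    rw [← IsScalarTower.algebraMap_apply P A A', ← IsScalarTower.algebraMap_apply P P' A']
  have hcomp : (algebraMap P P').comp (algebraMap R P) =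
      (algebraMap R' P').comp (algebraMap R R') := by
    refine RingHom.ext fun r => ?_
    show algebraMap P P' (algebraMap R P r) = algebraMap R' P' (algebraMap R R' r)
    rw [← IsScalarTower.algebraMap_apply R P P', ← IsScalarTower.algebraMap_apply R R' P']
  have hcmp : IsIso (TrivBC.cmp (myAdj (algebraMap P P')) (myAdj (algebraMap A A')) hsq K) :=
    isIso_cmp_myAdj_of_qi hsq (isCocart_of_isPushout P A P' A' hsq)
      (fun k G r hr hproj hGb =>
        quasiIso_bcCx_resolution_of_ta (algebraMap P A) hcomp
          (isCocart_of_isPushout R P R' P' hcomp)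
          (fun M hM => flat_restrictScalars M hM) (ta_restrict₂ htor) k G r hr hproj hGb) K
  have h1 : DRing.IsPseudoCoherent P' m ((DRing.LBaseChange (algebraMap P P')).obj
      ((DRing.restrictD (algebraMap P A)).obj K)) :=
    isPseudoCoherent_LBaseChange (φ := algebraMap P P') _ m h
  exact Groth.Agent.S2087.pc_of_iso
    (@asIso _ _ _ _ (TrivBC.cmp (myAdj (algebraMap P P')) (myAdj (algebraMap A A')) hsq K) hcmp) h1

/-- **Tor independent base change of relative pseudo-coherence** -/
theorem relpc_torBC (htor : ∀ p : ℕ, 1 ≤ p → Subsingleton (DRing.Tor R p A R'))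
    (m : ℤ) (K : Dual.D A) (h : DerCA.IsRelPseudoCoherent R A m K) :
    DerCA.IsRelPseudoCoherent R' A' m ((DRing.LBaseChange (algebraMap A A')).obj K) := by
  obtain ⟨n, α, hα, h⟩ := h
  obtain ⟨h1, -, -⟩ := presBC_main (R' := R') (A' := A') α hα
  exact ⟨n, presBC R' A' α, h1, relpcVia_torBC htor α m K h⟩

end main

end Groth.Agent.Lib.Helper5.RelPCTorBC
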