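import Mathlib
import Groth.Prelude.Def_DRing2
import Groth.Agent.Lib.Helper5.TorAmp.FlatTrunc

set_option autoImplicit false
universe u
open CategoryTheory CategoryTheory.Limits
attribute [local instance] HasDerivedCategory.standard
open DRing

namespace Groth.Agent.Helper5.ToSingleFP
open Groth.Agent.Helper5.FlatAcyc

variable {R : Type u} [CommRing R]

theorem fp_opcycles (E : CochainComplex (ModuleCat.{u} R) ℤ) (hff : TermwiseFiniteFree E) (i : ℤ) :
    Module.FinitePresentation R (E.opcycles i) := by
  have h1 : Module.Finite R (E.X i) := (hff i).1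
  have h2 : Module.Free R (E.X i) := (hff i).2
  have h3 : Module.Finite R (E.X (i - 1)) := (hff (i - 1)).1
  have hq : Module.FinitePresentation R (E.X i ⧸ LinearMap.range (E.d (i - 1) i).hom) := by
    refine Module.finitePresentation_of_free_of_surjective (Submodule.mkQ _) (Submodule.mkQ_surjective _) ?_
    rw [Submodule.ker_mkQ, LinearMap.range_eq_map]
    exact Submodule.FG.map _ Module.Finite.fg_top
  exact Module.FinitePresentation.of_equiv
    (opcyclesIsoQuotient E (i - 1) i (by omega)).symm.toLinearEquiv

/-- the chain map `E ⟶ single_i (E.opcycles i)` -/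
noncomputable def toSingle (E : CochainComplex (ModuleCat.{u} R) ℤ) (i : ℤ) :
    E ⟶ (HomologicalComplex.single (ModuleCat.{u} R) (ComplexShape.up ℤ) i).obj (E.opcycles i) :=
  HomologicalComplex.mkHomToSingle (E.pOpcycles i) (by
    intro j hj
    have : (ComplexShape.up ℤ).prev i = j := (ComplexShape.up ℤ).prev_eq' hj
    subst this
    simp)

theorem mono_homologyMap_toSingle (E : CochainComplex (ModuleCat.{u} R) ℤ) (i : ℤ) :
    Mono (HomologicalComplex.homologyMap (toSingle E i) i) := by
  set L := (HomologicalComplex.single (ModuleCat.{u} R) (ComplexShape.up ℤ) i).obj (E.opcycles i)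
  have h1 : HomologicalComplex.homologyMap (toSingle E i) i ≫ L.homologyι i =
      E.homologyι i ≫ HomologicalComplex.opcyclesMap (toSingle E i) i :=
    HomologicalComplex.homologyι_naturality _ _
  have h2 : HomologicalComplex.opcyclesMap (toSingle E i) i =
      (HomologicalComplex.singleObjXSelf (ComplexShape.up ℤ) i (E.opcycles i)).inv ≫
        L.pOpcycles i := by
    rw [← cancel_epi (E.pOpcycles i), HomologicalComplex.p_opcyclesMap]
    simp [toSingle, L]
  have h3 : IsIso (L.pOpcycles i) := by
    apply HomologicalComplex.isIso_pOpcycles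
    · rfl
    · simp [L]
  have h4 : Mono (HomologicalComplex.opcyclesMap (toSingle E i) i) := by
    rw [h2]; infer_instance
  have h5 : Mono (HomologicalComplex.homologyMap (toSingle E i) i ≫ L.homologyι i) := by
    rw [h1]; infer_instance
  exact mono_of_mono _ (L.homologyι i)

theorem mono_HQ (E : CochainComplex (ModuleCat.{u} R) ℤ) (i : ℤ) :
    Mono ((DerivedCategory.homologyFunctor (ModuleCat.{u} R) i).map
      (DerivedCategory.Q.map (toSingle E i))) := by
  have hnat := (DerivedCategory.homologyFunctorFactors (ModuleCat.{u} R) i).hom.naturality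
    (toSingle E i)
  have hm := mono_homologyMap_toSingle E i
  let a := (DerivedCategory.homologyFunctorFactors (ModuleCat.{u} R) i).app E
  let b := (DerivedCategory.homologyFunctorFactors (ModuleCat.{u} R) i).app
    ((HomologicalComplex.single (ModuleCat.{u} R) (ComplexShape.up ℤ) i).obj (E.opcycles i))
  have key : (DerivedCategory.homologyFunctor (ModuleCat.{u} R) i).map
      (DerivedCategory.Q.map (toSingle E i)) =
      a.hom ≫ (HomologicalComplex.homologyFunctor (ModuleCat R) (ComplexShape.up ℤ) i).map
        (toSingle E i) ≫ b.inv := by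
    rw [← Category.assoc, Iso.eq_comp_inv]
    exact hnat
  have hm' : Mono ((HomologicalComplex.homologyFunctor (ModuleCat R) (ComplexShape.up ℤ) i).map
        (toSingle E i)) := hm
  rw [key]
  exact mono_comp' inferInstance (mono_comp' hm' inferInstance)

theorem s6988 (R : Type u) [CommRing R] (K : Dual.D R)
    (hK : DRing.IsPseudoCoherent' R K) (i : ℤ) :
    ∃ (M : Type u) (_ : AddCommGroup M) (_ : Module R M) (_ : Module.FinitePresentation R M)
      (f : K ⟶ (shiftFunctor (Dual.D R) (-i)).obj (Dual.inD R M)),
      Mono ((DerivedCategory.homologyFunctor (ModuleCat.{u} R) i).map f) := by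
  obtain ⟨E, b, hb, hff, ⟨e⟩⟩ := hK
  let ι : DerivedCategory.Q.obj ((HomologicalComplex.single (ModuleCat.{u} R) (ComplexShape.up ℤ) i).obj
      (E.opcycles i)) ≅ (shiftFunctor (Dual.D R) (-i)).obj (Dual.inD R (E.opcycles i)) :=
    ((DerivedCategory.singleFunctorIsoCompQ (ModuleCat.{u} R) i).app (E.opcycles i)).symm ≪≫
      (((DerivedCategory.singleFunctors (ModuleCat.{u} R)).shiftIso (-i) i 0 (by omega)).app
        (E.opcycles i)).symm
  refine ⟨E.opcycles i, inferInstance, inferInstance, fp_opcycles E hff i,
    e.inv ≫ DerivedCategory.Q.map (toSingle E i) ≫ ι.hom, ?_⟩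
  rw [Functor.map_comp, Functor.map_comp]
  have : Mono ((DerivedCategory.homologyFunctor (ModuleCat.{u} R) i).map
      (DerivedCategory.Q.map (toSingle E i))) := mono_HQ E i
  infer_instance

end Groth.Agent.Helper5.ToSingleFP
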