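import Mathlib
import Groth.Agent.Lib.Helper5.DRing.ToSingleFP
import Groth.Agent.Lib.Helper5.DRing.PCNoeth

set_option autoImplicit false
universe u
open CategoryTheory CategoryTheory.Limits DerivedCategory
attribute [local instance] HasDerivedCategory.standard

namespace Groth.Agent.Helper5.ToSingleFP
open Groth.Agent.Helper5.PCDev Groth.Agent.Helper5.PCBuild

variable {A : Type u} [CommRing A]

/-- Artin–Rees: an injective map into a finite module stays nonzero modulo a power of `m` -/
theorem exists_quot_nonzero [IsNoetherianRing A] (m : Ideal A) {H M : Type u} [AddCommGroup H]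
    [Module A H] [AddCommGroup M] [Module A M] [Module.Finite A M]
    (j : H →ₗ[A] M) (hj : Function.Injective j) (hH : m • (⊤ : Submodule A H) ≠ ⊤) :
    ∃ n : ℕ, (Submodule.mkQ (m ^ n • (⊤ : Submodule A M))) ∘ₗ j ≠ 0 := by
  obtain ⟨k, hk⟩ := Ideal.exists_pow_inf_eq_pow_smul m (LinearMap.range j)
  refine ⟨k + 1, fun h0 => hH ?_⟩
  have hN : LinearMap.range j ≤ m ^ (k + 1) • (⊤ : Submodule A M) := by
    rintro _ ⟨h, rfl⟩
    have := LinearMap.congr_fun h0 h
    simpa using this
  have h1 := hk (k + 1) (by omega)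
  rw [inf_eq_right.2 hN, Nat.add_sub_cancel_left, pow_one] at h1
  have h2 : LinearMap.range j ≤ m • LinearMap.range j := by
    conv_lhs => rw [h1]
    exact Submodule.smul_mono le_rfl inf_le_right
  rw [eq_top_iff]
  intro h _
  have h3 : j h ∈ m • LinearMap.range j := h2 ⟨h, rfl⟩
  rw [LinearMap.range_eq_map, ← Submodule.map_smul''] at h3
  obtain ⟨h', hh', hjh⟩ := h3
  rw [← hj hjh]
  exact hh'

theorem killed_quot (m : Ideal A) (n : ℕ) (M : Type u) [AddCommGroup M] [Module A M] :
    m ^ n • (⊤ : Submodule A (M ⧸ (m ^ n • (⊤ : Submodule A M)))) = ⊥ := by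
  have h1 : (⊤ : Submodule A (M ⧸ (m ^ n • (⊤ : Submodule A M)))) =
      Submodule.map (Submodule.mkQ (m ^ n • (⊤ : Submodule A M))) ⊤ := by
    rw [Submodule.map_top, Submodule.range_mkQ]
  rw [h1, ← Submodule.map_smul'', Submodule.mkQ_map_self]

/-- vanishing of `H^i(Q.map φ)` gives vanishing of the chain-level map -/
theorem homologyMap_eq_zero_of_HQ {X Y : DRing.Cx A} (φ : X ⟶ Y) (i : ℤ)
    (h : (homologyFunctor (ModuleCat.{u} A) i).map (Q.map φ) = 0) :
    HomologicalComplex.homologyMap φ i = 0 := by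
  have hnat := (homologyFunctorFactors (ModuleCat.{u} A) i).hom.naturality φ
  have h' : (Q ⋙ homologyFunctor (ModuleCat.{u} A) i).map φ = 0 := h
  rw [h', zero_comp] at hnat
  have h2 : (homologyFunctorFactors (ModuleCat.{u} A) i).hom.app X ≫
      (HomologicalComplex.homologyFunctor (ModuleCat.{u} A) (ComplexShape.up ℤ) i).map φ = 0 :=
    hnat.symm
  have h3 := (cancel_epi ((homologyFunctorFactors (ModuleCat.{u} A) i).hom.app X)).1
    (h2.trans comp_zero.symm)
  exact h3

/-- S6989 -/
theorem s6989 (A : Type u) [CommRing A]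
    [IsNoetherianRing A] (K : Dual.D A) (hb : ∃ b : ℤ, ∀ j : ℤ, b < j → Subsingleton (Dual.HD A K j))
    (hfin : ∀ j : ℤ, Module.Finite A (Dual.HD A K j)) (m : Ideal A) [m.IsMaximal] (i : ℤ)
    (hi : m • (⊤ : Submodule A (Dual.HD A K i)) ≠ ⊤) :
    ∃ (E : Type u) (_ : AddCommGroup E) (_ : Module A E) (_ : Module.Finite A E) (n : ℕ)
      (_ : m ^ n • (⊤ : Submodule A E) = ⊥) (f : K ⟶ (shiftFunctor (Dual.D A) (-i)).obj (Dual.inD A E)),
      (DerivedCategory.homologyFunctor (ModuleCat.{u} A) i).map f ≠ 0 := by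
  have hpc : DRing.IsPseudoCoherent' A K :=
    pc'_of_forall_pc K (fun n => (pc_iff_noetherian n K).2 ⟨hb, fun j _ => hfin j⟩)
  obtain ⟨E, b, hEb, hff, ⟨e⟩⟩ := hpc
  have hMfp := fp_opcycles E hff i
  let ε : (homologyFunctor (ModuleCat.{u} A) i).obj K ≅ E.homology i :=
    (homologyFunctor (ModuleCat.{u} A) i).mapIso e.symm ≪≫
      (homologyFunctorFactors (ModuleCat.{u} A) i).app E
  let σ := HomologicalComplex.singleObjHomologySelfIso (ComplexShape.up ℤ) i (E.opcycles i)
  let jm : (homologyFunctor (ModuleCat.{u} A) i).obj K ⟶ E.opcycles i :=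
    ε.hom ≫ HomologicalComplex.homologyMap (toSingle E i) i ≫ σ.hom
  have hmono : Mono jm := by
    have := mono_homologyMap_toSingle E i
    exact mono_comp' inferInstance (mono_comp' this inferInstance)
  have hj : Function.Injective jm.hom := (ModuleCat.mono_iff_injective _).1 hmono
  obtain ⟨n, hn⟩ := exists_quot_nonzero m jm.hom hj hi
  let q : E.opcycles i ⟶ ModuleCat.of A (E.opcycles i ⧸ (m ^ n • (⊤ : Submodule A (E.opcycles i)))) :=
    ModuleCat.ofHom (Submodule.mkQ _)
  let φ' : E ⟶ (HomologicalComplex.single (ModuleCat.{u} A) (ComplexShape.up ℤ) i).obj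
      (ModuleCat.of A (E.opcycles i ⧸ (m ^ n • (⊤ : Submodule A (E.opcycles i))))) :=
    toSingle E i ≫ (HomologicalComplex.single (ModuleCat.{u} A) (ComplexShape.up ℤ) i).map q
  let ι : DerivedCategory.Q.obj ((HomologicalComplex.single (ModuleCat.{u} A) (ComplexShape.up ℤ) i).obj
      (ModuleCat.of A (E.opcycles i ⧸ (m ^ n • (⊤ : Submodule A (E.opcycles i)))))) ≅
      (shiftFunctor (Dual.D A) (-i)).obj
        (Dual.inD A (E.opcycles i ⧸ (m ^ n • (⊤ : Submodule A (E.opcycles i))))) :=
    ((DerivedCategory.singleFunctorIsoCompQ (ModuleCat.{u} A) i).app _).symm ≪≫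
      (((DerivedCategory.singleFunctors (ModuleCat.{u} A)).shiftIso (-i) i 0 (by omega)).app _).symm
  refine ⟨E.opcycles i ⧸ (m ^ n • (⊤ : Submodule A (E.opcycles i))), inferInstance, inferInstance,
    inferInstance, n, killed_quot m n _, e.inv ≫ Q.map φ' ≫ ι.hom, fun h0 => hn ?_⟩
  rw [Functor.map_comp, Functor.map_comp] at h0
  have h1 : (homologyFunctor (ModuleCat.{u} A) i).map (Q.map φ') = 0 := by
    have h2 := (cancel_epi ((homologyFunctor (ModuleCat.{u} A) i).map e.inv)).1
      (h0.trans comp_zero.symm)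
    exact (cancel_mono ((homologyFunctor (ModuleCat.{u} A) i).map ι.hom)).1
      (h2.trans zero_comp.symm)
  have h3 := homologyMap_eq_zero_of_HQ φ' i h1
  have h4 : jm ≫ q = 0 := by
    show (ε.hom ≫ HomologicalComplex.homologyMap (toSingle E i) i ≫ σ.hom) ≫ q = 0
    rw [Category.assoc, Category.assoc,
      ← HomologicalComplex.singleObjHomologySelfIso_hom_naturality,
      ← HomologicalComplex.homologyMap_comp_assoc]
    show ε.hom ≫ HomologicalComplex.homologyMap φ' i ≫ _ = 0
    rw [h3, zero_comp, comp_zero]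
  have h5 := congrArg ModuleCat.Hom.hom h4
  exact h5

end Groth.Agent.Helper5.ToSingleFP
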